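import Cfsg.Agent.H85.P6.H67_SPSpec

namespace H57 end H57
open H57
namespace H67 end H67
open H67
namespace H85.P6 end H85.P6
open H85.P6
namespace H85.P6.H57 end H85.P6.H57
open H85.P6.H57
namespace H85.P6.H67 end H85.P6.H67
open H85.P6.H67
namespace H85.P6.H67.SP end H85.P6.H67.SP
open H85.P6.H67.SP
namespace H67.P6

/-! STD-SP (row S3129), chapter III (`κ = 0`) and the recognition of `SL / SU` from the elements
`1 + η u v* + η̄ v u*`.  Notes: `blueprints/STDSP3.md`. -/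

set_option autoImplicit false
set_option linter.unusedSectionVars false

namespace H67.SP

open H64.SG (O2 Syl Cz Cs Ns Is2 Inv2 UF IsO2 fx mem_fx Cov mem_Cz)
open Matrix H57 Subgroup H67.UA
open H67.SA (SLn Au la St cI cm)
open H59.SO (Ind B1 B0 CE CW NS AutOn)

universe u

section Gen

/-- What is used about a model. -/
structure QY (Y : Type) [Group Y] : Prop where
  fin : Finite Y
  perf : commutator Y = ⊤
  odd : Odd (Nat.card (center Y))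
  nrm : ∀ N : Subgroup Y, N.Normal → N ≤ center Y ∨ N = ⊤
  ns : NS (Y ⧸ center Y)

/-- Paths of length four can be shortened through triangles. -/
def Pth {Ω : Type} (R : Ω → Ω → Prop) : Prop := ∀ x₀ x₁ x₂ x₃ x₄, R x₀ x₁ → R x₁ x₂ → R x₂ x₃ →
  R x₃ x₄ → R x₀ x₂ ∨ R x₂ x₄ ∨
    ∃ y w, R y x₂ ∧ R y x₃ ∧ R y x₄ ∧ R w x₀ ∧ R w x₁ ∧ R w x₂ ∧ R w y

/-- Tits' lemma for a graph all of whose cycles split into triangles. -/
def JobTL : Prop := ∀ (Γ : Type u) [Group Γ] (Ω : Type) [MulAction Γ Ω] (R : Ω → Ω → Prop) (o : Ω)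
  (H : Subgroup Γ) (D : Set Γ), (∀ a b, R a b → R b a) → (∀ (g : Γ) a b, R a b → R (g • a) (g • b)) →
  Pth R → (∀ h ∈ H, h • o = o) → (∀ d ∈ D, ∀ h ∈ H, d * h ∈ D) → (∀ d ∈ D, d⁻¹ ∈ D) →
  (∀ d ∈ D, R (d • o) o) → (∀ w, R w o → ∃ d ∈ D, d • o = w) → (∀ d ∈ D, d • o = o → d ∈ H) →
  (∀ d ∈ D, ∀ d' ∈ D, d • o = d' • o → d⁻¹ * d' ∈ H) →
  (∀ d ∈ D, ∀ d' ∈ D, R (d • o) (d' • o) → d⁻¹ * d' ∈ D) →
  (∀ g ∈ H ⊔ closure D, g • o = o → g ∈ H) ∧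
    ∀ w, Relation.ReflTransGen R o w → ∃ g ∈ closure D, g • o = w

/-- A perfect central extension inside `Y × G` is a graph. -/
def JobGR : Prop := ∀ (Y : Type) [Group Y] (G : Type u) [Group G] (Γ : Subgroup (Y × G)), QY Y →
  H21.multCard Y = 1 → commutator Γ = ⊤ → Function.Surjective ((MonoidHom.fst Y G).comp Γ.subtype) →
  ((MonoidHom.fst Y G).comp Γ.subtype).ker ≤ center Γ → ∃ Φ : Y →* G, ∀ p ∈ Γ, Φ p.1 = p.2

/-- `η² + η = δ`, `η ∉ F` -/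
structure Eta {F K : Type} [Field F] [Field K] (x : Qx F K) (δ : F) (η : K) : Prop where
  sq : η ^ 2 + η = x.φ δ
  sg : x.σ η = η + 1

/-- The quadratic extension exists, with both involutions. -/
def JobK : Prop := ∀ (F : Type) [Field F] [CharP F 2] [Finite F] (δ : F), (∀ ε, ε ^ 2 + ε ≠ δ) →
  ∃ (K : Type) (_ : Field K) (_ : CharP K 2) (_ : Finite K) (x : Qx F K) (η : K), Eta x δ η ∧
    (∃ s : StarRing K, ∀ a : K, s.star a = a) ∧ ∃ s : StarRing K, ∀ a : K, s.star a = x.σ a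

/-- the element of `SL` with matrix `M` (or `1`) -/
noncomputable def sl {m : ℕ} {F : Type} [Field F] (M : Matrix (Fin (m + 1)) (Fin (m + 1)) F) :
    SLn m F := open Classical in if h : M.det = 1 then ⟨M, h⟩ else 1

/-- extension of scalars -/
def vx {m : ℕ} {F K : Type} [Field F] [Field K] (φ : F →+* K) (v : Vn m F) : Vn m K :=
  fun i => φ (v i)

end Gen

section Rel

variable {n : ℕ} {F : Type} [Field F] [StarRing F] [TrivialStar F] [CharP F 2] [Finite F]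

/-- the general element of `S²⟨u, v⟩` -/
noncomputable def m2 (u v : Vn n F) (a b c : F) : XU n F := Tc a u * Tc b v * qq (c • v) u
/-- the general element of `S²⟨u, v, w⟩` -/
noncomputable def m3 (u v w : Vn n F) (a b c d f h : F) : XU n F :=
  m2 u v a b d * Tc c w * qq (f • w) u * qq (h • w) v
/-- `u`, `v`, `w` are pairwise perpendicular -/
structure P3 (u v w : Vn n F) : Prop where
  uv : hf u v = 0
  uw : hf u w = 0
  vw : hf v w = 0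
/-- `e₀ ↦ l e_n`, `e_n ↦ l⁻¹ e₀` -/
noncomputable def sw (l : F) : XU n F := Tc l⁻¹ (ev 0) * Tc l (ev (la n)) * Tc l⁻¹ (ev 0)

variable {G : Type u} [Group G] (e : XU n F →* G)

/-- What is used about `C(t)`. -/
structure AW (t : G) : Prop where
  inj : Function.Injective e
  tt : t * t = 1
  cen : ∀ g, t * e g = e g * t
  ne : ∀ g, t ≠ e g
  ck : ∀ g, g * t = t * g → (∀ p, g * e p = e p * g) → g = 1 ∨ g = t
  vQ : ∀ g (u : Vn n F), u ≠ 0 → g * t = t * g →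
    (∀ x c, hf x u = 0 → g * e (EE u x c) = e (EE u x c) * g) →
    ∃ x c, hf x u = 0 ∧ (g = e (EE u x c) ∨ g = t * e (EE u x c))
  v1 : ∀ g (u : Vn n F), u ≠ 0 → g * t = t * g → (∀ p, ac p u = u → g * e p = e p * g) →
    ∃ a, g = e (Tc a u) ∨ g = t * e (Tc a u)
  v2 : ∀ g (u v : Vn n F), hf u v = 0 → Li u v → g * t = t * g →
    (∀ p, ac p u = u → ac p v = v → g * e p = e p * g) →
    ∃ a b c, g = e (m2 u v a b c) ∨ g = t * e (m2 u v a b c)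
  v3 : ∀ g (u v w : Vn n F), P3 u v w → Li3 u v w → g * t = t * g →
    (∀ p, ac p u = u → ac p v = v → ac p w = w → g * e p = e p * g) →
    ∃ a b c d f h, g = e (m3 u v w a b c d f h) ∨ g = t * e (m3 u v w a b c d f h)
  uq2 : ∀ (u v : Vn n F) a b c a' b' c', hf u v = 0 → Li u v → m2 u v a b c = m2 u v a' b' c' →
    a = a' ∧ b = b' ∧ c = c'
  uq3 : ∀ (u v w : Vn n F) a b c d f h a' b' c' d' f' h', P3 u v w → Li3 u v w →
    m3 u v w a b c d f h = m3 u v w a' b' c' d' f' h' →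
      a = a' ∧ b = b' ∧ c = c' ∧ d = d' ∧ f = f' ∧ h = h'

section Tau

variable (τ : Vn n F → G)

/-- An equivariant family. -/
structure R0 : Prop where
  zero : τ 0 = 1
  eqv : ∀ g v, e g * τ v * (e g)⁻¹ = τ (ac g v)

/-- `τ v` maps `t` to `t e(TT v)`. -/
def Tt (t : G) : Prop := ∀ v, τ v * t * (τ v)⁻¹ = t * e (TT v)

/-- squares -/
def Sq (ρ : F) : Prop := ∀ v, τ v * τ v = e (Tc ρ v)

/-- `1 + η (u v* + v u*)` for `β = 0`, `1 + η u v* + η̄ v u*` for `β = 1` -/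
noncomputable def sg (β : F) (u v : Vn n F) : G := τ (u + v) * τ u * τ v * e (Tc β u * Tc β v)

/-- Commutators of independent pairs. -/
structure R1a (β : F) : Prop extends R0 e τ where
  cmi : ∀ u v, hf u v = 0 → Li u v → cm (τ u) (τ v) = e (qq (β • v) u)

/-- Commutators. -/
structure R1 (β : F) : Prop extends R0 e τ where
  cmp : ∀ u v, hf u v = 0 → cm (τ u) (τ v) = e (qq (β • v) u)

/-- Additivity on independent triples. -/
structure R2 (β : F) : Prop extends R1 e τ β where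
  sq : Sq e τ β
  sadd3 : ∀ u v w, P3 u v w → Li3 u v w → sg e τ β u (v + w) = sg e τ β u v * sg e τ β u w

/-- Additivity off the line `F u`. -/
structure R3 (β : F) : Prop extends R2 e τ β where
  ssq : ∀ u v, hf u v = 0 → sg e τ β u v * sg e τ β u v = 1
  ssym : ∀ u v, hf u v = 0 → sg e τ β v u = sg e τ β u v * e (qq (β • v) u)
  stau : ∀ u v w, P3 u v w → τ w * sg e τ β u v = sg e τ β u v * τ w
  saddi : ∀ u v w, P3 u v w → Li u v → Li u w → Li u (v + w) →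
    sg e τ β u (v + w) = sg e τ β u v * sg e τ β u w
  phi : ∃ f : F → F, f 1 = β ∧ ∀ u v a, hf u v = 0 → Li u v →
    sg e τ β u (v + a • u) = sg e τ β u v * e (Tc (f a) u)
  sscali : ∀ (a : F) u v, hf u v = 0 → Li u v → a ≠ 0 → sg e τ β (a • u) v = sg e τ β u (a • v)

/-- The relations inside the totally isotropic subspaces. -/
structure RA (β : F) : Prop extends R1 e τ β where
  sq : Sq e τ β
  ssq : ∀ u v, hf u v = 0 → sg e τ β u v * sg e τ β u v = 1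
  ssym : ∀ u v, hf u v = 0 → sg e τ β v u = sg e τ β u v * e (qq (β • v) u)
  stau : ∀ u v w, P3 u v w → τ w * sg e τ β u v = sg e τ β u v * τ w
  nadd : ∀ (a b : F) u, τ (a • u) * τ (b • u) = τ ((a + b) • u) * e (Tc (β * a * b) u)
  sadd : ∀ u v w, P3 u v w → sg e τ β u (v + w) = sg e τ β u v * sg e τ β u w
  sscal : ∀ (a : F) u v, hf u v = 0 → sg e τ β (a • u) v = sg e τ β u (a • v)
  shift : ∀ (a : F) u, sg e τ β u (a • u) = e (Tc (β * a) u)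

/-- The product in `Q*_u`. -/
def RB (β δ : F) : Prop := ∀ u v w, hf u v = 0 → hf u w = 0 →
  sg e τ β u v * sg e τ β u w =
    sg e τ β u (v + w) * τ (rt ((1 + β) * hf v w) • u) * e (Tc (δ * hf v w) u)

/-- The case `β = 0`. -/
structure RD (δ : F) : Prop extends RA e τ 0 where
  mul : RB e τ 0 δ
  cS : ∀ u v x, hf u v = 0 → hf u x = 0 → τ x * sg e τ 0 u v * (τ x)⁻¹ =
    e (qq ((δ * hf v x) • x) u) * sg e τ 0 u (v + hf v x • x) * τ ((rt δ * hf v x) • u)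

/-- `Q*_u` (`β = 0`) -/
def AD (u : Vn n F) : Subgroup G := closure {g | ∃ x c v, ∃ a : F, hf x u = 0 ∧ hf u v = 0 ∧
  g = e (EE u x c) * sg e τ 0 u v * τ (a • u)}
/-- `P*_u` (`β = 0`) -/
def PD (u : Vn n F) : Subgroup G :=
  closure {g | (∃ p, ac p u = u ∧ g = e p) ∨ ∃ y, hf y u = 0 ∧ g = τ y}
/-- the Levi factor (`β = 0`) -/
def LD (u u' : Vn n F) : Subgroup G := closure
  {g | (∃ p, ac p u = u ∧ ac p u' = u' ∧ g = e p) ∨ ∃ y, hf y u = 0 ∧ hf y u' = 0 ∧ g = τ y}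
/-- everything (`β = 0`) -/
def GD : Subgroup G := closure (Set.range e ∪ Set.range τ)

/-- The structure of the parabolic subgroups (`β = 0`). -/
structure SD : Prop where
  nf : ∀ u, ∀ g ∈ AD e τ u, ∃ x c v, ∃ a : F, hf x u = 0 ∧ hf u v = 0 ∧
    g = e (EE u x c) * sg e τ 0 u v * τ (a • u)
  dec : ∀ u u', hf u u' = 1 → ∀ p ∈ PD e τ u, ∃ a ∈ AD e τ u, ∃ l ∈ LD e τ u u', p = a * l
  nrm : ∀ u, ∀ p ∈ PD e τ u, ∀ a ∈ AD e τ u, p * a * p⁻¹ ∈ AD e τ u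
  gen : ∀ u u', hf u u' = 1 → AD e τ u ⊔ AD e τ u' = GD e τ
  perf : GD e τ ≤ ⁅GD e τ, GD e τ⁆

end Tau

section Sig

variable (s : Vn n F → Vn n F → G)

/-- `s u v` maps `t` to `t e(u ∧ v)`. -/
def Sv (t : G) : Prop := ∀ u v, hf u v = 0 → s u v * t * (s u v)⁻¹ = t * e (qq v u)

/-- The relations of the elements `s u v = 1 + η u v* + η̄ v u*`, `η η̄ = δ`, `η + η̄ = 1`. -/
structure RE (δ : F) : Prop where
  eqv : ∀ g u v, hf u v = 0 → e g * s u v * (e g)⁻¹ = s (ac g u) (ac g v)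
  mul : ∀ u v w, hf u v = 0 → hf u w = 0 → s u v * s u w = s u (v + w) * e (Tc (δ * hf v w) u)
  ssym : ∀ u v, hf u v = 0 → s v u = s u v * e (qq v u)
  sscal : ∀ (a : F) u v, hf u v = 0 → s (a • u) v = s u (a • v)
  shift : ∀ (a : F) u, s u (a • u) = e (Tc a u)
  cS : ∀ u x z v, P3 u x z → hf u v = 0 → s x z * s u v * (s x z)⁻¹ =
    e (qq (δ • (hf v z • x + hf v x • z)) u) * s u (v + hf v x • z)

/-- `EE u (x + η̄ v) (c + η̄ hf v x)` -/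
noncomputable def EA (u x : Vn n F) (c : F) (v : Vn n F) : G := e (EE u x c) * s u v
/-- the transvection `Tc d (x + η̄ v)` -/
noncomputable def TA (δ d : F) (x v : Vn n F) : G := e (Tc d x) * s (d • x) v * e (Tc (d * δ) v)
/-- `Q*_u` -/
def AE (u : Vn n F) : Subgroup G :=
  closure {g | ∃ x c v, hf x u = 0 ∧ hf u v = 0 ∧ g = EA e s u x c v}
/-- `P*_u` -/
def PE (u : Vn n F) : Subgroup G :=
  closure {g | (∃ p, ac p u = u ∧ g = e p) ∨ ∃ x z, P3 u x z ∧ g = s x z}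
/-- the Levi factor -/
def LE (u u' : Vn n F) : Subgroup G := closure
  {g | (∃ p, ac p u = u ∧ ac p u' = u' ∧ g = e p) ∨ ∃ x z, P3 u x z ∧ hf u' x = 0 ∧ hf u' z = 0 ∧
    g = s x z}
/-- everything -/
def GE : Subgroup G := closure (Set.range e ∪ {g | ∃ u v, hf u v = 0 ∧ g = s u v})

/-- The structure of the parabolic subgroups. -/
structure SE : Prop where
  nf : ∀ u, ∀ g ∈ AE e s u, ∃ x c v, hf x u = 0 ∧ hf u v = 0 ∧ g = EA e s u x c v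
  nfH : ∀ g ∈ AE e s (ev 0), ∃ x c v, Hy x ∧ Hy v ∧ g = EA e s (ev 0) x c v
  dec : ∀ u u', hf u u' = 1 → ∀ p ∈ PE e s u, ∃ a ∈ AE e s u, ∃ l ∈ LE e s u u', p = a * l
  nrm : ∀ u, ∀ p ∈ PE e s u, ∀ a ∈ AE e s u, p * a * p⁻¹ ∈ AE e s u
  gen : ∀ u u', hf u u' = 1 → AE e s u ⊔ AE e s u' = GE e s
  perf : GE e s ≤ ⁅GE e s, GE e s⁆

/-- The action of a model on the isotropic vectors; `o = e₀`. -/
structure Md (δ : F) {Ω : Type} [MulAction G Ω] (R : Ω → Ω → Prop) (o : Ω) : Prop where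
  symm : ∀ a b, R a b → R b a
  inv : ∀ (g : G) a b, R a b → R (g • a) (g • b)
  pth : Pth R
  fixe : ∀ p, ac p (ev 0) = ev 0 → e p • o = o
  fixs : ∀ x z, P3 (ev 0) x z → s x z • o = o
  adj : ∀ l, l ≠ 0 → R (e (sw l) • o) o
  nb : ∀ w, R w o → ∃ x c v l, Hy x ∧ Hy v ∧ l ≠ 0 ∧ w = (EA e s (ev 0) x c v * e (sw l)) • o
  reg : ∀ x c v l l', Hy x → Hy v → l ≠ 0 → l' ≠ 0 →
    (EA e s (ev 0) x c v * e (sw l)) • o = e (sw l') • o → l = l' ∧ x = 0 ∧ v = 0 ∧ c = 0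
  tri : ∀ x c v l l', Hy x → Hy v → l ≠ 0 → l' ≠ 0 →
    R ((EA e s (ev 0) x c v * e (sw l)) • o) (e (sw l') • o) → hf x v = 0 ∧ c ≠ 0
  idn : ∀ x c v, Hy x → Hy v → hf x v = 0 → c ≠ 0 → EA e s (ev (la n)) x c v =
    EA e s (ev 0) (c⁻¹ • x) c⁻¹ (c⁻¹ • v) * e (sw c) * TA e s δ c⁻¹ (x + ev 0) v

end Sig

variable {e}

theorem R0.fix {τ : Vn n F → G} (h : R0 e τ) {g : XU n F} {v : Vn n F} (hv : ac g v = v) :
    e g * τ v = τ v * e g := by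
  have := h.eqv g v
  rwa [hv, mul_inv_eq_iff_eq_mul] at this

theorem R0.sg_eqv [FV n F] {τ : Vn n F → G} (h : R0 e τ) (β : F) (g : XU n F) (u v : Vn n F) :
    e g * sg e τ β u v * (e g)⁻¹ = sg e τ β (ac g u) (ac g v) := by
  simp only [sg, ← ac_add, ← h.eqv, ← Tc_conj (FV.iso _) (star_trivial β) g, map_mul, map_inv]
  group

theorem R0.sv [FV n F] {τ : Vn n F → G} {t : G} (h : R0 e τ) (hc : ∀ g, t * e g = e g * t)
    (ht : Tt e τ t) (β : F) : Sv e (sg e τ β) t := fun u v huv => by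
  have p := FV.pp u v huv
  have k : ∀ {a b : Vn n F}, hf a b = 0 → τ a * e (TT b) * (τ a)⁻¹ = e (TT b) := fun {a b} hab => by
    rw [mul_inv_eq_iff_eq_mul, h.fix (by rw [ac_Tc (FV.iso b) (star_one F), hab]; simp)]
  have h1 : hf (u + v) u = 0 := by rw [hf_add_left, FV.iso u, hf_symm huv, add_zero]
  have h2 : hf (u + v) v = 0 := by rw [hf_add_left, FV.iso v, huv, add_zero]
  calc _ = τ (u + v) * (τ u * (τ v * (e (Tc β u * Tc β v) * t * (e (Tc β u * Tc β v))⁻¹) * (τ v)⁻¹) *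
        (τ u)⁻¹) * (τ (u + v))⁻¹ := by rw [sg]; group
    _ = _ := by
      have c : ∀ a b g : G, g * (a * b) * g⁻¹ = g * a * g⁻¹ * (g * b * g⁻¹) := fun a b g => by group
      rw [← hc, mul_inv_cancel_right, ht, c t, ht, k huv, c (t * _), c t, ht, k h1, k h2,
        qq_eq_TT p, map_mul, map_mul, mul_assoc, mul_assoc, mul_assoc]

end Rel

section Models

variable {n : ℕ} {F : Type} [Field F] [StarRing F] [TrivialStar F] [CharP F 2] [Finite F]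
  {K : Type} [Field K] [StarRing K] [CharP K 2] [Finite K]

/-- `1 + η v v*` in `Sp_(2k)(q²)` -/
noncomputable def TS (φ : F →+* K) (η : K) (v : Vn n F) : XU n K := Tc η (vx φ v)
/-- `1 + η u v* + η̄ v u*` in `SU_(2k)(q)` -/
noncomputable def SU0 (φ : F →+* K) (η : K) (u v : Vn n F) : XU n K :=
  EE (vx φ u) ((η + 1) • vx φ v) 0
/-- `1 + v w* + w v* + η v v*` in `SU_(2k+1)(q)` -/
noncomputable def TU (φ : F →+* K) (η : K) (v : Vn n F) : XU (n + 1) K :=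
  EE (iv (vx φ v)) (ev (mid n)) η
/-- `1 + ε u v* + (ε + 1) v u*` in `SL_(2k)(q)` -/
noncomputable def SL0 (ε : F) (u v : Vn n F) : SLn n F := sl (1 + ε • op u v + (ε + 1) • op v u)
/-- `1 + v w* + w v* + ε v v*` in `SL_(2k+1)(q)` -/
noncomputable def TL (ε : F) (v : Vn n F) : SLn (n + 1) F := sl (mE (iv v) (ev (mid n)) ε)

variable (n F) in
/-- `j` is the natural embedding `SL(V) ≤ SL(V ⊕ ⟨ev mid⟩)`. -/
def IsInL (j : SLn n F →* SLn (n + 1) F) : Prop :=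
  ∀ g, (j g).1 *ᵥ ev (mid n) = ev (mid n) ∧ ∀ v, (j g).1 *ᵥ iv v = iv (g.1 *ᵥ v)

/-- the graph on the isotropic vectors -/
def RI (x y : Vn n K) : Prop := Iso x ∧ Iso y ∧ star (hf x y) = hf x y ∧ hf x y ≠ 0
/-- the graph on the vectors of norm one -/
def RN (x y : Vn n K) : Prop := hf x x = 1 ∧ hf y y = 1 ∧ hf x y = 1
/-- the graph on the pairs (vector, functional) -/
def RP (p p' : Vn n F × Vn n F) : Prop := hf p.1 p.2 = 1 ∧ hf p'.1 p'.2 = 1 ∧ hf p.1 p'.2 = 1 ∧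
  hf p'.1 p.2 = 1 ∧ (p.1 = p'.1 ↔ p.2 = p'.2)

variable (x : Qx F K) (δ : F) (η : K)

variable (n) in
/-- The model `Sp_(2k)(q²)`. -/
structure MS (h : ∀ a : K, star a = a) : Prop where
  rd : RD (bc x.φ (x.st (Or.inl h)) : XU n F →* XU n K) (TS x.φ η) δ
  fe : ∀ g : XU n F, fa x.σ (x.sf (Or.inl h)) (bc x.φ (x.st (Or.inl h)) g) = bc x.φ (x.st (Or.inl h)) g
  ft : ∀ v : Vn n F, fa x.σ (x.sf (Or.inl h)) (TS x.φ η v) =
    bc x.φ (x.st (Or.inl h)) (TT v) * TS x.φ η v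
  ee : ∀ (u y : Vn n F) c, hf y u = 0 →
    bc x.φ (x.st (Or.inl h)) (EE u y c) = EE (vx x.φ u) (vx x.φ y) (x.φ c)
  sg : ∀ u v : Vn n F, hf u v = 0 →
    sg (bc x.φ (x.st (Or.inl h))) (TS x.φ η) 0 u v = qq (η • vx x.φ v) (vx x.φ u)
  inj : ∀ (u y v : Vn n F) (c a : F), u ≠ 0 → hf y u = 0 → hf u v = 0 →
    EE (vx x.φ u) (vx x.φ y) (x.φ c) * qq (η • vx x.φ v) (vx x.φ u) * TS x.φ η (a • u) = 1 →
      EE u y c = 1 ∧ a = 0 ∧ ∃ b : F, v = b • u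
  lev : ∀ (u u' : Vn n F), hf u u' = 1 →
    ∀ a ∈ AD (bc x.φ (x.st (Or.inl h))) (TS x.φ η) u,
    ∀ l ∈ LD (bc x.φ (x.st (Or.inl h))) (TS x.φ η) u u', a * l = 1 → a = 1
  dec : ∀ c : K, ∃ a b : F, c = x.φ a + η * x.φ b

variable (n) in
/-- The model `SU_(2k)(q)`. -/
structure MU (h : ∀ a : K, star a = x.σ a) : Prop where
  par : UA.Par n K
  par' : UA.Par (n + 1) K
  re : RE (bc x.φ (x.st (Or.inr h)) : XU n F →* XU n K) (SU0 x.φ η) δ
  gen : GE (bc x.φ (x.st (Or.inr h)) : XU n F →* XU n K) (SU0 x.φ η) = ⊤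
  genP : ∀ g : XU n K, ac g (ev 0) = ev 0 →
    g ∈ PE (bc x.φ (x.st (Or.inr h)) : XU n F →* XU n K) (SU0 x.φ η) (ev 0)
  fe : ∀ g : XU n F, fa x.σ (x.sf (Or.inr h)) (bc x.φ (x.st (Or.inr h)) g) = bc x.φ (x.st (Or.inr h)) g
  fs : ∀ u v : Vn n F, hf u v = 0 → fa x.σ (x.sf (Or.inr h)) (SU0 x.φ η u v) = SU0 x.φ η v u

variable (n) in
/-- The model `SU_(2k+1)(q)`. -/
structure MU1 (h : ∀ a : K, star a = x.σ a) : Prop where
  isIns : IsIns n K (ins n K)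
  inj : Function.Injective (ins n K)
  rng : ∀ g : XU (n + 1) K, ac g (ev (mid n)) = ev (mid n) → ∃ y, ins n K y = g
  sq : ∀ g : XU n F, bc x.φ (x.st (Or.inr h)) (ins n F g) = ins n K (bc x.φ (x.st (Or.inr h)) g)
  r1 : R1 ((bc x.φ (x.st (Or.inr h))).comp (ins n F)) (TU x.φ η) 1
  tsq : Sq ((bc x.φ (x.st (Or.inr h))).comp (ins n F)) (TU x.φ η) 1
  sg : ∀ u v : Vn n F, hf u v = 0 →
    sg ((bc x.φ (x.st (Or.inr h))).comp (ins n F)) (TU x.φ η) 1 u v = ins n K (SU0 x.φ η u v)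
  cj : ∀ (y : XU n K) (v : Vn n K), Iso v →
    ins n K y * EE (iv v) (ev (mid n)) η * (ins n K y)⁻¹ = EE (iv (ac y v)) (ev (mid n)) η
  mv : ∀ v : Vn n K, Iso v → ac (EE (iv v) (ev (mid n)) η) (ev (mid n)) = ev (mid n) + iv v
  nb : ∀ z : Vn (n + 1) K, RN z (ev (mid n)) ↔ ∃ v, Iso v ∧ z = ev (mid n) + iv v
  hi : ∀ v w : Vn n K, hf (ev (mid n) + iv v) (ev (mid n) + iv w) = 1 + hf v w
  trans : ∀ z : Vn (n + 1) K, hf z z = 1 → Relation.ReflTransGen RN (ev (mid n)) z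
  fi : ∀ y : XU n K, fa x.σ (x.sf (Or.inr h)) (ins n K y) = ins n K (fa x.σ (x.sf (Or.inr h)) y)
  ft : ∀ v : Vn n F, fa x.σ (x.sf (Or.inr h)) (TU x.φ η v) =
    bc x.φ (x.st (Or.inr h)) (ins n F (TT v)) * TU x.φ η v

variable (n) in
/-- The model `SL_(2k+1)(q)`; `g` acts on pairs by `(g, τ g)`. -/
structure ML1 (ε : F) (j : SLn n F →* SLn (n + 1) F) : Prop where
  isIn : IsInL n F j
  inj : Function.Injective j
  rng : ∀ g : SLn (n + 1) F, g.1 *ᵥ ev (mid n) = ev (mid n) →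
    (tau (n + 1) F g).1 *ᵥ ev (mid n) = ev (mid n) → ∃ y, j y = g
  sq : ∀ g : XU n F, io (n + 1) F (ins n F g) = j (io n F g)
  r1 : R1 ((io (n + 1) F).comp (ins n F)) (TL ε) 1
  tsq : Sq ((io (n + 1) F).comp (ins n F)) (TL ε) 1
  sg : ∀ u v : Vn n F, hf u v = 0 →
    sg ((io (n + 1) F).comp (ins n F)) (TL ε) 1 u v = j (SL0 ε u v)
  hft : ∀ (m : ℕ) (g : SLn m F) (a b : Vn m F), hf (g.1 *ᵥ a) ((tau m F g).1 *ᵥ b) = hf a b
  mv : ∀ v : Vn n F, (TL ε v).1 *ᵥ ev (mid n) = ev (mid n) + iv v ∧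
    (tau (n + 1) F (TL ε v)).1 *ᵥ ev (mid n) = ev (mid n) + iv v
  fx : ∀ v z : Vn n F, hf z v = 0 → (TL ε v).1 *ᵥ iv z = iv z ∧
    (tau (n + 1) F (TL ε v)).1 *ᵥ iv z = iv z
  cj : ∀ y : SLn n F, y.1 *ᵥ ev 0 = ev 0 → (tau n F y).1 *ᵥ ev 0 = ev 0 →
    j y * TL ε (ev 0) = TL ε (ev 0) * j y
  dec : ∀ z : Vn (n + 1) F, hf z (ev (mid n)) = 1 ↔ ∃ v, z = ev (mid n) + iv v
  hi : ∀ v w : Vn n F, hf (ev (mid n) + iv v) (ev (mid n) + iv w) = 1 + hf v w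
  fi : ∀ y, tau (n + 1) F (j y) = j (tau n F y)
  ft : ∀ v : Vn n F, tau (n + 1) F (TL ε v) = io (n + 1) F (ins n F (TT v)) * TL ε v
  /-- the stabiliser of `(e₀, e₀)` -/
  genP : ∀ g : SLn n F, g.1 *ᵥ ev 0 = ev 0 → (tau n F g).1 *ᵥ ev 0 = ev 0 →
    g ∈ PE (io n F) (SL0 ε) (ev 0)
  w1 : ∀ a f : Vn n F, a ≠ 0 → f ≠ 0 → hf a f = 0 →
    ∃ g : SLn n F, g.1 *ᵥ ev 0 = a ∧ (tau n F g).1 *ᵥ ev 0 = f
  w2 : ∀ a f a' f' : Vn n F, Li a a' → Li f f' → hf a f = 0 → hf a f' = 0 → hf a' f = 0 →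
    hf a' f' = 0 → ∃ g : SLn n F, g.1 *ᵥ ev 0 = a ∧ (tau n F g).1 *ᵥ ev 0 = f ∧
      g.1 *ᵥ ev 1 = a' ∧ (tau n F g).1 *ᵥ ev 1 = f'

end Models

/-- A statement on a quadratic extension with `η`; `b = true`: `star = σ`, `b = false`: trivial. -/
def AllK (P : ∀ (_ : ℕ) (F : Type) [Field F] [StarRing F] [TrivialStar F] [CharP F 2] [Finite F]
    (K : Type) [Field K] [StarRing K] [CharP K 2] [Finite K] (_ : Qx F K) (_ : F) (_ : K), Prop) :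
    Prop :=
  AllB fun n F _ _ _ _ _ => ∀ (K : Type) [Field K] [StarRing K] [CharP K 2] [Finite K] (x : Qx F K)
    (δ : F) (η : K), Eta x δ η → P n F K x δ η

/-- A statement for all groups `G` (not necessarily finite) and `e`. -/
def AllE (P : ∀ (n : ℕ) (F : Type) [Field F] [StarRing F] [TrivialStar F] [CharP F 2] [Finite F]
    (G : Type u) [Group G], (XU n F →* G) → Prop) : Prop :=
  AllB fun n F _ _ _ _ _ => ∀ (G : Type u) [Group G] (e : XU n F →* G), P n F G e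

/-! ### the relations -/

def JobAW : Prop := AllA.{u} fun _ _ _ _ _ _ _ _ _ e t => CH e t → AW e t
def JobT1a : Prop := AllA.{u} fun _ _ _ _ _ _ _ _ _ e t => AW e t → Tr e t 0 →
  ∃ τ β ρ, R1a e τ β ∧ Tt e τ t ∧ Sq e τ ρ
def JobT1b : Prop := AllA.{u} fun _ _ _ _ _ _ _ _ _ e t => AW e t → ∀ τ β ρ, R1a e τ β →
  Tt e τ t → Sq e τ ρ → R1 e τ β
def JobT2 : Prop := AllA.{u} fun _ _ _ _ _ _ _ _ _ e t => AW e t → ∀ τ β ρ, R1 e τ β →
  Tt e τ t → Sq e τ ρ → R2 e τ β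
def JobT3 : Prop := AllA.{u} fun _ _ _ _ _ _ _ _ _ e t => AW e t → ∀ τ β, R2 e τ β →
  Tt e τ t → R3 e τ β
def JobT4 : Prop := AllE.{u} fun _ _ _ _ _ _ _ _ _ e => ∀ τ β, R3 e τ β → RA e τ β
def JobTB : Prop := AllA.{u} fun _ _ _ _ _ _ _ _ _ e t => AW e t → ∀ τ β, RA e τ β →
  Tt e τ t → (β = 0 ∨ β = 1) ∧ ∃ δ, RB e τ β δ
def JobTD : Prop := AllA.{u} fun _ _ _ _ _ _ _ _ _ e t => AW e t → ∀ τ δ, RA e τ 0 →
  Tt e τ t → RB e τ 0 δ → RD e τ δ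
def JobTE : Prop := AllA.{u} fun _ _ _ _ _ _ _ _ _ e t => AW e t → ∀ τ δ, RA e τ 1 →
  Tt e τ t → RB e τ 1 δ → RE e (sg e τ 1) δ

/-! ### `β = 0` -/

def JobRW : Prop := AllA.{u} fun n F _ _ _ _ _ _ _ e t => H21.multCard (XU n F) ∣ 4 → AW e t →
  ∀ τ δ ε, RD e τ δ → Tt e τ t → ε ^ 2 + ε = δ → RW e t
def JobSD : Prop := AllE.{u} fun _ _ _ _ _ _ _ _ _ e => ∀ τ δ, RD e τ δ → SD e τ
def JobMS : Prop := AllK fun n _ _ _ _ _ _ _ _ _ _ _ x δ η => ∀ h, MS n x δ η h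
/-- The presentation of `Sp_(2k)(K)`, `|K| > 2`, modulo the centre. -/
def JobPR : Prop := AllB fun n K _ _ _ _ _ => 2 < Nat.card K → ∀ (Γ : Type u) [Group Γ]
  (π : Γ →* XU n K) (z m : Fin (n + 1) → K → Γ) (P : Fin (n + 1) → Subgroup Γ),
  (∀ j c, π (z j c) = Tc c (ev j)) →
  (∀ i c, i.val + 1 < kk n → π (m i c) = qq (c • ev (i + 1)) (ev i)) →
  (∀ l, l.val < kk n → (∀ g ∈ P l, π g = 1 → g ∈ center Γ) ∧ (∀ j c, j ≠ l.rev → z j c ∈ P l) ∧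
    ∀ i c, i.val + 1 < kk n → m i c ∈ P l) →
  closure {g | (∃ j c, g = z j c) ∨ ∃ i c, i.val + 1 < kk n ∧ g = m i c} = ⊤ →
  π.ker ≤ center Γ ∧ Function.Surjective π
/-- `X` is generated by the long root subgroups and the simple short `e_i + e_(i+1)` ones. -/
def JobGX : Prop := AllB fun n F _ _ _ _ _ => ∀ A : Subgroup (XU n F), (∀ j c, Tc c (ev j) ∈ A) →
  (∀ (i : Fin (n + 1)) (c : F), i.val + 1 < kk n → qq (c • ev (i + 1)) (ev i) ∈ A) → A = ⊤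
def JobQS : Prop := AllB fun n F _ _ _ _ _ => QY (XU n F)
def JobRS : Prop := JobGR.{u} → JobPR.{u} → JobGX → JobSD.{u} → JobMS → JobQS →
  (All fun n F _ _ _ _ _ => Base n F) → AllK fun n F _ _ _ _ _ K _ _ _ _ _ δ _ =>
  (∀ a : K, star a = a) → ∀ (G : Type u) [Group G] [Finite G] (e : XU n F →* G) (t : G) τ,
    AW e t → RD e τ δ → Tt e τ t → RS2 e t

/-! ### `SL_(2k)`, `SU_(2k)` from `RE` -/

def JobSE : Prop := AllE.{u} fun _ _ _ _ _ _ _ _ _ e => ∀ s δ, RE e s δ → SE e s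
def JobKE : Prop := JobTL.{u} → AllE.{u} fun n F _ _ _ _ _ Γ _ e => ∀ s δ, RE e s δ → SE e s →
  GE e s = ⊤ → ∀ (Y : Type) [Group Y] (π : Γ →* Y) (Ω : Type) [MulAction Y Ω] (R : Ω → Ω → Prop)
    (o : Ω), Md (G := Y) (π.comp e) (fun u v : Vn n F => π (s u v)) δ R o → π.ker ≤ center Γ
def JobMU : Prop := AllK fun n _ _ _ _ _ _ _ _ _ _ _ x δ η => ∀ h, MU n x δ η h
def JobPI : Prop := ∀ (n : ℕ) (K : Type) [Field K] [StarRing K] [CharP K 2] [Finite K]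
  [UA.Par n K], Odd n → Pth (RI (n := n) (K := K))
def JobMdU : Prop := JobPI → AllK fun n F _ _ _ _ _ K _ _ _ _ x δ η => ∀ h, MU n x δ η h →
  ∃ (_ : MulAction (XU n K) (Vn n K)), Md (G := XU n K)
    (bc x.φ (x.st (Or.inr h)) : XU n F →* XU n K) (SU0 x.φ η) δ RI (ev 0 : Vn n K)
def JobQU : Prop := ∀ (n : ℕ) (K : Type) [Field K] [StarRing K] [CharP K 2] [Finite K]
  [UA.Par n K], QY (XU n K)
def JobQL : Prop := ∀ (n : ℕ) (F : Type) [Field F] [CharP F 2] [Finite F], 5 ≤ n → QY (SLn n F)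
/-- Step B, unitary. -/
def BU : Prop := AllK fun n F _ _ _ _ _ K _ _ _ _ x δ η => ∀ (h : ∀ a : K, star a = x.σ a)
  (G : Type u) [Group G] [Finite G] (e : XU n F →* G) (t : G) s, Function.Injective e →
    (∀ g, t * e g = e g * t) → RE e s δ → Sv e s t →
    ∃ Φ : XU n K →* G, Hm (bc x.φ (x.st (Or.inr h))) (fa x.σ (x.sf (Or.inr h))) e t Φ ∧
      ∀ u v, hf u v = 0 → Φ (SU0 x.φ η u v) = s u v
def JobBU : Prop := JobGR.{u} → JobSE.{u} → JobTL.{u} → JobKE.{u} → JobMU → JobPI → JobMdU → JobQU →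
  BU.{u}
/-- Step B, linear. -/
def BL : Prop := AllA.{u} fun n F _ _ _ _ _ G _ e t => ∀ s δ ε, ε ^ 2 + ε = δ →
  Function.Injective e → (∀ g, t * e g = e g * t) → RE e s δ → Sv e s t →
    ∃ Φ : SLn n F →* G, Hm (io n F) (tau n F) e t Φ ∧ ∀ u v, hf u v = 0 → Φ (SL0 ε u v) = s u v
def JobBL : Prop := JobQL → BL.{u}

/-! ### `SL_(2k+1)`, `SU_(2k+1)` -/

/-- The norm-one graph. -/
def JobPN : Prop := ∀ (n : ℕ) (K : Type) [Field K] [StarRing K] [CharP K 2] [Finite K]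
  [UA.Par n K], 6 ≤ n → Pth (RN (n := n) (K := K)) ∧
    ∀ a z : Vn n K, hf a a = 1 → hf z z = 1 → Relation.ReflTransGen RN a z
def JobMU1 : Prop := JobPN → AllK fun n _ _ _ _ _ _ _ _ _ _ _ x δ η => ∀ h, MU n x δ η h →
  MU1 n x η h
def JobCU : Prop := JobTL.{u} → JobPN → JobQU → AllK fun n F _ _ _ _ _ K _ _ _ _ x δ η =>
  ∀ (h : ∀ a : K, star a = x.σ a), MU n x δ η h → MU1 n x η h →
  ∀ (G : Type u) [Group G] [Finite G] (e : XU n F →* G) (t : G) τ (Φ : XU n K →* G),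
    Function.Injective e → RA e τ 1 → Tt e τ t →
    Hm (bc x.φ (x.st (Or.inr h))) (fa x.σ (x.sf (Or.inr h))) e t Φ →
    (∀ u v, hf u v = 0 → Φ (SU0 x.φ η u v) = sg e τ 1 u v) → RU1 e t
/-- The graph on the pairs. -/
def JobPP : Prop := All fun n F _ _ _ _ _ => Pth (RP (n := n + 1) (F := F)) ∧
  ∀ p p' : Vn (n + 1) F × Vn (n + 1) F, hf p.1 p.2 = 1 → hf p'.1 p'.2 = 1 →
    Relation.ReflTransGen RP p p'
def JobML1 : Prop := AllB fun n F _ _ _ _ _ => ∀ ε : F, ∃ j, ML1 n ε j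
def JobCL : Prop := JobTL.{u} → JobPP → JobQL → AllA.{u} fun n F _ _ _ _ _ G _ e t =>
  ∀ (ε : F) j, ML1 n ε j → ∀ τ (Φ : SLn n F →* G), Function.Injective e → RA e τ 1 → Tt e τ t →
    Hm (io n F) (tau n F) e t Φ → (∀ u v, hf u v = 0 → Φ (SL0 ε u v) = sg e τ 1 u v) → RL1 e t

/-- The end of chapter II. -/
theorem rl0_or_ru0 (k : JobK) (bu : BU.{u}) (bl : BL.{u}) :
    AllA.{u} fun _ _ _ _ _ _ _ _ _ e t => ∀ s δ, Function.Injective e → (∀ g, t * e g = e g * t) →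
      RE e s δ → Sv e s t → RL0 e t ∨ RU0 e t := by
  intro n F _ _ _ _ _ _ G _ _ e t b c s δ h1 h2 h3 h4
  by_cases h : ∃ ε, ε ^ 2 + ε = δ
  · obtain ⟨ε, h⟩ := h
    obtain ⟨Φ, h5, -⟩ := bl n F G e t b c s δ ε h h1 h2 h3 h4
    exact Or.inl ⟨Φ, h5⟩
  · obtain ⟨K, _, _, _, x, η, h5, -, st, h6⟩ := k F δ (not_exists.1 h)
    obtain ⟨Φ, h7, -⟩ := bu n F b K x δ η h5 h6 G e t s h1 h2 h3 h4
    exact Or.inr ⟨K, _, st, ‹_›, ‹_›, x, h6, Φ, h7⟩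

end H67.SP
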