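/- STD-SP chapter III: from `SU_(2k)` to `SU_(2k+1)`. -/
import Cfsg.Agent.H67.P6.H67_SPIII
import Cfsg.Agent.H85.P6.H59_UMFW

namespace H17 end H17
open H17
namespace H67 end H67
open H67
namespace H85.P6 end H85.P6
open H85.P6
namespace H85.P6.H17 end H85.P6.H17
open H85.P6.H17
namespace H85.P6.H17.SP3CU end H85.P6.H17.SP3CU
open H85.P6.H17.SP3CU
namespace H85.P6.H67 end H85.P6.H67
open H85.P6.H67
namespace H67.P6


set_option autoImplicit false
set_option linter.all false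

namespace H17.SP3CU

open Matrix Subgroup H67 H67.UA H67.SP
open H59.SO (Ind)

universe u

/-- A subgroup of a product that projects bijectively is a graph. -/
theorem graph {Y : Type} [Group Y] {G : Type u} [Group G] (Γ : Subgroup (Y × G))
    (hi : ∀ g, ((1 : Y), g) ∈ Γ → g = 1) (hs : ∀ y, ∃ g, (y, g) ∈ Γ) :
    ∃ Φ : Y →* G, ∀ p ∈ Γ, Φ p.1 = p.2 := by
  choose f hf using hs
  have key : ∀ p ∈ Γ, f p.1 = p.2 := fun p hp => by
    have h := Γ.mul_mem (Γ.inv_mem hp) (hf p.1)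
    have e : p⁻¹ * (p.1, f p.1) = (1, p.2⁻¹ * f p.1) := Prod.ext (inv_mul_cancel _) rfl
    rw [e] at h
    exact (inv_mul_eq_one.1 (hi _ h)).symm
  exact ⟨MonoidHom.mk' f fun a b => key _ (Γ.mul_mem (hf a) (hf b)), key⟩

section Vec

variable {n : ℕ} {K : Type} [Field K] [StarRing K] [CharP K 2]

theorem iv_zero : iv (0 : Vn n K) = 0 := by
  ext i
  refine Fin.succAboveCases (mid n) ?_ (fun j => ?_) i
  · simp [iv]
  · simp [iv]

theorem iv_inj {v w : Vn n K} (h : iv v = iv w) : v = w := by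
  ext j
  have := congrFun h ((mid n).succAbove j)
  simpa [iv] using this

/-- The action through the first factor. -/
@[reducible] def act (G : Type u) [Group G] : MulAction (XU n K × G) (Vn n K) where
  smul p z := ac p.1 z
  one_smul := ac_one
  mul_smul _ _ _ := ac_mul _ _ _

variable {F : Type} [Field F] [StarRing F] [CharP F 2]

theorem vx_ev (φ : F →+* K) (i : Fin (n + 1)) : vx φ (ev i : Vn n F) = ev i := by
  ext j
  simp only [vx, ev_apply]
  split_ifs <;> simp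

theorem vx_add (φ : F →+* K) (u v : Vn n F) : vx φ (u + v) = vx φ u + vx φ v := by
  ext j; simp [vx]

theorem ac_bc (φ : F →+* K) (h : ∀ a, star (φ a) = φ (star a)) (g : XU n F) (v : Vn n F) :
    ac (bc φ h g) (vx φ v) = vx φ (ac g v) := by
  ext i
  simp [ac, mt_bc, vx, mulVec, dotProduct, map_sum]

end Vec

section Main

variable {n : ℕ} {K : Type} [Field K] [StarRing K] [CharP K 2] {G : Type u} [Group G]

/-- The conjugates of `σ` under the point stabiliser. -/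
noncomputable def sv (h : XU n K →* XU (n + 1) K × G) (σ : XU (n + 1) K × G) (v : Vn n K) :
    XU (n + 1) K × G :=
  open Classical in if hv : ∃ g : XU n K, ac g (ev 0) = v then
    h hv.choose * σ * (h hv.choose)⁻¹ else 1

variable {h : XU n K →* XU (n + 1) K × G} {σ : XU (n + 1) K × G}

theorem sv_zero : sv h σ 0 = 1 := by
  rw [sv, dif_neg]
  rintro ⟨g, hg⟩
  exact ev_ne 0 (ac_inj g (hg.trans (ac_zero g).symm))

theorem sv_ac (hc : ∀ y, ac y (ev 0) = ev 0 → h y * σ = σ * h y) (g : XU n K) :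
    sv h σ (ac g (ev 0)) = h g * σ * (h g)⁻¹ := by
  have hv : ∃ g' : XU n K, ac g' (ev 0) = ac g (ev 0) := ⟨g, rfl⟩
  rw [sv, dif_pos hv]
  have h1 := hc (g⁻¹ * hv.choose) (by rw [ac_mul, hv.choose_spec, ac_inv_ac])
  generalize hv.choose = k at h1
  rw [map_mul, map_inv] at h1
  calc h k * σ * (h k)⁻¹ = h g * ((h g)⁻¹ * h k * σ) * (h k)⁻¹ := by group
    _ = _ := by rw [h1]; group

variable [Finite K] [UA.Par n K]

theorem sv_cj (hc : ∀ y, ac y (ev 0) = ev 0 → h y * σ = σ * h y) (g : XU n K) {v : Vn n K}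
    (hv : Iso v) : h g * sv h σ v = sv h σ (ac g v) * h g := by
  by_cases h0 : v = 0
  · rw [h0, ac_zero, sv_zero, one_mul, mul_one]
  · obtain ⟨k, rfl⟩ := H59.UM.w1 h0 hv
    rw [← ac_mul, sv_ac hc, sv_ac hc, map_mul]; group

theorem sv_sq (hc : ∀ y, ac y (ev 0) = ev 0 → h y * σ = σ * h y) (h2 : ∃ y, σ * σ = h y)
    {v : Vn n K} (hv : Iso v) : ∃ y, sv h σ v * sv h σ v = h y := by
  by_cases h0 : v = 0
  · exact ⟨1, by rw [h0, sv_zero, map_one, one_mul]⟩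
  · obtain ⟨k, rfl⟩ := H59.UM.w1 h0 hv
    obtain ⟨y, hy⟩ := h2
    exact ⟨k * y * k⁻¹, by rw [sv_ac hc, map_mul, map_mul, map_inv, ← hy]; group⟩

theorem tri_li (hc : ∀ y, ac y (ev 0) = ev 0 → h y * σ = σ * h y)
    (h3 : ∃ y, sv h σ (ev 0) * sv h σ (ev 1) = sv h σ (ev 0 + ev 1) * h y) {v w : Vn n K}
    (hp : Pp v w) (hl : Li v w) : ∃ y, sv h σ v * sv h σ w = sv h σ (v + w) * h y := by
  obtain ⟨g, rfl, rfl⟩ := H59.UM.w2 hp hl
  obtain ⟨y, hy⟩ := h3
  have i0 : Iso (ev 0 : Vn n K) := by have := hp.l; rwa [Iso, hf_ac] at this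
  have i1 : Iso (ev 1 : Vn n K) := by have := hp.r; rwa [Iso, hf_ac] at this
  have i2 : Iso (ev 0 + ev 1 : Vn n K) := by
    have := hp.iso_add; rwa [← ac_add, Iso, hf_ac] at this
  refine ⟨g * y * g⁻¹, ?_⟩
  rw [← ac_add, ← mul_inv_eq_iff_eq_mul.2 (sv_cj hc g i0), ← mul_inv_eq_iff_eq_mul.2 (sv_cj hc g i1),
    ← mul_inv_eq_iff_eq_mul.2 (sv_cj hc g i2), map_mul, map_mul, map_inv]
  calc _ = h g * (sv h σ (ev 0) * sv h σ (ev 1)) * (h g)⁻¹ := by group
    _ = _ := by rw [hy]; group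

theorem tri (hc : ∀ y, ac y (ev 0) = ev 0 → h y * σ = σ * h y) (h2 : ∃ y, σ * σ = h y)
    (h3 : ∃ y, sv h σ (ev 0) * sv h σ (ev 1) = sv h σ (ev 0 + ev 1) * h y)
    (hx : ∀ v z, Iso v → hf z v = 0 → ac (sv h σ v).1 (iv z) = iv z)
    (hj : ∀ y v, ac (h y).1 (iv v) = iv (ac y v)) {v w : Vn n K} (hp : Pp v w) :
    ∃ y, sv h σ v * sv h σ w = sv h σ (v + w) * h y := by
  by_cases hl : Li v w
  · exact tri_li hc h3 hp hl
  by_cases hv : v = 0
  · exact ⟨1, by rw [hv, sv_zero, zero_add, map_one, one_mul, mul_one]⟩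
  by_cases hw : w = 0
  · exact ⟨1, by rw [hw, sv_zero, add_zero, map_one]⟩
  by_cases hvw : v + w = 0
  · have : w = v := by rw [← zero_add w, ← v_add_self v, add_assoc, hvw, add_zero]
    obtain ⟨y, hy⟩ := sv_sq hc h2 hp.l
    exact ⟨y, by rw [hvw, sv_zero, one_mul, this, hy]⟩
  obtain ⟨z, z1, z2, -, z3⟩ := H59.UM.ext3 hp (w := 0) ⟨hp.l, by simp [Iso], by simp⟩ fun h => by
    simpa using (h 0 0 1 (by simp)).2.2
  have li : ∀ a b : K, a • v + b • w ≠ 0 → Li (a • v + b • w + z) z := fun a b hab c d e => by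
    have e1 : (c * a) • v + (c * b) • w + (0 : K) • 0 = (c + d) • z := by
      rw [← add_zero ((c + d) • z), ← e]
      ext i
      simp only [Pi.add_apply, Pi.smul_apply, smul_eq_mul, Pi.zero_apply]
      linear_combination -(c * z i + d * z i) * two0 K
    have e2 := z3 _ _ _ _ e1
    have e3 : c • (a • v + b • w) = 0 := by
      rw [e2, zero_smul K z] at e1
      rw [← e1]; ext i; simp only [Pi.add_apply, Pi.smul_apply, smul_eq_mul, Pi.zero_apply]; ring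
    have e4 := (smul_eq_zero.1 e3).resolve_right hab
    exact ⟨e4, by rwa [e4, zero_add] at e2⟩
  have zz : hf z z = 0 := z1.r
  have pa : ∀ u, Pp u z → Pp (u + z) z := fun u hu =>
    ⟨hu.iso_add, hu.r, by rw [hf_add_left, hu.p, zz, add_zero]⟩
  have z4 : Pp (v + w) z := ⟨hp.iso_add, z1.r, by rw [hf_add_left, z1.p, z2.p, add_zero]⟩
  have p2 : Pp v (w + z) := ⟨hp.l, z2.iso_add, by rw [hf_add_right, hp.p, z1.p, add_zero]⟩
  obtain ⟨c1, e1⟩ := tri_li hc h3 (pa w z2) (by simpa using li 0 1 (by simpa using hw))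
  obtain ⟨c3, e3⟩ := tri_li hc h3 (pa _ z4) (by simpa using li 1 1 (by simpa using hvw))
  obtain ⟨c2, e2⟩ := tri_li hc h3 p2 fun c d e => by
    have e1 : c • v + d • w + (0 : K) • 0 = d • z := by
      rw [← add_zero (d • z), ← e]
      ext i
      simp only [Pi.add_apply, Pi.smul_apply, smul_eq_mul, Pi.zero_apply]
      linear_combination -(d * z i) * two0 K
    have e2 := z3 _ _ _ _ e1
    rw [e2, zero_smul, add_zero] at e
    exact ⟨(smul_eq_zero.1 e).resolve_right hv, e2⟩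
  rw [add_assoc w, v_add_self, add_zero w] at e1
  rw [add_assoc (v + w), v_add_self, add_zero (v + w)] at e3
  rw [← add_assoc v] at e2
  have hz : ac c2 z = z := by
    have a := congrArg (fun p : XU (n + 1) K × G => ac p.1 (iv z)) e2
    simp only [Prod.fst_mul, ac_mul] at a
    rw [hx _ _ z2.iso_add (pa w z2).symm.p, hx _ _ hp.l z1.symm.p, hj] at a
    exact iv_inj (ac_inj _ (a.symm.trans (hx _ _ z4.iso_add (pa _ z4).symm.p).symm))
  have e4 := sv_cj hc c2 z1.r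
  rw [hz] at e4
  refine ⟨c3 * c2 * c1⁻¹, ?_⟩
  rw [map_mul, map_mul, map_inv]
  calc _ = sv h σ v * sv h σ (w + z) * sv h σ z * (h c1)⁻¹ := by
        rw [mul_assoc (sv h σ v), e1]; group
    _ = sv h σ (v + w + z) * sv h σ z * h c2 * (h c1)⁻¹ := by
        rw [e2, mul_assoc _ (h c2), e4, ← mul_assoc]
    _ = _ := by rw [e3]; group

/-- The subgroup generated by the point stabiliser and `σ` is a graph. -/
theorem exists_hom (hTL : JobTL.{u}) (hP : Pth (RN (n := n + 1) (K := K)))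
    (hc : ∀ y, ac y (ev 0) = ev 0 → h y * σ = σ * h y) (h2 : ∃ y, σ * σ = h y)
    (h3 : ∃ y, sv h σ (ev 0) * sv h σ (ev 1) = sv h σ (ev 0 + ev 1) * h y)
    (hx : ∀ v z, Iso v → hf z v = 0 → ac (sv h σ v).1 (iv z) = iv z)
    (hj : ∀ y v, ac (h y).1 (iv v) = iv (ac y v))
    (hm : ∀ y, ac (h y).1 (ev (mid n)) = ev (mid n)) (hi : ∀ y, (h y).1 = 1 → y = 1)
    (hr : ∀ g : XU (n + 1) K, ac g (ev (mid n)) = ev (mid n) → ∃ y, (h y).1 = g)
    (mv : ∀ v, Iso v → ac (sv h σ v).1 (ev (mid n)) = ev (mid n) + iv v)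
    (nb : ∀ z : Vn (n + 1) K, RN z (ev (mid n)) ↔ ∃ v, Iso v ∧ z = ev (mid n) + iv v)
    (hh : ∀ v w : Vn n K, hf (ev (mid n) + iv v) (ev (mid n) + iv w) = 1 + hf v w)
    (tr : ∀ z : Vn (n + 1) K, hf z z = 1 → Relation.ReflTransGen RN (ev (mid n)) z) :
    ∃ Φ : XU (n + 1) K →* G, (∀ y, Φ (h y).1 = (h y).2) ∧ Φ σ.1 = σ.2 ∧
      ∀ A : Subgroup (XU (n + 1) K), (∀ y, (h y).1 ∈ A) → σ.1 ∈ A → A = ⊤ := by
  letI := act (n := n + 1) (K := K) G
  have sm : ∀ (p : XU (n + 1) K × G) (z : Vn (n + 1) K), p • z = ac p.1 z := fun _ _ => rfl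
  let D : Set (XU (n + 1) K × G) := {d | ∃ v y, Iso v ∧ d = sv h σ v * h y}
  have hD : ∀ v y, Iso v → (sv h σ v * h y) • (ev (mid n) : Vn (n + 1) K) = ev (mid n) + iv v :=
    fun v y hv => by rw [sm, Prod.fst_mul, ac_mul, hm, mv v hv]
  have hl : ∀ y, ∀ d ∈ D, h y * d ∈ D := by
    rintro y _ ⟨v, y', hv, rfl⟩
    exact ⟨ac y v, y * y', hv.ac y, by rw [← mul_assoc, sv_cj hc y hv, map_mul, mul_assoc]⟩
  have hinv : ∀ v, Iso v → ∃ y, (sv h σ v)⁻¹ = h y * sv h σ v := fun v hv => by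
    obtain ⟨y, hy⟩ := sv_sq hc h2 hv
    exact ⟨y⁻¹, by rw [map_inv, ← hy]; group⟩
  obtain ⟨k1, k2⟩ := hTL (XU (n + 1) K × G) (Vn (n + 1) K) RN (ev (mid n)) h.range D
    (fun a b r => ⟨r.2.1, r.1, by rw [← star_hf, r.2.2, star_one]⟩)
    (fun g a b r => ⟨by rw [sm, hf_ac, r.1], by rw [sm, hf_ac, r.2.1],
      by rw [sm, sm, hf_ac, r.2.2]⟩)
    hP (by rintro _ ⟨y, rfl⟩; exact hm y)
    (by rintro _ ⟨v, y, hv, rfl⟩ _ ⟨y', rfl⟩; exact ⟨v, y * y', hv, by rw [map_mul, mul_assoc]⟩)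
    (by
      rintro _ ⟨v, y, hv, rfl⟩
      obtain ⟨y', hy⟩ := hinv v hv
      rw [_root_.mul_inv_rev, hy, ← map_inv]
      exact hl _ _ (hl _ _ ⟨v, 1, hv, by rw [map_one, mul_one]⟩))
    (by rintro _ ⟨v, y, hv, rfl⟩; rw [hD v y hv]; exact (nb _).2 ⟨v, hv, rfl⟩)
    (fun w r => by
      obtain ⟨v, hv, rfl⟩ := (nb w).1 r
      exact ⟨_, ⟨v, 1, hv, rfl⟩, hD v 1 hv⟩)
    (by
      rintro _ ⟨v, y, hv, rfl⟩ e
      rw [hD v y hv, add_eq_left, ← iv_zero] at e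
      rw [iv_inj e, sv_zero, one_mul]
      exact ⟨y, rfl⟩)
    (by
      rintro _ ⟨v, y, hv, rfl⟩ _ ⟨v', y', hv', rfl⟩ e
      rw [hD v y hv, hD v' y' hv', add_right_inj] at e
      exact ⟨y⁻¹ * y', by rw [iv_inj e, map_mul, map_inv]; group⟩)
    (by
      rintro _ ⟨v, y, hv, rfl⟩ _ ⟨v', y', hv', rfl⟩ e
      rw [hD v y hv, hD v' y' hv'] at e
      have e1 := e.2.2
      rw [hh, add_eq_left] at e1
      have hp : Pp v v' := ⟨hv, hv', e1⟩
      obtain ⟨c, hc'⟩ := tri hc h2 h3 hx hj hp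
      obtain ⟨y2, hy⟩ := hinv v hv
      rw [_root_.mul_inv_rev, hy, ← map_inv, mul_assoc, mul_assoc]
      refine hl _ _ (hl _ _ ⟨v + v', c * y', hp.iso_add, ?_⟩)
      rw [← mul_assoc, hc', map_mul, mul_assoc])
  have mm : hf (ev (mid n) : Vn (n + 1) K) (ev (mid n)) = 1 := by
    simpa [iv_zero] using hh 0 0
  have hs : ∀ y, ∃ g, (y, g) ∈ h.range ⊔ closure D := fun y => by
    obtain ⟨g, hg, e⟩ := k2 _ (tr (ac y (ev (mid n))) (by rw [hf_ac, mm]))
    obtain ⟨c, hc'⟩ := hr (g.1⁻¹ * y) (by rw [ac_mul, ← e, sm, ac_inv_ac])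
    refine ⟨(g * h c).2, ?_⟩
    have : (y, (g * h c).2) = g * h c := Prod.ext (by rw [Prod.fst_mul, hc']; simp) rfl
    rw [this]
    exact mul_mem (mem_sup_right hg) (mem_sup_left ⟨c, rfl⟩)
  have s0 : sv h σ (ev 0) = σ := by simpa using sv_ac hc 1
  obtain ⟨Φ, hΦ⟩ := graph (h.range ⊔ closure D) (fun g hg => by
    obtain ⟨y, hy⟩ := k1 _ hg (ac_one _)
    rw [hi y (congrArg Prod.fst hy), map_one] at hy
    exact (congrArg Prod.snd hy).symm) hs
  refine ⟨Φ, fun y => hΦ _ (mem_sup_left ⟨y, rfl⟩), hΦ _ (mem_sup_right (subset_closure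
    ⟨ev 0, 1, H59.UM.iso0, by rw [s0, map_one, mul_one]⟩)), fun A a1 a2 => ?_⟩
  have hle : h.range ⊔ closure D ≤ A.comap (MonoidHom.fst _ _) := by
    refine sup_le (by rintro _ ⟨y, rfl⟩; exact a1 y) ((closure_le _).2 ?_)
    rintro _ ⟨v, y, hv, rfl⟩
    refine mul_mem ?_ (a1 y)
    by_cases h0 : v = 0
    · rw [h0, sv_zero]; exact one_mem _
    · obtain ⟨k, rfl⟩ := H59.UM.w1 h0 hv
      rw [sv_ac hc]
      exact mul_mem (mul_mem (a1 k) a2) (inv_mem (a1 k))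
  rw [eq_top_iff]
  intro y _
  obtain ⟨g, hg⟩ := hs y
  exact hle hg

end Main

theorem jobCU : JobCU.{u} := by
  intro hTL hPN hQU n F _ _ _ _ _ par b K _ _ _ _ x δ η hη hs mu m1 G _ _ e t τ Φ he ra tt hm hΦ
  haveI := mu.par
  haveI := mu.par'
  have n5 := par.five
  set ι : XU n F →* XU n K := bc x.φ (x.st (Or.inr hs)) with hι
  let h : XU n K →* XU (n + 1) K × G := (ins n K).prod Φ
  let σ : Vn n F → XU (n + 1) K × G := fun v => (TU x.φ η v, τ v)
  have h1 : ∀ y, (h y).1 = ins n K y := fun _ => rfl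
  have hι1 : ∀ g, h (ι g) = (((bc x.φ (x.st (Or.inr hs))).comp (ins n F)) g, e g) := fun g =>
    Prod.ext (m1.sq g).symm (hm.res g)
  have T0 : TU x.φ η (ev 0 : Vn n F) = EE (iv (ev 0)) (ev (mid n)) η := by rw [TU, vx_ev]
  have hc : ∀ y, ac y (ev 0) = ev 0 → h y * σ (ev 0) = σ (ev 0) * h y := fun y hy => by
    refine Prod.ext ?_ ?_
    · have := m1.cj y (ev 0) H59.UM.iso0
      rw [hy, mul_inv_eq_iff_eq_mul, ← T0] at this
      exact this
    · have : PE ι (SU0 x.φ η) (ev 0) ≤ (centralizer {τ (ev 0)}).comap Φ := by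
        refine (closure_le _).2 ?_
        rintro _ (⟨p, hp, rfl⟩ | ⟨a, c, hp, rfl⟩)
        · show Φ _ ∈ centralizer _
          rw [mem_centralizer_singleton_iff, hm.res]
          exact ra.toR0.fix hp
        · show Φ _ ∈ centralizer _
          rw [mem_centralizer_singleton_iff, hΦ a c hp.vw]
          exact (ra.stau a c _ ⟨hp.vw, hf_symm hp.uv, hf_symm hp.uw⟩).symm
      exact mem_centralizer_singleton_iff.1 (this (mu.genP y hy))
  have hsq : ∀ v, σ v * σ v = h (ι (Tc 1 v)) := fun v => by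
    rw [hι1]; exact Prod.ext (m1.tsq v) (ra.sq v)
  have f1 : ∀ v : Vn n K, Iso v → (sv h (σ (ev 0)) v).1 = EE (iv v) (ev (mid n)) η := fun v hv => by
    by_cases h0 : v = 0
    · rw [h0, sv_zero, iv_zero, EE_zero_left]; rfl
    · obtain ⟨k, rfl⟩ := H59.UM.w1 h0 hv
      rw [sv_ac hc, ← m1.cj k _ H59.UM.iso0, ← T0]; rfl
  have f2 : ∀ v : Vn n F, v ≠ 0 → sv h (σ (ev 0)) (vx x.φ v) = σ v := fun v hv => by
    obtain ⟨g, rfl⟩ := FW.w1 v hv
    rw [← ac_bc _ (x.st (Or.inr hs)), vx_ev, sv_ac hc, hι1]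
    exact Prod.ext (m1.r1.eqv g _) (ra.eqv g _)
  have mm : hf (ev (mid n) : Vn (n + 1) K) (ev (mid n)) = 1 := by
    simpa [iv_zero] using m1.hi 0 0
  have vm : ∀ v : Vn n K, hf (iv v) (ev (mid n)) = 0 := fun v => by
    have := m1.hi v 0
    rw [iv_zero, add_zero, hf_add_left, mm, hf_zero_right] at this
    exact add_left_cancel this
  have vv : ∀ v w : Vn n K, hf (iv v) (iv w) = hf v w := fun v w => by
    have := m1.hi v w
    rw [hf_add_left, hf_add_right, hf_add_right, mm, vm, hf_symm (vm w), add_zero, zero_add] at this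
    exact add_left_cancel this
  have ok : ∀ v : Vn n K, Iso v → Ok (iv v) (ev (mid n)) η := fun v hv =>
    ⟨by rw [Iso, vv, hv], hf_symm (vm v), by
      rw [mm, UA.tr, hs, hη.sg, ← add_assoc, CharTwo.add_self_eq_zero, zero_add]⟩
  have e01 : hf (ev 0 : Vn n F) (ev 1) = 0 := by
    rw [hf_ev, if_neg]
    rw [Fin.ext_iff, Fin.val_rev, H59.UM.v1 n5]; simp; omega
  have e01' : (ev 0 + ev 1 : Vn n F) ≠ 0 := fun h => by
    have := congrFun h 0
    rw [Pi.add_apply, ev_apply, ev_apply, if_pos rfl, if_neg] at this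
    · simp at this
    · rw [Fin.ext_iff, H59.UM.v1 n5]; simp
  obtain ⟨Φ1, p1, p2, p3⟩ := exists_hom (h := h) (σ := σ (ev 0)) hTL (hPN (n + 1) K (by omega)).1 hc
    ⟨_, hsq _⟩
    (by
      rw [← vx_ev x.φ 0, ← vx_ev x.φ 1, ← vx_add, f2 _ (ev_ne 0), f2 _ (ev_ne 1), f2 _ e01']
      have a : σ (ev 0 + ev 1) * σ (ev 0) * σ (ev 1) * h (ι (Tc 1 (ev 0) * Tc 1 (ev 1))) =
          h (SU0 x.φ η (ev 0) (ev 1)) := by
        rw [hι1]
        exact Prod.ext (m1.sg _ _ e01) (hΦ _ _ e01).symm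
      refine ⟨(ι (Tc 1 (ev 0 + ev 1)))⁻¹ * SU0 x.φ η (ev 0) (ev 1) *
        (ι (Tc 1 (ev 0) * Tc 1 (ev 1)))⁻¹, ?_⟩
      rw [map_mul h, map_mul h, map_inv, map_inv, ← a, ← hsq]; group)
    (fun v z hv hz => by rw [f1 v hv]; exact ac_EE_fix (ok v hv) (by rw [vv, hz]) (vm z))
    (fun y v => (m1.isIns y).2 v) (fun y => (m1.isIns y).1)
    (fun y hy => m1.inj (hy.trans (map_one _).symm)) m1.rng
    (fun v hv => by rw [f1 v hv, m1.mv v hv]) m1.nb m1.hi m1.trans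
  have q1 : ∀ y, Φ1 (ins n K y) = Φ y := p1
  have q2 : Φ1 (TU x.φ η (ev 0)) = τ (ev 0) := p2
  have res : ∀ g, Φ1 (((bc x.φ (x.st (Or.inr hs))).comp (ins n F)) g) = e g := fun g => by
    rw [MonoidHom.comp_apply, m1.sq, q1, hm.res]
  have t2 : TT (ev 0 : Vn n F) * TT (ev 0) = 1 := Tc_mul_self (FV.iso _) (star_one F)
  refine ⟨K, _, _, ‹_›, ‹_›, x, hs, Φ1, ?_, res, ?_⟩
  · refine ((hQU (n + 1) K).nrm Φ1.ker inferInstance).resolve_right fun hk => ?_
    have : e (TT (ev 0)) = 1 := by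
      rw [← res]; exact (MonoidHom.mem_ker).1 (hk.ge (mem_top _))
    exact one_ne_zero (Tc_eq_one (ev_ne 0) (FV.iso _) (star_one F)
      (he (this.trans (map_one e).symm)))
  · have := p3 (((MulAut.conj t).toMonoidHom.comp Φ1).eqLocus
      (Φ1.comp (fa x.σ (x.sf (Or.inr hs))).toMonoidHom)) (fun y => by
        show t * Φ1 (ins n K y) * t⁻¹ = Φ1 (fa _ _ (ins n K y))
        rw [m1.fi, q1, q1]; exact hm.act y) (by
        show t * Φ1 (TU x.φ η (ev 0)) * t⁻¹ = Φ1 (fa _ _ (TU x.φ η (ev 0)))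
        have a1 := hm.act (ι (TT (ev 0)))
        rw [mu.fe, hm.res] at a1
        have a2 := tt (ev 0)
        have a3 : e (TT (ev 0)) * e (TT (ev 0)) = 1 := by rw [← map_mul, t2, map_one]
        rw [m1.ft, map_mul, q2, ← MonoidHom.comp_apply (bc _ _) (ins n F), res]
        calc t * τ (ev 0) * t⁻¹ = e (TT (ev 0)) * (t * e (TT (ev 0)) * t⁻¹) * (t * τ (ev 0) * t⁻¹) := by
              rw [a1, a3, one_mul]
          _ = e (TT (ev 0)) * ((t * e (TT (ev 0))) * τ (ev 0) * t⁻¹) := by group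
          _ = _ := by rw [← a2]; group)
    exact fun y => this.ge (mem_top y)

end H17.SP3CU
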