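import Cfsg.Agent.H67.P6.H67_SWDef
import Cfsg.Agent.H85.P6.H26_SPFO
import Cfsg.Agent.H54.SpCard

namespace H18 end H18
open H18
namespace H54 end H54
open H54
namespace H85.P6 end H85.P6
open H85.P6
namespace H85.P6.H18 end H85.P6.H18
open H85.P6.H18
namespace H85.P6.H18.SWFT end H85.P6.H18.SWFT
open H85.P6.H18.SWFT
namespace H85.P6.H54 end H85.P6.H54
open H85.P6.H54
namespace H67.P6


/-! STD-SP, wreath endgame, slot FT of `blueprints/STDSPW.md`. -/

set_option autoImplicit false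

namespace H18.SWFT

open H64.SG (fx mem_fx)
open Matrix Subgroup H67.SP H54 Cfsg
open H67.UA (XU)

theorem jobFT : H67.SW.JobFT := by
  intro n F _ _ _ _ _ p b _ o β h2 ho
  refine ⟨o.a4 β h2 ho, ?_⟩
  have : Fact (Nat.Prime 2) := ⟨Nat.prime_two⟩
  obtain ⟨g, σ, s2, s1, rfl⟩ := o.std β h2 ho
  obtain ⟨φ, hφ⟩ := H26.SP.exists_tr (n := n) (F := F)
  have c := H57.card_eq_card_fixedSub_pow σ
  rw [orderOf_eq_prime ((pow_two σ).trans s2) s1] at c
  have := Fintype.ofFinite F
  obtain ⟨r, -, hr⟩ := FiniteField.card F 2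
  obtain ⟨a, -, ha⟩ := (Nat.dvd_prime_pow Nat.prime_two).1
    (show Nat.card (H57.fixedSub σ) ∣ 2 ^ (r : ℕ) by
      rw [← hr, ← Nat.card_eq_fintype_card, c]; exact dvd_pow_self _ two_ne_zero)
  have : Finite (symplecticGroup (Fin (kk n)) (H57.fixedSub σ)) := inferInstance
  obtain ⟨P, hP⟩ := Sylow.exists_subgroup_card_pow_prime
    (G := symplecticGroup (Fin (kk n)) (H57.fixedSub σ)) 2 (n := a * kk n ^ 2) (by
      rw [card_sp, Fintype.card_fin, spOrder_def, ha, pow_mul]; exact dvd_mul_right _ _)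
  let j : symplecticGroup (Fin (kk n)) (H57.fixedSub σ) →* XU n F :=
    (MulAut.conj g).toMonoidHom.comp
      (φ.symm.toMonoidHom.comp (spMap (Fin (kk n)) (H57.fixedSub σ).subtype))
  have ji : Function.Injective j := (MulAut.conj g).injective.comp
    (φ.symm.injective.comp (spMap_injective _ (H57.fixedSub σ).subtype.injective))
  refine ⟨P.map j, ?_, (IsPGroup.of_card hP).map j, ?_⟩
  · rintro _ ⟨y, -, rfl⟩
    have e : fs n F σ (φ.symm (spMap (Fin (kk n)) (H57.fixedSub σ).subtype y)) =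
        φ.symm (spMap (Fin (kk n)) (H57.fixedSub σ).subtype y) := φ.injective (by
      rw [hφ, φ.apply_symm_apply]
      exact Subtype.ext (Matrix.ext fun i j => H57.mem_fixedSub.1 (y.1 i j).2))
    refine mem_fx.2 ?_
    simp [j, mul_assoc, e]
  · rw [card_map_of_injective ji, hP, FW.cardU, c, ha, ← pow_mul, ← pow_mul, ← pow_mul]
    exact le_of_eq (by ring)

end H18.SWFT
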