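import Cfsg.Agent.H67.P6.H67_SPIII

namespace H21 end H21
open H21
namespace H85.P6 end H85.P6
open H85.P6
namespace H85.P6.H21 end H85.P6.H21
open H85.P6.H21
namespace H85.P6.H21.SPP end H85.P6.H21.SPP
open H85.P6.H21.SPP
namespace H67.P6


/-! STD-SP chapter III, job `JobPP`: the graph on the pairs (vector, functional). -/

set_option autoImplicit false
set_option linter.all false

namespace H21.SPP

open H67.UA H67.SP Module Submodule

variable {m : ℕ} {F : Type} [Field F] [StarRing F] [TrivialStar F] [CharP F 2] [Finite F]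

omit [Finite F] in
theorem sym (x y : Vn m F) : hf x y = hf y x := by rw [← star_hf, star_trivial]

/-- `x ↦ hf x s` -/
def lf (s : Vn m F) : Vn m F →ₗ[F] F where
  toFun x := hf x s
  map_add' x y := hf_add_left x y s
  map_smul' a x := hf_smul_left a x s

/-- the span of a list -/
def sp (l : List (Vn m F)) : Submodule F (Vn m F) := span F {x | x ∈ l}

theorem mem_sp {l : List (Vn m F)} {x : Vn m F} (h : x ∈ l) : x ∈ sp l := subset_span h

theorem rk_sp (l : List (Vn m F)) : finrank F (sp l) ≤ l.length := by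
  classical
  have := finrank_span_finset_le_card (R := F) l.toFinset
  rw [Set.finrank, List.coe_toFinset] at this
  exact this.trans l.toFinset_card_le

/-- `x` solves the equations `hf x s = 1`. -/
def So (l : List (Vn m F)) (x : Vn m F) : Prop := ∀ s ∈ l, hf x s = 1

theorem ext {l : List (Vn m F)} {x a : Vn m F} (hx : So l x) (ha : a ∉ sp l) :
    ∃ y, So (a :: l) y := by
  obtain ⟨f, h1, h2⟩ := exists_le_ker_of_notMem ha
  have k : ∀ s, hf (fun i => f (ev i.rev)) s = f s := fun s => by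
    rw [f.pi_apply_eq_sum_univ s, hf, ← Equiv.sum_comp Fin.revPerm]
    refine Finset.sum_congr rfl fun i _ => ?_
    rw [show (fun j => if i = j then 1 else 0) = (ev i : Vn m F) from
      funext fun j => by simp [ev_apply, eq_comm]]
    simp [mul_comm]
  refine ⟨x + ((1 - hf x a) / f a) • fun i => f (ev i.rev), fun s hs => ?_⟩
  rw [hf_add_left, hf_smul_left, k]
  rcases List.mem_cons.1 hs with rfl | hs
  · rw [div_mul_cancel₀ _ h1]; ring
  · rw [hx s hs, show f s = 0 from h2 (mem_sp hs), mul_zero, add_zero]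

theorem card_so {l : List (Vn m F)} {x : Vn m F} (hx : So l x) :
    Nat.card F ^ (m + 1 - l.length) ≤ {y | So l y}.ncard := by
  let φ : Vn m F →ₗ[F] (Fin l.length → F) := LinearMap.pi fun i => lf (l.get i)
  have h1 := φ.finrank_range_add_finrank_ker
  have h2 := (LinearMap.range φ).finrank_le
  simp only [finrank_fintype_fun_eq_card, Fintype.card_fin] at h1 h2
  refine (Nat.pow_le_pow_right Nat.card_pos (by omega : _ ≤ finrank F (LinearMap.ker φ))).trans ?_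
  rw [← natCard_eq_pow_finrank, ← SetLike.coe_sort_coe, Nat.card_coe_set_eq]
  refine Set.ncard_le_ncard_of_injOn (x + ·) (fun y hy s hs => ?_) fun _ _ _ _ => add_left_cancel
  obtain ⟨i, rfl⟩ := List.get_of_mem hs
  rw [hf_add_left, hx _ hs, show hf y (l.get i) = 0 from congrFun (LinearMap.mem_ker.1 hy) i, add_zero]

theorem card_inf {l : List (Vn m F)} {s : Vn m F} (hs : s ∈ l) {U : Submodule F (Vn m F)} {k : ℕ}
    (hU : finrank F U ≤ k + 1) : ({y | So l y} ∩ U).ncard ≤ Nat.card F ^ k := by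
  rcases Set.eq_empty_or_nonempty ({y | So l y} ∩ U) with h | ⟨x, h1, h2⟩
  · rw [h, Set.ncard_empty]; exact Nat.zero_le _
  have : U ⊓ LinearMap.ker (lf s) < U := lt_of_le_of_ne inf_le_left fun e =>
    one_ne_zero ((h1 s hs).symm.trans (e.ge h2).2)
  have := finrank_lt_finrank_of_lt this
  refine le_trans ?_ (Nat.pow_le_pow_right Nat.card_pos
    (by omega : finrank F (U ⊓ LinearMap.ker (lf s) : Submodule F _) ≤ k))
  rw [← natCard_eq_pow_finrank, ← SetLike.coe_sort_coe, Nat.card_coe_set_eq]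
  refine Set.ncard_le_ncard_of_injOn (· - x) (fun y hy => ⟨sub_mem hy.2 h2, ?_⟩)
    fun _ _ _ _ e => sub_left_injective e
  exact LinearMap.mem_ker.2 (by rw [map_sub]; exact sub_eq_zero.2 ((hy.1 s hs).trans (h1 s hs).symm))

/-- Avoiding two subspaces and some points. -/
theorem av0 {l : List (Vn m F)} {x : Vn m F} (hx : So l x) {U U' : Submodule F (Vn m F)}
    {a b : ℕ} (h2 : ({y | So l y} ∩ U).ncard ≤ a) (h3 : ({y | So l y} ∩ U').ncard ≤ b)
    (P : List (Vn m F)) (h : a + b + P.length < Nat.card F ^ (m + 1 - l.length)) :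
    ∃ y, So l y ∧ y ∉ U ∧ y ∉ U' ∧ y ∉ P := by
  classical
  by_contra! hc
  have c : {y | So l y} ⊆ ({y | So l y} ∩ U ∪ {y | So l y} ∩ U') ∪ P.toFinset := fun y hy => by
    by_cases h1 : y ∈ U
    · exact .inl (.inl ⟨hy, h1⟩)
    by_cases h2 : y ∈ U'
    · exact .inl (.inr ⟨hy, h2⟩)
    · exact .inr (by simpa using hc y hy h1 h2)
  have h1 := ((card_so hx).trans (Set.ncard_le_ncard c)).trans ((Set.ncard_union_le _ _).trans
    (add_le_add (Set.ncard_union_le _ _) le_rfl))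
  have h4 := P.toFinset_card_le
  rw [Set.ncard_coe_finset] at h1
  omega

theorem card_bot' {l : List (Vn m F)} {s : Vn m F} (hs : s ∈ l) :
    ({y | So l y} ∩ (⊥ : Submodule F (Vn m F))).ncard ≤ 0 := by
  rw [Set.eq_empty_of_forall_notMem (s := _ ∩ _) fun y hy => by
    have := hy.1 s hs
    rw [(Submodule.mem_bot F).1 hy.2] at this
    simp at this]
  simp

theorem pw {j r a : ℕ} (b : 6 ≤ m) (hj : j + r ≤ 7) (h : a < Nat.card F ^ r) :
    a < Nat.card F ^ (m + 1 - j) :=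
  h.trans_le (Nat.pow_le_pow_right Nat.card_pos (by omega))

theorem n1 : Nat.card F ^ 2 + Nat.card F ^ 2 + 0 < Nat.card F ^ 4 := by
  have h2 : 2 ≤ Nat.card F := Finite.one_lt_card
  have := Nat.pow_le_pow_left h2 2
  rw [show (4 : ℕ) = 2 + 2 from rfl, pow_add]; nlinarith

theorem n2 : Nat.card F ^ 2 + 0 + 3 < Nat.card F ^ 3 := by
  have h2 : 2 ≤ Nat.card F := Finite.one_lt_card
  have := Nat.pow_le_pow_left h2 2
  rw [pow_succ _ 2]; nlinarith

theorem n3 : 0 + 0 + 3 < Nat.card F ^ 2 := by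
  have h2 : 2 ≤ Nat.card F := Finite.one_lt_card
  have := Nat.pow_le_pow_left h2 2
  omega

/-- Avoiding four points, one of them outside the span of the others. -/
theorem av4 (b : 6 ≤ m) {l : List (Vn m F)} {s v : Vn m F} (hs : s ∈ l) (hv : So l v)
    (hl : l.length ≤ 5) {t x y z : Vn m F} (ht : t ∉ sp [x, y, z]) :
    ∃ w, So l w ∧ w ∉ [t, x, y, z] := by
  have k : ∀ a c d, ∃ w, So l w ∧ w ∉ [a, c, d] := fun a c d => by
    obtain ⟨w, w1, -, -, w2⟩ := av0 hv (card_bot' hs) (card_bot' hs) [a, c, d]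
      (pw (r := 2) b (by omega) n3)
    exact ⟨w, w1, w2⟩
  by_contra! hc
  have f : ∀ {a c d e : Vn m F}, (∀ w, w ∈ [t, x, y, z] → w = e ∨ w ∈ [a, c, d]) → So l e ∧
      e ∉ [a, c, d] := fun {a c d e} h => by
    obtain ⟨w, w1, w2⟩ := k a c d
    obtain rfl := (h w (hc w w1)).resolve_right w2
    exact ⟨w1, w2⟩
  obtain ⟨x1, x2⟩ := f (a := t) (c := y) (d := z) (e := x) (by simp)
  obtain ⟨y1, y2⟩ := f (a := t) (c := x) (d := z) (e := y) (by simp)
  obtain ⟨z1, -⟩ := f (a := t) (c := x) (d := y) (e := z) (by simp)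
  have := hc (x + y + z) fun s hs => by
    rw [hf_add_left, hf_add_left, x1 s hs, y1 s hs, z1 s hs, CharTwo.add_self_eq_zero, zero_add]
  have c : ∀ {a c : Vn m F}, a + c = 0 → a = c := fun {a c} h => by
    rw [← add_zero a, ← v_add_self c, ← add_assoc, h, zero_add]
  simp only [List.mem_cons, List.not_mem_nil, or_false, not_or] at this x2 y2
  rcases this with h | h | h | h
  · exact ht (h ▸ add_mem (add_mem (mem_sp (by simp)) (mem_sp (by simp))) (mem_sp (by simp)))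
  · exact y2.2.2 (c (by rwa [add_assoc, add_eq_left] at h))
  · exact x2.2.2 (c (by rwa [add_right_comm, add_eq_right] at h))
  · exact x2.2.1 (c (by rwa [add_eq_right] at h))

abbrev Pt (m : ℕ) (F : Type) := Vn m F × Vn m F

theorem mk {p y : Pt m F} (h : hf p.1 p.2 = 1) (h1 : hf y.2 y.1 = 1) (h2 : hf y.1 p.2 = 1)
    (h3 : hf y.2 p.1 = 1) (n1 : y.1 ≠ p.1) (n2 : y.2 ≠ p.2) : RP y p :=
  ⟨(sym _ _).trans h1, h, h2, (sym _ _).trans h3, iff_of_false n1 n2⟩

theorem exY (b : 6 ≤ m) {x y z : Pt m F} (h : RP x y) (h' : RP y z) (a a' a'' f f' f'' : Vn m F) :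
    ∃ w : Pt m F, RP w x ∧ RP w y ∧ RP w z ∧ w.1 ∉ sp [a, a', a''] ∧ w.2 ∉ sp [f, f', f''] := by
  obtain ⟨u, u1, u2, u3, -⟩ := av0 (l := [x.2, y.2, z.2]) (x := y.1)
    (by simp [So, h.2.2.2.1, h.2.1, h'.2.2.1]) (card_inf (s := x.2) (by simp) (rk_sp [a, a', a'']))
    (card_inf (s := x.2) (by simp) (rk_sp [x.1, y.1, z.1])) [] (pw (r := 4) b (by simp) n1)
  obtain ⟨v0, hv⟩ := ext (x := y.2) (by
    simp [So, sym y.2, h.2.2.1, h.2.1, h'.2.2.2.1]) u3
  obtain ⟨v, v1, v2, -, v3⟩ := av0 hv (card_inf (s := u) (by simp) (rk_sp [f, f', f'']))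
    (card_bot' (s := u) (by simp)) [x.2, y.2, z.2] (pw (r := 3) b (by simp) n2)
  simp only [So, List.mem_cons, List.not_mem_nil, or_false, forall_eq_or_imp, forall_eq, not_or]
    at u1 v1 v3
  exact ⟨(u, v), mk h.1 v1.1 u1.1 v1.2.1 (fun e => u3 (mem_sp (by simp [← e]))) v3.1,
    mk h.2.1 v1.1 u1.2.1 v1.2.2.1 (fun e => u3 (mem_sp (by simp [← e]))) v3.2.1,
    mk h'.2.1 v1.1 u1.2.2 v1.2.2.2 (fun e => u3 (mem_sp (by simp [← e]))) v3.2.2, u2, v2⟩

theorem exW (b : 6 ≤ m) {x y z t : Pt m F} (h : RP x y) (h' : RP y z)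
    (ht : hf t.1 t.2 = 1) (t1 : t.1 ∉ sp [x.1, y.1, z.1]) (t2 : t.2 ∉ sp [x.2, y.2, z.2]) :
    ∃ w : Pt m F, RP w x ∧ RP w y ∧ RP w z ∧ RP w t := by
  obtain ⟨u0, hu⟩ := ext (x := y.1) (by simp [So, h.2.2.2.1, h.2.1, h'.2.2.1]) t2
  obtain ⟨v0, hv⟩ := ext (x := y.2) (by simp [So, sym y.2, h.2.2.1, h.2.1, h'.2.2.2.1]) t1
  have b0 := n2 (F := F)
  have b1 := n3 (F := F)
  obtain ⟨u, u1, u2, v1, hv1⟩ : ∃ u, So [t.2, x.2, y.2, z.2] u ∧ u ∉ [t.1, x.1, y.1, z.1] ∧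
      ∃ v, So (u :: [t.1, x.1, y.1, z.1]) v := by
    by_cases c : So [t.1, x.1, y.1, z.1] t.2
    · obtain ⟨u, u1, -, -, u2⟩ := av0 hu (card_bot' (s := t.2) (by simp))
        (card_bot' (s := t.2) (by simp)) [t.1, x.1, y.1, z.1]
        (pw (r := 3) b (by simp) (by simp only [List.length]; omega))
      exact ⟨u, u1, u2, t.2, List.forall_mem_cons.2 ⟨(sym _ _).trans (u1 _ (by simp)), c⟩⟩
    obtain ⟨p, p1, p2, p3, p4⟩ : ∃ p : Pt m F, p.1 ∈ [t.1, x.1, y.1, z.1] ∧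
        p.2 ∈ [t.2, x.2, y.2, z.2] ∧ hf p.1 p.2 = 1 ∧ hf t.2 p.1 ≠ 1 := by
      simp only [So, List.forall_mem_cons, not_and_or, List.not_mem_nil, IsEmpty.forall_iff,
        implies_true, not_true, or_false] at c
      rcases c with c | c | c | c
      exacts [⟨t, by simp, by simp, ht, c⟩, ⟨x, by simp, by simp, h.1, c⟩,
        ⟨y, by simp, by simp, h.2.1, c⟩, ⟨z, by simp, by simp, h'.2.1, c⟩]
    have lt : sp [t.1, x.1, y.1, z.1] ⊓ LinearMap.ker (lf p.2 - lf t.2) < sp [t.1, x.1, y.1, z.1] :=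
      lt_of_le_of_ne inf_le_left fun e => p4 (by
        rw [sym, ← p3]; exact (sub_eq_zero.1 (e.ge (mem_sp p1)).2).symm)
    have r := (finrank_lt_finrank_of_lt lt).trans_le (rk_sp _)
    obtain ⟨u, u1, u2, -⟩ := av0 hu (card_inf (s := t.2) (k := 2) (by simp) (Nat.lt_succ_iff.1 r))
      (card_bot' (s := t.2) (by simp)) [] (pw (r := 3) b (by simp) (by simp only [List.length]; omega))
    have u3 : u ∉ sp [t.1, x.1, y.1, z.1] := fun k =>
      u2 ⟨k, sub_eq_zero.2 ((u1 _ p2).trans (u1 t.2 (by simp)).symm)⟩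
    exact ⟨u, u1, fun k => u3 (mem_sp k), ext hv u3⟩
  obtain ⟨v, v2, v3⟩ := av4 b (s := u) (by simp) hv1 (by simp) t2
  simp only [So, List.mem_cons, List.not_mem_nil, or_false, forall_eq_or_imp, forall_eq, not_or]
    at u1 u2 v2 v3
  exact ⟨(u, v), mk h.1 v2.1 u1.2.1 v2.2.2.1 u2.2.1 v3.2.1,
    mk h.2.1 v2.1 u1.2.2.1 v2.2.2.2.1 u2.2.2.1 v3.2.2.1,
    mk h'.2.1 v2.1 u1.2.2.2 v2.2.2.2.2 u2.2.2.2 v3.2.2.2, mk ht v2.1 u1.1 v2.2.1 u2.1 v3.1⟩

theorem symm {p p' : Pt m F} (h : RP p p') : RP p' p :=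
  ⟨h.2.1, h.1, h.2.2.2.1, h.2.2.1, by rw [eq_comm, h.2.2.2.2, eq_comm]⟩

theorem jobPP : JobPP := by
  intro n F _ _ _ _ _ p
  have b : 6 ≤ n + 1 := Nat.succ_le_succ p.five
  refine ⟨fun x0 x1 x2 x3 x4 h0 h1 h2 h3 => .inr (.inr ?_), fun p p' h h' => ?_⟩
  · obtain ⟨y, y2, y3, y4, a, f⟩ := exY b h2 h3 x0.1 x1.1 x2.1 x0.2 x1.2 x2.2
    obtain ⟨w, hw⟩ := exW b h0 h1 y2.1 a f
    exact ⟨y, w, y2, y3, y4, hw⟩
  · have r : RP p p := ⟨h, h, h, h, by simp⟩
    have r' : RP p' p' := ⟨h', h', h', h', by simp⟩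
    obtain ⟨y, y2, -, -, a, f⟩ := exY b r r p'.1 p'.1 p'.1 p'.2 p'.2 p'.2
    obtain ⟨w, w1, -, -, w2⟩ := exW b r' r' y2.1 a f
    exact .head (symm y2) (.head (symm w2) (.single w1))

end H21.SPP
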