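import Cfsg.Agent.H67.P6.H67_SPIII
import Cfsg.Agent.H78.P6.H78_S2Kit

namespace H23 end H23
open H23
namespace H78.P6 end H78.P6
open H78.P6
namespace H78.P6.H23 end H78.P6.H23
open H78.P6.H23
namespace H78.P6.H23.SP3T2 end H78.P6.H23.SP3T2
open H78.P6.H23.SP3T2
namespace H85.P6 end H85.P6
open H85.P6
namespace H85.P6.H23 end H85.P6.H23
open H85.P6.H23
namespace H85.P6.H23.SP3T2 end H85.P6.H23.SP3T2
open H85.P6.H23.SP3T2
namespace H67.P6


/-! STD-SP chapter III, slot T2: squares and additivity on independent triples. -/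

set_option autoImplicit false
set_option linter.unusedSectionVars false

namespace H23.SP3T2

open H67.UA hiding Par sg
open H67.SP
open H67.SA (cm)
open H86.SPI (hf_self hf_comm hf_smul_right' ok)
open H78.S2 (ac_Tc' ac_qq' EE_fix EE_conj')
open Subgroup

universe u

section Grp

variable {G : Type u} [Group G] {A B C T X P Q p q r : G}

theorem sq3 (h1 : B * A = A * B * p) (h2 : C * A = A * C * q) (h3 : C * B = B * C * r)
    (pB : Commute p B) (pC : Commute p C) (qB : Commute q B) (qC : Commute q C)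
    (rC : Commute r C) : A * B * C * (A * B * C) = A * A * (B * B) * (C * C) * (r * p * q) :=
  calc A * B * C * (A * B * C) = A * B * (C * A) * B * C := by group
    _ = A * (B * A) * C * (q * B) * C := by rw [h2]; group
    _ = A * A * B * (p * C) * B * (q * C) := by rw [h1, qB.eq]; group
    _ = A * A * B * C * (p * B) * C * q := by rw [pC.eq, qC.eq]; group
    _ = A * A * B * (C * B) * (p * C) * q := by rw [pB.eq]; group
    _ = A * A * B * B * C * (r * C) * p * q := by rw [h3, pC.eq]; group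
    _ = _ := by rw [rC.eq]; group

theorem com3 (h1 : T * X = X * T * p) (h2 : A * X = X * A * q) (h3 : B * X = X * B * r)
    (pA : Commute p A) (pB : Commute p B) (qB : Commute q B) (h : p * q * r = 1) :
    X * (T * A * B) = T * A * B * X :=
  (calc T * A * B * X = T * A * (B * X) := by group
    _ = T * (A * X) * B * r := by rw [h3]; group
    _ = T * X * A * (q * B) * r := by rw [h2]; group
    _ = X * T * (p * A) * B * q * r := by rw [h1, qB.eq]; group
    _ = X * T * A * (p * B) * q * r := by rw [pA.eq]; group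
    _ = X * (T * A * B) * (p * q * r) := by rw [pB.eq]; group
    _ = _ := by rw [h, mul_one]).symm

theorem rev3 (h1 : A * T = T * A * p) (h2 : B * T = T * B * q) (h3 : B * A = A * B * r)
    (qA : Commute q A) : B * A * T = T * A * B * (r * q * p) :=
  calc B * A * T = B * (A * T) := by group
    _ = B * T * A * p := by rw [h1]; group
    _ = T * B * (q * A) * p := by rw [h2]; group
    _ = T * (B * A) * q * p := by rw [qA.eq]; group
    _ = _ := by rw [h3]; group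

theorem two4 {Z : Subgroup G} (hZ : ∀ a ∈ Z, ∀ b ∈ Z, a * b = b * a)
    (h2 : P * B * C ∈ Z) (h4 : Q * A * C ∈ Z)
    (hA : A * A ∈ Z) (hB : B * B ∈ Z) (hp : p ∈ Z) (hq : q ∈ Z) (hr : r ∈ Z)
    (cA : ∀ z ∈ Z, z * A = A * z) (cB : ∀ z ∈ Z, z * B = B * z) (cC : ∀ z ∈ Z, z * C = C * z)
    (cT : ∀ z ∈ Z, z * T = T * z) (k1 : B * A = A * B * p) (k2 : A * C = C * A * q)
    (k3 : B * C = C * B * r) :
    P * B * C * (T * B * Q) * (A * A * q) = Q * A * C * (T * A * P) * (B * B * r * p) := by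
  have e1 : T * A * P * (B * C) = P * B * C * (T * A) := by
    rw [← mul_assoc (P * B * C), cT _ h2, mul_assoc T (P * B * C), cA _ h2]; group
  have e2 : T * B * Q * (A * C) = Q * A * C * (T * B) := by
    rw [← mul_assoc (Q * A * C), cT _ h4, mul_assoc T (Q * A * C), cB _ h4]; group
  have e3 : A * C * A = A * A * q * C := by
    rw [k2, mul_assoc _ q, cA q hq, cC _ (mul_mem hA hq)]; group
  have e4 : B * C * B * p = B * B * r * p * C := by
    rw [k3, mul_assoc _ r, cB r hr, cC _ (mul_mem (mul_mem hB hr) hp)]; group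
  refine mul_right_cancel (b := C) ?_
  calc _ = P * B * C * (T * B * Q * (A * C)) * A := by rw [mul_assoc _ (A * A * q) C, ← e3]; group
    _ = P * B * C * (Q * A * C) * T * (B * A) := by rw [e2]; group
    _ = Q * A * C * (P * B * C * (T * A)) * B * p := by rw [hZ _ h2 _ h4, k1]; group
    _ = _ := by rw [← e1, mul_assoc _ (B * B * r * p) C, ← e4]; group

theorem six {Z : Subgroup G} (hZ : ∀ a ∈ Z, ∀ b ∈ Z, a * b = b * a) {a b c d f h : G}
    (ha : a ∈ Z) (hb : b ∈ Z) (hc : c ∈ Z) (hd : d ∈ Z) (hf : f ∈ Z) (hh : h ∈ Z) :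
    a * b * c * (c * d * f) * (b * d * h) * (a * h * f) =
      a * a * (b * b) * (c * c) * (d * d) * (f * f) * (h * h) := by
  let _ : CommGroup Z := { (inferInstance : Group Z) with
    mul_comm := fun x y => Subtype.ext (hZ _ x.2 _ y.2) }
  have : ∀ a b c d f h : Z, a * b * c * (c * d * f) * (b * d * h) * (a * h * f) =
      a * a * (b * b) * (c * c) * (d * d) * (f * f) * (h * h) := fun a b c d f h => by ac_rfl
  exact congrArg Subtype.val (this ⟨a, ha⟩ ⟨b, hb⟩ ⟨c, hc⟩ ⟨d, hd⟩ ⟨f, hf⟩ ⟨h, hh⟩)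

theorem mix {Z : Subgroup G} (hZ : ∀ a ∈ Z, ∀ b ∈ Z, a * b = b * a) {a b c d f h : G}
    (hb : b ∈ Z) (hc : c ∈ Z) (hd : d ∈ Z) (hf : f ∈ Z) :
    a * b * (c * d) * (f * h) = a * (c * f) * (b * d * h) := by
  rw [mul_assoc a b, ← mul_assoc b c, hZ b hb c hc, mul_assoc a, ← mul_assoc _ f h, mul_assoc c b d,
    mul_assoc c, hZ _ (mul_mem hb hd) f hf]
  group

end Grp

section AA
open H64.SG (Cs)
theorem exists_psi {G : Type u} [Group G] (N : Subgroup G) :
    ∃ (B : Type u) (_ : Group B) (ψ : G → B), (∀ a ∈ Cs N, ∀ b ∈ Cs N, ψ (a * b) = ψ a * ψ b) ∧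
      ∀ a ∈ Cs N, (ψ a = 1 ↔ a ∈ N) := by
  classical
  have : (N.subgroupOf (Cs N)).Normal := ⟨fun a ha g => by
    have : g * a * g⁻¹ = a := by
      rw [mul_inv_eq_iff_eq_mul]; exact Subtype.ext (g.2 _ ha).symm
    rwa [this]⟩
  refine ⟨Cs N ⧸ N.subgroupOf (Cs N), inferInstance,
    fun g => if h : g ∈ Cs N then ((⟨g, h⟩ : Cs N) : Cs N ⧸ N.subgroupOf (Cs N)) else 1,
    fun a ha b hb => ?_, fun a ha => ?_⟩
  · simp only [dif_pos ha, dif_pos hb, dif_pos (mul_mem ha hb)]; rfl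
  · simp only [dif_pos ha, QuotientGroup.eq_one_iff, mem_subgroupOf]

theorem six' {B : Type u} [Group B] {a b c d f h : B} (ab : Commute a b) (ac : Commute a c)
    (ad : Commute a d) (af : Commute a f) (ah : Commute a h) (bc : Commute b c) (bd : Commute b d)
    (bf : Commute b f) (bh : Commute b h) (cd : Commute c d) (cf : Commute c f) (ch : Commute c h)
    (df : Commute d f) (dh : Commute d h) (fh : Commute f h) :
    a * b * c * (c * d * f) * (b * d * h) * (a * h * f) =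
      a * a * (b * b) * (c * c) * (d * d) * (f * f) * (h * h) := by
  simp only [mul_assoc, ab.symm.eq, ac.symm.eq, ad.symm.eq, af.symm.eq, ah.symm.eq, bc.symm.eq,
    bd.symm.eq, bf.symm.eq, bh.symm.eq, cd.symm.eq, cf.symm.eq, ch.symm.eq, df.symm.eq, dh.symm.eq,
    fh.symm.eq, ab.symm.left_comm, ac.symm.left_comm, ad.symm.left_comm, af.symm.left_comm,
    ah.symm.left_comm, bc.symm.left_comm, bd.symm.left_comm, bf.symm.left_comm, bh.symm.left_comm,
    cd.symm.left_comm, cf.symm.left_comm, ch.symm.left_comm, df.symm.left_comm, dh.symm.left_comm,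
    fh.symm.left_comm]

variable {n : ℕ} {F : Type} [Field F] [StarRing F] [TrivialStar F] [CharP F 2] [Finite F]
  [FV n F] [FW n F]

theorem hc (x y : Vn n F) : hf x y = hf y x := by rw [← star_hf, star_trivial]

theorem mul' {u v w : Vn n F} (h : hf v u = 0) (h' : hf w u = 0) (c d : F) :
    EE u v c * EE u w d = EE u (v + w) (c + d + hf w v) := EE_mul (FV.ok _ _ _ h) (FV.ok _ _ _ h')

/-- The computation modulo `⟨Z_u, τ u⟩`. -/
theorem abs {B : Type u} [Group B] (two : ∀ a : F, a = 0 ∨ a = 1) {u v₀ w₀ z₀ : Vn n F} (κ : F)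
    (S Q : Vn n F → B) (P : XU n F → B)
    (h1 : ∀ x y, hf x u = 0 → hf y u = 0 → Q x * Q y = Q (x + y))
    (h2 : ∀ x v, hf x u = 0 → hf v u = 0 → Q x * S v = S v * Q x)
    (h3 : ∀ v, hf v u = 0 → S v * S v = Q (κ • v))
    (h4 : ∀ v w, P3 u v w → Li3 u v w → S v * S w * S (v + w) = 1)
    (h5 : ∀ v w, hf v u = 0 → hf w u = 0 → ∃ x, hf x u = 0 ∧ S v * S w * S (v + w) = Q x)
    (h6 : ∀ p v, ac p u = u → hf v u = 0 → P p * S v = S (ac p v) * P p ∧ P p * Q v = Q (ac p v) * P p)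
    (h7 : ∀ x, hf x u = 0 → (Q x = 1 ↔ ∃ a : F, x = a • u))
    (hv : hf v₀ u = 0) (hw : hf w₀ u = 0) (hz : hf z₀ u = 0)
    (l : ∀ a b c d : F, a • u + b • v₀ + c • w₀ + d • z₀ = 0 → a = 0 ∧ b = 0 ∧ c = 0 ∧ d = 0) :
    κ = 0 := by
  have hu : u ≠ 0 := fun k => one_ne_zero (l 1 0 0 0 (by simp [k])).1
  have ad : ∀ {x y : Vn n F}, hf x u = 0 → hf y u = 0 → hf (x + y) u = 0 := fun h h' => by
    rw [hf_add_left, h, h', add_zero]
  have sm : ∀ (a : F) {x : Vn n F}, hf x u = 0 → hf (a • x) u = 0 := fun a _ h => by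
    rw [hf_smul_left, h, mul_zero]
  have q0 : Q 0 = 1 := (h7 0 (by simp)).2 ⟨0, by simp⟩
  have cS : ∀ {v w}, hf v u = 0 → hf w u = 0 → Commute (S v) (S w) := fun {v w} hv hw => by
    obtain ⟨x, hx, e⟩ := h5 v w hv hw
    have hvw := ad hv hw
    have e1 : S v * S w = Q x * (S (v + w))⁻¹ := eq_mul_inv_of_mul_eq e
    have e2 : Commute (Q x) (S (v + w)) := h2 _ _ hx hvw
    have e3 : S v * S w * (S v * S w) = S v * S v * (S w * S w) := by
      rw [h3 v hv, h3 w hw, h1 _ _ (sm κ hv) (sm κ hw), ← smul_add, e1, mul_assoc,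
        ← mul_assoc _ (Q x), ← e2.inv_right.eq, ← mul_assoc, ← mul_assoc, h1 x x hx hx, v_add_self, q0,
        one_mul, ← mul_inv_rev, h3 _ hvw, inv_eq_iff_mul_eq_one, h1 _ _ (sm κ hvw) (sm κ hvw),
        v_add_self, q0]
    have : S v * (S w * S v) * S w = S v * (S v * S w) * S w := by simpa only [mul_assoc] using e3
    exact (mul_left_cancel (mul_right_cancel this)).symm
  have K : ∀ v w, hf v u = 0 → hf w u = 0 → Li3 u v w → S v * S w * S (v + w) = 1 := by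
    intro v w hv hw l
    rcases two (hf v w) with h | h
    · exact h4 v w ⟨hf_symm hv, hf_symm hw, h⟩ l
    obtain ⟨x, hx, e⟩ := h5 v w hv hw
    have T : ∀ y z : Vn n F, ac (TT y) z = z + hf z y • y := fun y z => by
      simpa using ac_Tc (FV.iso y) (star_one F) z
    have key : ∀ y, hf y u = 0 → S (ac (TT y) v) * S (ac (TT y) w) * S (ac (TT y) (v + w)) =
        S v * S w * S (v + w) → hf x y = 0 := fun y hy k => by
      have p : ac (TT y) u = u := by rw [T, hf_symm hy, zero_smul, add_zero]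
      have k1 : Q (ac (TT y) x) * P (TT y) = Q x * P (TT y) := by
        rw [← (h6 _ x p hx).2, ← e, ← mul_assoc, ← mul_assoc, (h6 _ v p hv).1, mul_assoc _ (P _),
          (h6 _ w p hw).1, ← mul_assoc, mul_assoc _ (P _), (h6 _ _ p (ad hv hw)).1, ← mul_assoc, k]
      have hy' := sm (hf x y) hy
      rw [mul_left_inj, T, ← h1 _ _ hx hy', mul_eq_left, h7 _ hy'] at k1
      obtain ⟨a, k1⟩ := k1
      rcases two (hf x y) with k2 | k2
      · exact k2
      · rw [k2, one_smul] at k1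
        rw [k1, hc, hf_smul_left, hc, hx, mul_zero]
    have hw' : hf w v = 1 := by rw [hc, h]
    have k1 := key v hv (by
      rw [T, T, T, hf_add_left, FV.iso v, hw', zero_smul, add_zero, zero_add, one_smul,
        add_right_comm, v_add_self, zero_add, add_comm w v, mul_assoc, ← (cS hw (ad hv hw)).eq,
        mul_assoc])
    have k2 := key w hw (by
      rw [T, T, T, hf_add_left, FV.iso w, h, zero_smul, add_zero, add_zero, one_smul,
        add_assoc, v_add_self, add_zero, ← (cS hw (ad hv hw)).eq, mul_assoc, ← (cS hv (ad hv hw)).eq,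
        ← mul_assoc, (cS hv hw).eq])
    rw [e, h7 x hx]
    refine FW.dual u x hu fun y hy => ?_
    have k3 := key (y + hf y w • v + hf y v • w) (ad (ad hy (sm _ hv)) (sm _ hw)) (by
      have a1 : hf v (y + hf y w • v + hf y v • w) = 0 := by
        rw [hc, hf_add_left, hf_add_left, hf_smul_left, hf_smul_left, FV.iso v, hw']
        simp [CharTwo.add_self_eq_zero]
      have a2 : hf w (y + hf y w • v + hf y v • w) = 0 := by
        rw [hc, hf_add_left, hf_add_left, hf_smul_left, hf_smul_left, FV.iso w, h]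
        simp [CharTwo.add_self_eq_zero]
      rw [T, T, T, hf_add_left, a1, a2]; simp)
    rw [hc, hf_add_left, hf_add_left, hf_smul_left, hf_smul_left, hc v x, hc w x, k1, k2] at k3
    simpa using k3
  have hvw := ad hv hw
  have hwz := ad hw hz
  have h0 := ad hvw hz
  have k := six' (cS hv hw) (cS hv hvw) (cS hv hz) (cS hv h0) (cS hv hwz) (cS hw hvw) (cS hw hz)
    (cS hw h0) (cS hw hwz) (cS hvw hz) (cS hvw h0) (cS hvw hwz) (cS hz h0) (cS hz hwz) (cS h0 hwz)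
  have e4 := K v₀ (w₀ + z₀) hv hwz fun a b c k => by
    obtain ⟨k1, k2, k3, -⟩ := l a b c c (by rw [← k]; module); exact ⟨k1, k2, k3⟩
  rw [← add_assoc] at e4
  rw [e4, K _ _ hv hw fun a b c k => by
      obtain ⟨k1, k2, k3, -⟩ := l a b c 0 (by rw [← k]; module); exact ⟨k1, k2, k3⟩,
    K _ _ hvw hz fun a b c k => by
      obtain ⟨k1, k2, -, k3⟩ := l a b b c (by rw [← k]; module); exact ⟨k1, k2, k3⟩,
    K _ _ hw hz fun a b c k => by
      obtain ⟨k1, -, k2, k3⟩ := l a 0 b c (by rw [← k]; module); exact ⟨k1, k2, k3⟩,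
    h3 _ hv, h3 _ hw, h3 _ hvw, h3 _ hz, h3 _ h0, h3 _ hwz, h1 _ _ (sm κ hv) (sm κ hw), ← smul_add,
    h1 _ _ (sm κ hvw) (sm κ hvw), v_add_self, q0, one_mul, one_mul, one_mul, one_mul, h1 _ _ (sm κ hz) (sm κ h0), ← smul_add,
    h1 _ _ (sm κ (ad hz h0)) (sm κ hwz), ← smul_add,
    show z₀ + (v₀ + w₀ + z₀) + (w₀ + z₀) = v₀ + z₀ + (z₀ + z₀) + (w₀ + w₀) by abel, v_add_self,
    v_add_self, add_zero, add_zero, eq_comm, h7 _ (sm κ (ad hv hz))] at k
  obtain ⟨a, k⟩ := k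
  exact (l a κ 0 κ (by rw [← k, zero_smul, add_zero, add_assoc, ← smul_add, v_add_self])).2.1

end AA

variable {n : ℕ} {F : Type} [Field F] [StarRing F] [TrivialStar F] [CharP F 2] [Finite F]
  [hp : Par n F]

section X

variable {u v w : Vn n F}

theorem hs (c : F) (h : hf u v = 0) : hf (c • v) u = 0 := by rw [hf_smul_left, hf_symm h, mul_zero]

theorem ac_wd (c : F) (h : hf u v = 0) (y : Vn n F) :
    ac (qq (c • v) u) y = y + (c * hf y v) • u + (c * hf y u) • v := by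
  rw [ac_qq' (hs c h), hf_smul_right', smul_smul, mul_comm (hf y u)]

/-- identities inside `S²(W)` -/
local macro "xid" h:ident : tactic => `(tactic| (
  refine ac_ext fun y => ?_
  have h1 := ($h).uv
  have h2 := ($h).uw
  have h3 := ($h).vw
  have h4 := hf_symm h1
  have h5 := hf_symm h2
  have h6 := hf_symm h3
  simp only [m3, m2, ac_mul, ac_Tc', ac_wd, ac_one, hf_add_left, hf_add_right, hf_smul_left,
    hf_smul_right', hf_self, h1, h2, h3, h4, h5, h6, add_zero, mul_zero]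
  ext i
  simp only [Pi.add_apply, Pi.smul_apply, smul_eq_mul]
  grind))

theorem x1 (h : P3 u v w) (c : F) : qq (c • w) (u + v) * qq (c • w) u * qq (c • w) v = 1 := by
  xid h

theorem x2 (h : P3 u v w) (a b c d f k : F) : m3 u w v a b c d f k = m3 u v w a c b f d k := by
  xid h

theorem x3 (h : P3 u v w) (a b c d f k : F) :
    m3 u v (v + w) a b c d f k = m3 u v w a (b + c) c (d + f) f (k + c) := by
  xid h

theorem x4 (h : P3 u v w) (a b c d f k : F) :
    m3 u (v + u) w a b c d f k = m3 u v w (a + b) b c (d + b) (f + k) k := by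
  xid h

theorem x5 (h : P3 u v w) (a : F) : m3 u v w a 0 0 0 0 0 = Tc a u := by
  xid h

theorem x6 (h : P3 u v w) (c : F) : qq (c • w) u * qq (c • w) v * qq (c • w) (u + v) = 1 := by
  xid h

theorem p3 (h : hf u v = 0) : P3 u v u := ⟨h, hf_self u, hf_symm h⟩

theorem x8 (h : hf u v = 0) (ρ β : F) : Tc ρ (u + v) * Tc ρ u * Tc ρ v *
    (qq (β • u) v * qq (β • (u + v)) u * qq (β • (u + v)) v) = qq ((ρ + β) • v) u := by
  have h := p3 h
  xid h

theorem x9 (h : hf u v = 0) (β : F) : Tc β u * Tc β v * (Tc β u * Tc β v) = 1 := by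
  have h := p3 h
  xid h

theorem x10 (h : hf u v = 0) (β : F) : qq (β • u) v * qq (β • (u + v)) v * qq (β • (u + v)) u *
    (Tc β u * Tc β (u + v)) = Tc β u * Tc β v * Tc β u := by
  have h := p3 h
  xid h

theorem x11 (h : P3 u v w) (ρ β : F) : qq (β • u) v * (Tc ρ v * qq (β • w) v * qq (β • u) v) *
    (Tc ρ u * qq (β • w) u)⁻¹ * (Tc β v * Tc β u * (Tc β v * Tc β w) * (Tc β v * Tc β (u + w))) =
    Tc β u * Tc β v * (Tc β u * Tc β w) * (Tc β u * Tc β (v + w)) *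
      (Tc (ρ + β) u * Tc (ρ + β) v) := by
  rw [inv_eq_of_mul_eq_one_right (show Tc ρ u * qq (β • w) u * (Tc ρ u * qq (β • w) u) = 1 by xid h)]
  xid h

theorem x12 (h : hf u v = 0) (a k : F) : Tc a u * (Tc k u * Tc k v) = m2 u v (a + k) k 0 := by
  have h := p3 h
  xid h

theorem x13 (h : hf u v = 0) (a : F) : Tc a v = m2 u v 0 a 0 := by
  have h := p3 h
  xid h

theorem x14 (a : F) : Tc a u * Tc a u * Tc a u * Tc a u = 1 := by
  have h := p3 (hf_self u)
  xid h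

theorem m3_conj (h : P3 u v w) (g : XU n F) (a b c d f k : F) :
    g * m3 u v w a b c d f k * g⁻¹ = m3 (ac g u) (ac g v) (ac g w) a b c d f k := by
  have c1 : ∀ (a : F) x, g * Tc a x * g⁻¹ = Tc a (ac g x) := fun a x =>
    Tc_conj (hf_self x) (star_trivial a) g
  have c2 : ∀ (a : F) {x y}, hf x y = 0 → g * qq (a • y) x * g⁻¹ = qq (a • ac g y) (ac g x) :=
    fun a x y k => by rw [EE_conj' (hs a k), ac_smul]
  simp only [m3, m2, ← c1, ← c2 _ h.uv, ← c2 _ h.uw, ← c2 _ h.vw]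
  group

/-- `W` is totally isotropic -/
def TI (W : Submodule F (Vn n F)) : Prop := ∀ x ∈ W, ∀ y ∈ W, hf x y = 0

theorem ti_span {T : Set (Vn n F)} (h : ∀ x ∈ T, ∀ y ∈ T, hf x y = 0) : TI (Submodule.span F T) := by
  have k : ∀ y, (∀ x ∈ T, hf x y = 0) → ∀ x ∈ Submodule.span F T, hf x y = 0 := fun y hy x hx => by
    induction hx using Submodule.span_induction with
    | mem x hx => exact hy x hx
    | zero => simp
    | add a b _ _ ha hb => rw [hf_add_left, ha, hb, add_zero]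
    | smul a b _ hb => rw [hf_smul_left, hb, mul_zero]
  exact fun x hx y hy => k y (fun x hx => hf_symm (k x (fun z hz => h z hz x hx) y hy)) x hx

theorem exists_ti (h : P3 u v w) : ∃ W : Submodule F (Vn n F), TI W ∧ u ∈ W ∧ v ∈ W ∧ w ∈ W := by
  refine ⟨_, ti_span (T := {u, v, w}) ?_, Submodule.subset_span (by simp),
    Submodule.subset_span (by simp), Submodule.subset_span (by simp)⟩
  simp [hf_self, h.uv, h.uw, h.vw, hf_symm h.uv, hf_symm h.uw, hf_symm h.vw]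

theorem TI.qa {W : Submodule F (Vn n F)} (h : TI W) (hu : u ∈ W) (hv : v ∈ W) (hw : w ∈ W) :
    qq v u * qq w u = qq (v + w) u := by
  rw [H86.SPI.EE_mul' (h _ hv _ hu) (h _ hw _ hu), h _ hw _ hv]; simp

theorem exists_g [Base n F] {u' v' w' : Vn n F} (h : P3 u v w) (l : Li3 u v w) (h' : P3 u' v' w')
    (l' : Li3 u' v' w') : ∃ g : XU n F, ac g u = u' ∧ ac g v = v' ∧ ac g w = w' := by
  obtain ⟨g, a, b, c⟩ := FW.w3 u v w h.uv h.uw h.vw l
  obtain ⟨g', a', b', c'⟩ := FW.w3 u' v' w' h'.uv h'.uw h'.vw l'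
  exact ⟨g' * g⁻¹, by rw [ac_mul, ← a, ac_inv_ac, a'], by rw [ac_mul, ← b, ac_inv_ac, b'],
    by rw [ac_mul, ← c, ac_inv_ac, c']⟩

theorem li3_of (l : Li3 u v w) (a b c d k m : F) (h : a * d + b * c ≠ 0) :
    Li3 u (a • v + b • w + k • u) (c • v + d • w + m • u) := fun x y z e => by
  obtain ⟨h1, h2, h3⟩ := l (x + y * k + z * m) (y * a + z * c) (y * b + z * d) (by
    rw [← e]; module)
  have hy : y = 0 := (mul_eq_zero.1 (show y * (a * d + b * c) = 0 by
    linear_combination d * h2 + c * h3 - z * c * d * two0 F)).resolve_right h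
  have hz : z = 0 := (mul_eq_zero.1 (show z * (a * d + b * c) = 0 by
    linear_combination b * h2 + a * h3 - y * a * b * two0 F)).resolve_right h
  exact ⟨by simpa [hy, hz] using h1, hy, hz⟩

end X

variable {G : Type u} [Group G] {e : XU n F →* G} {t : G} {τ : Vn n F → G} {β ρ : F}
  {W : Submodule F (Vn n F)} {u v w z : Vn n F}

variable (e τ W) in
/-- the generators -/
def SS : Set G := {g | (∃ x ∈ W, g = τ x) ∨ ∃ p, (∀ x ∈ W, ac p x = x) ∧ g = e p}

variable (e τ W) in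
/-- an abelian group centralised by the `τ x` -/
def ZW : Subgroup G := centralizer (SS e τ W) ⊓ centralizer (centralizer (SS e τ W))

theorem z_comm : ∀ a ∈ ZW e τ W, ∀ b ∈ ZW e τ W, a * b = b * a := fun _ ha _ hb => hb.2 _ ha.1

theorem z_tau (h : u ∈ W) : ∀ a ∈ ZW e τ W, a * τ u = τ u * a := fun _ ha =>
  (ha.1 _ (Or.inl ⟨u, h, rfl⟩)).symm

theorem tau_cc (h : u ∈ W) : τ u ∈ centralizer (centralizer (SS e τ W) : Set G) := fun _ ha =>
  (ha _ (Or.inl ⟨u, h, rfl⟩)).symm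

theorem EE_z (r : R0 e τ) (i : TI W) (hu : u ∈ W) (hv : v ∈ W) (c : F) :
    e (EE u v c) ∈ ZW e τ W := by
  have k : ∀ x ∈ W, ac (EE u v c) x = x := fun x hx =>
    ac_EE_fix (ok (i _ hv _ hu) c) (i _ hx _ hu) (i _ hx _ hv)
  refine ⟨?_, fun a ha => (ha _ (Or.inr ⟨_, k, rfl⟩)).symm⟩
  rintro _ (⟨x, hx, rfl⟩ | ⟨p, hp, rfl⟩)
  · exact (r.fix (k x hx)).symm
  · rw [← map_mul, EE_fix (i _ hv _ hu) c (hp u hu) (hp v hv), map_mul]

theorem Tc_z (r : R0 e τ) (i : TI W) (hu : u ∈ W) (c : F) : e (Tc c u) ∈ ZW e τ W :=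
  EE_z r i hu W.zero_mem c

theorem qq_z (r : R0 e τ) (i : TI W) (hu : u ∈ W) (hv : v ∈ W) (c : F) :
    e (qq (c • v) u) ∈ ZW e τ W := EE_z r i hu (W.smul_mem c hv) 0

theorem TT_z (r : R0 e τ) (i : TI W) (hu : u ∈ W) (hv : v ∈ W) :
    e (Tc β u * Tc β v) ∈ ZW e τ W := by
  rw [map_mul]; exact mul_mem (Tc_z r i hu β) (Tc_z r i hv β)

theorem sw (r : R1 e τ β) (i : TI W) (hu : u ∈ W) (hv : v ∈ W) :
    τ u * τ v = τ v * τ u * e (qq (β • v) u) := by
  have k := qq_z r.toR0 i hu hv β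
  rw [mul_assoc, ← z_tau hu _ k, ← mul_assoc, ← z_tau hv _ k, ← r.cmp u v (i _ hu _ hv), cm]
  group

theorem qc (r : R1 e τ β) (i : TI W) (hu : u ∈ W) (hv : v ∈ W) (hw : w ∈ W) :
    Commute (e (qq (β • v) u)) (τ w) := z_tau hw _ (qq_z r.toR0 i hu hv β)

theorem s_z (r : R1 e τ β) (i : TI W) (hu : u ∈ W) (hv : v ∈ W) :
    τ (u + v) * τ u * τ v ∈ ZW e τ W := by
  have huv := W.add_mem hu hv
  refine ⟨?_, mul_mem (mul_mem (tau_cc huv) (tau_cc hu)) (tau_cc hv)⟩
  rintro _ (⟨x, hx, rfl⟩ | ⟨p, hp, rfl⟩)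
  · refine com3 (sw r i huv hx) (sw r i hu hx) (sw r i hv hx) (qc r i huv hx hu) (qc r i huv hx hv)
      (qc r i hu hx hv) ?_
    rw [← map_mul, ← map_mul, x1 ⟨i _ hu _ hv, i _ hu _ hx, i _ hv _ hx⟩, map_one]
  · exact ((show Commute _ _ from r.fix (hp _ huv)).mul_right (r.fix (hp _ hu))).mul_right
      (r.fix (hp _ hv))

theorem sg_z (r : R1 e τ β) (i : TI W) (hu : u ∈ W) (hv : v ∈ W) : sg e τ β u v ∈ ZW e τ W :=
  mul_mem (s_z r i hu hv) (TT_z r.toR0 i hu hv)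

theorem sg_sq (r : R1 e τ β) (q : Sq e τ ρ) (i : TI W) (hu : u ∈ W) (hv : v ∈ W) :
    sg e τ β u v * sg e τ β u v = e (qq ((ρ + β) • v) u) := by
  have huv := W.add_mem hu hv
  rw [sg, mul_assoc, ← mul_assoc (e _), z_comm _ (TT_z r.toR0 i hu hv) _ (s_z r i hu hv),
    mul_assoc _ (e _), ← map_mul, x9 (i _ hu _ hv), map_one, mul_one,
    sq3 (sw r i hu huv) (sw r i hv huv) (sw r i hv hu) (qc r i hu huv hu) (qc r i hu huv hv)
      (qc r i hv huv hu) (qc r i hv huv hv) (qc r i hv hu hv), q, q, q, ← x8 (i _ hu _ hv)]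
  simp only [map_mul]

theorem sg_sh (r : R1 e τ β) (i : TI W) (hu : u ∈ W) (hv : v ∈ W) :
    sg e τ β u (v + u) = sg e τ β u v * e (Tc β u) := by
  have huv := W.add_mem hu hv
  rw [sg, sg, add_comm v u, ← add_assoc, v_add_self, zero_add,
    rev3 (sw r i hu huv) (sw r i hv huv) (sw r i hv hu) (qc r i hv huv hu), mul_assoc, ← map_mul,
    ← map_mul, ← map_mul, x10 (i _ hu _ hv), mul_assoc _ (e _), ← map_mul]

variable (e τ β) in
/-- the defect of additivity -/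
noncomputable def E (u v w : Vn n F) : G := sg e τ β u v * sg e τ β u w * sg e τ β u (v + w)

theorem E_eqv [Base n F] (r : R0 e τ) (g : XU n F) :
    e g * E e τ β u v w * (e g)⁻¹ = E e τ β (ac g u) (ac g v) (ac g w) := by
  simp only [E, ← ac_add, ← r.sg_eqv β g]; group

theorem E_M [Base n F] (a : AW e t) (r : R1 e τ β) (tt : Tt e τ t) (h : P3 u v w) (l : Li3 u v w) :
    ∃ a b c d f k, E e τ β u v w = e (m3 u v w a b c d f k) := by
  obtain ⟨W, i, hu, hv, hw⟩ := exists_ti h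
  have hvw := W.add_mem hv hw
  have sv := r.toR0.sv a.cen tt β
  have k : ∀ {x y : Vn n F}, x ∈ W → y ∈ W →
      sg e τ β u x * (t * e (qq y u)) = t * e (qq (x + y) u) * sg e τ β u x := fun {x y} hx hy => by
    rw [← mul_assoc, mul_inv_eq_iff_eq_mul.1 (sv u x (i _ hu _ hx)), mul_assoc,
      z_comm _ (sg_z r i hu hx) _ (EE_z r.toR0 i hu hy 0), ← i.qa hu hx hy, map_mul]
    group
  have h1 : E e τ β u v w * t = t * E e τ β u v w := by
    rw [E, mul_assoc, mul_inv_eq_iff_eq_mul.1 (sv u _ (i _ hu _ hvw)), ← mul_assoc, mul_assoc _ _ (_ * _),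
      k hw hvw, ← mul_assoc, k hv (W.add_mem hw hvw), add_comm v w, ← add_assoc w, v_add_self,
      zero_add, v_add_self, qq, EE_zero, map_one]
    group
  obtain ⟨a1, b, c, d, f, k, h2 | h2⟩ := a.v3 _ u v w h l h1 fun p h1 h2 h3 => by
    rw [eq_comm, ← mul_inv_eq_iff_eq_mul, E_eqv r.toR0, h1, h2, h3]
  · exact ⟨a1, b, c, d, f, k, h2⟩
  · have h3 : e (m3 u v w a1 b c d f k) ∈ ZW e τ W := by
      simp only [m3, m2, map_mul]
      exact mul_mem (mul_mem (mul_mem (mul_mem (mul_mem (Tc_z r.toR0 i hu _) (Tc_z r.toR0 i hv _))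
        (qq_z r.toR0 i hu hv _)) (Tc_z r.toR0 i hw _)) (qq_z r.toR0 i hu hw _)) (qq_z r.toR0 i hv hw _)
    have h4 : t * e (m3 u v w a1 b c d f k) ∈ ZW e τ W :=
      h2 ▸ mul_mem (mul_mem (sg_z r i hu hv) (sg_z r i hu hw)) (sg_z r i hu hvw)
    have h5 := tt u
    rw [← z_tau hu _ ((mul_mem_cancel_right h3).1 h4), mul_inv_cancel_right, left_eq_mul,
      ← map_one e] at h5
    exact (one_ne_zero (Tc_eq_one (fun k => one_ne_zero (l 1 0 0 (by simp [k])).1) (hf_self u)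
      (star_one F) (a.inj h5))).elim

theorem E_Tc [Base n F] (a : AW e t) (r : R1 e τ β) (tt : Tt e τ t) (h : P3 u v w) (l : Li3 u v w) :
    ∃ a, E e τ β u v w = e (Tc a u) := by
  obtain ⟨W, i, hu, hv, hw⟩ := exists_ti h
  have hvw := W.add_mem hv hw
  obtain ⟨a1, b, c, d, f, k, h1⟩ := E_M a r tt h l
  have key : ∀ {v' w' : Vn n F}, v' ∈ W → w' ∈ W → Li3 u v' w' → E e τ β u v' w' = E e τ β u v w →
      m3 u v' w' a1 b c d f k = m3 u v w a1 b c d f k := fun {v' w'} hv' hw' l' h2 => by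
    obtain ⟨g, g1, g2, g3⟩ := exists_g h l ⟨i _ hu _ hv', i _ hu _ hw', i _ hv' _ hw'⟩ l'
    have h3 := E_eqv (β := β) (u := u) (v := v) (w := w) r.toR0 g
    rw [g1, g2, g3, h2, h1, ← map_inv, ← map_mul, ← map_mul, m3_conj h, g1, g2, g3] at h3
    exact a.inj h3
  have k1 := key hw hv (by simpa using li3_of l 0 1 1 0 0 0 (by simp)) (by
    rw [E, E, add_comm w v, z_comm _ (sg_z r i hu hw) _ (sg_z r i hu hv)])
  have k2 := key hv hvw (by simpa using li3_of l 1 0 1 1 0 0 (by simp)) (by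
    rw [E, E, ← add_assoc, v_add_self, zero_add, mul_assoc,
      z_comm _ (sg_z r i hu hvw) _ (sg_z r i hu hw), mul_assoc])
  have k3 := key (W.add_mem hv hu) hw (by simpa using li3_of l 1 0 0 1 1 0 (by simp)) (by
    rw [E, E, add_right_comm v u w, sg_sh r i hu hv, sg_sh r i hu hvw, mul_assoc _ (e _),
      z_comm _ (Tc_z r.toR0 i hu β) _ (sg_z r i hu hw), ← mul_assoc, ← mul_assoc, mul_assoc _ (e _),
      z_comm _ (Tc_z r.toR0 i hu β) _ (sg_z r i hu hvw), ← mul_assoc, mul_assoc _ (e _), ← map_mul,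
      H78.S2.Tc_sq, map_one, mul_one])
  rw [x2 h] at k1
  rw [x3 h] at k2
  rw [x4 h] at k3
  obtain ⟨-, b1, -, d1, -⟩ := a.uq3 _ _ _ _ _ _ _ _ _ _ _ _ _ _ _ h l k1
  obtain ⟨-, c0, -, f0, -⟩ := a.uq3 _ _ _ _ _ _ _ _ _ _ _ _ _ _ _ h l k2
  obtain ⟨-, -, -, -, k0, -⟩ := a.uq3 _ _ _ _ _ _ _ _ _ _ _ _ _ _ _ h l k3
  rw [add_eq_left] at c0 f0 k0
  subst b1 d1 c0 f0 k0
  exact ⟨a1, by rw [h1, x5 h]⟩

theorem E_sw (r : R1 e τ β) (q : Sq e τ ρ) (h : P3 u v w) :
    E e τ β v u w = E e τ β u v w * e (Tc (ρ + β) u * Tc (ρ + β) v) := by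
  obtain ⟨W, i, hu, hv, hw⟩ := exists_ti h
  have hvw := W.add_mem hv hw
  have huw := W.add_mem hu hw
  have r0 := r.toR0
  have k := two4 (T := τ (u + (v + w))) z_comm (s_z r i hv hw) (s_z r i hu hw) (q u ▸ Tc_z r0 i hu ρ)
    (q v ▸ Tc_z r0 i hv ρ) (qq_z r0 i hv hu β) (qq_z r0 i hu hw β) (qq_z r0 i hv hw β) (z_tau hu)
    (z_tau hv) (z_tau hw) (z_tau (W.add_mem hu hvw)) (sw r i hv hu) (sw r i hu hw) (sw r i hv hw)
    (P := τ (v + w)) (Q := τ (u + w))
  rw [q, q, ← map_mul, ← map_mul, ← map_mul, ← eq_mul_inv_iff_mul_eq, ← map_inv] at k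
  rw [E, E, sg, sg, sg, sg, sg, sg,
    mix z_comm (TT_z r0 i hv hu) (s_z r i hv hw) (TT_z r0 i hv hw) (s_z r i hv huw),
    mix z_comm (TT_z r0 i hu hv) (s_z r i hu hw) (TT_z r0 i hu hw) (s_z r i hu hvw),
    add_left_comm v u w, k, add_comm v u, mul_assoc (τ (u + v)) (τ v), sw r i hv hu]
  have h1 := congrArg e (x11 h ρ β)
  have h2 := z_comm _ (qq_z r0 i hv hu β) _ (mul_mem (s_z r i hu hw) (s_z r i hu hvw))
  have key : ∀ a b c S p x y z m k : G, p * S = S * p → p * x * y * z = m * k →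
      a * (b * c * p) * (S * x * y) * z = a * b * c * S * m * k := fun a b c S p x y z m k h h' =>
    calc _ = a * b * c * (p * S) * x * y * z := by group
      _ = a * b * c * S * (p * x * y * z) := by rw [h]; group
      _ = _ := by rw [h']; group
  simp only [map_mul] at h1 ⊢
  rw [key _ _ _ _ _ _ _ _ _ _ h2 h1]

theorem E_eq [Base n F] (a : AW e t) (r : R1 e τ β) (tt : Tt e τ t) (q : Sq e τ ρ) (h : P3 u v w)
    (l : Li3 u v w) : E e τ β u v w = e (Tc (ρ + β) u) := by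
  obtain ⟨c, h1⟩ := E_Tc a r tt h l
  obtain ⟨d, h2⟩ := E_Tc a r tt (⟨hf_symm h.uv, h.vw, h.uw⟩ : P3 v u w) fun x y z k => by
    obtain ⟨k1, k2, k3⟩ := l y x z (by rw [← k, add_comm (y • u)])
    exact ⟨k2, k1, k3⟩
  have h3 := E_sw r q h
  rw [h1, h2, ← map_mul, x12 h.uv, x13 h.uv] at h3
  have h4 := (a.uq2 _ _ _ _ _ _ _ _ h.uv (fun x y k => by
    obtain ⟨k1, k2, -⟩ := l x y 0 (by simpa using k)
    exact ⟨k1, k2⟩) (a.inj h3)).1
  rw [h1, show c = ρ + β by linear_combination -h4 - (ρ + β) * two0 F]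

theorem kappa6 [Base n F] (two : ∀ a : F, a = 0 ∨ a = 1) (a : AW e t) (r : R1 e τ β) (tt : Tt e τ t)
    (q : Sq e τ ρ) (hv : hf v u = 0) (hw : hf w u = 0) (hz : hf z u = 0)
    (l : ∀ a b c d : F, a • u + b • v + c • w + d • z = 0 → a = 0 ∧ b = 0 ∧ c = 0 ∧ d = 0) :
    ρ + β = 0 := by
  have hu : u ≠ 0 := fun k => one_ne_zero (l 1 0 0 0 (by simp [k])).1
  have r0 := r.toR0
  let N : Subgroup G := closure {g | g = τ u ∨ ∃ c, g = e (Tc c u)}
  obtain ⟨B, _, ψ, m, o⟩ := exists_psi N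
  have hC : ∀ g, g * τ u = τ u * g → (∀ c, g * e (Tc c u) = e (Tc c u) * g) → g ∈ H64.SG.Cs N :=
    fun g h1 h2 x hx => by
      have k : N ≤ centralizer {g} := (closure_le _).2 (by
        rintro _ (rfl | ⟨c, rfl⟩) _ rfl
        exacts [h1, h2 c])
      exact (k hx g rfl).symm
  have ce : ∀ p, ac p u = u → e p ∈ H64.SG.Cs N := fun p hp => hC _ (r0.fix hp) fun c => by
    rw [← map_mul, ← map_mul, Tc, EE_fix (hf_zero_left u) c hp (ac_zero p)]
  have fu : ∀ {x : Vn n F} (c : F), hf x u = 0 → ac (EE u x c) u = u := fun c h =>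
    H78.S2.ac_EE_u h c
  have cE : ∀ {x : Vn n F} (c : F), hf x u = 0 → e (EE u x c) ∈ H64.SG.Cs N := fun c h => ce _ (fu c h)
  have cs : ∀ {x : Vn n F}, hf x u = 0 → sg e τ β u x ∈ H64.SG.Cs N := fun {x} h => by
    obtain ⟨W, i, h1, h2, -⟩ := exists_ti (p3 (hf_symm h))
    exact hC _ (z_tau h1 _ (sg_z r i h1 h2)) fun c => z_comm _ (sg_z r i h1 h2) _ (Tc_z r0 i h1 c)
  have ct : τ u ∈ H64.SG.Cs N := hC _ rfl fun c => (r0.fix (fu c (hf_zero_left u))).symm
  have oT : ∀ c, ψ (e (Tc c u)) = 1 := fun c =>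
    (o _ (cE c (hf_zero_left u))).2 (subset_closure (Or.inr ⟨c, rfl⟩))
  have oE : ∀ {x : Vn n F} (c : F), hf x u = 0 → ψ (e (EE u x c)) = ψ (e (qq x u)) := fun {x} c h => by
    rw [← zero_add c, ← H78.S2.EE_mul_Tc h, map_mul, m _ (cE 0 h) _ (cE c (hf_zero_left u)), oT,
      mul_one]
  have ad : ∀ {x y : Vn n F}, hf x u = 0 → hf y u = 0 → hf (x + y) u = 0 := fun h h' => by
    rw [hf_add_left, h, h', add_zero]
  have sh : ∀ {x : Vn n F} (c : F), hf x u = 0 →
      sg e τ β u (x + c • u) = sg e τ β u x * e (Tc (β * c) u) := fun {x} c h => by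
    obtain ⟨W, i, h1, h2, -⟩ := exists_ti (p3 (hf_symm h))
    rcases two c with rfl | rfl
    · rw [zero_smul, add_zero, mul_zero, Tc, EE_zero, map_one, mul_one]
    · rw [one_smul, mul_one, sg_sh r i h1 h2]
  have eq : ∀ p x, ac p u = u → e p * sg e τ β u x = sg e τ β u (ac p x) * e p := fun p x hp => by
    rw [← mul_inv_eq_iff_eq_mul, r0.sg_eqv, hp]
  have h6 : ∀ p x, ac p u = u → hf x u = 0 →
      ψ (e p) * ψ (sg e τ β u x) = ψ (sg e τ β u (ac p x)) * ψ (e p) ∧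
      ψ (e p) * ψ (e (qq x u)) = ψ (e (qq (ac p x) u)) * ψ (e p) := fun p x hp hx => by
    have hx' : hf (ac p x) u = 0 := by rw [← hp, hf_ac, hx]
    refine ⟨by rw [← m _ (ce p hp) _ (cs hx), ← m _ (cs hx') _ (ce p hp), eq p x hp], ?_⟩
    rw [← m _ (ce p hp) _ (cE 0 hx), ← m _ (cE 0 hx') _ (ce p hp), ← map_mul, ← map_mul,
      mul_inv_eq_iff_eq_mul.1 (EE_conj' hx 0 p), hp]
  let Pr : G → Vn n F → Prop := fun g x => (∃ c, g * t = t * e (EE u x c) * g) ∧
    ∀ y d, hf y u = 0 → g * e (EE u y d) = e (EE u y (d + β * hf x y)) * g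
  have pm : ∀ {g g' x x'}, hf x u = 0 → hf x' u = 0 → Pr g x → Pr g' x' → Pr (g * g') (x + x') :=
    fun {g g' x x'} hx hx' ⟨⟨c, h1⟩, h2⟩ ⟨⟨c', h3⟩, h4⟩ =>
      ⟨⟨_, by rw [mul_assoc, h3, ← mul_assoc, ← mul_assoc, h1, mul_assoc _ g, h2 _ _ hx',
        ← mul_assoc, mul_assoc t, ← map_mul, H86.SPI.EE_mul' hx hx', mul_assoc _ g]⟩, fun y d hy => by
        rw [mul_assoc, h4 y d hy, ← mul_assoc, h2 y _ hy, hf_add_left, mul_add, add_comm (β * hf x y),
          ← add_assoc, mul_assoc]⟩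
  have ps : ∀ {x}, hf x u = 0 → Pr (sg e τ β u x) x := fun {x} hx =>
    ⟨⟨0, mul_inv_eq_iff_eq_mul.1 (r0.sv a.cen tt β u x (hf_symm hx))⟩, fun y d hy => by
      rw [eq _ x (fu _ hy), H78.S2.ac_EE' hy hx, sh _ hx, mul_assoc, ← map_mul, H78.S2.Tc_mul_EE hy,
        add_assoc, CharTwo.add_self_eq_zero, add_zero]⟩
  have fin : ∀ g ∈ H64.SG.Cs N, g * t = t * g →
      (∀ y d, hf y u = 0 → g * e (EE u y d) = e (EE u y d) * g) →
      ∃ x, hf x u = 0 ∧ ψ g = ψ (e (qq x u)) := fun g h1 h2 h3 => by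
    obtain ⟨x, c, hx, rfl | rfl⟩ := a.vQ g u hu h2 h3
    · exact ⟨x, hx, oE c hx⟩
    · have h5 := tt u
      rw [(mul_mem_cancel_right (cE c hx)).1 h1 _ (subset_closure (Or.inl rfl)), mul_inv_cancel_right,
        left_eq_mul, ← map_one e] at h5
      exact (one_ne_zero (Tc_eq_one hu (hf_self u) (star_one F) (a.inj h5))).elim
  refine abs two (ρ + β) (fun x => ψ (sg e τ β u x)) (fun x => ψ (e (qq x u))) (fun p => ψ (e p))
    (fun x y hx hy => ?_) (fun x y hx hy => ?_) (fun x hx => ?_) (fun x y h l => ?_)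
    (fun x y hx hy => ?_) h6 (fun x hx => ?_) hv hw hz l
  · rw [← m _ (cE 0 hx) _ (cE 0 hy), ← map_mul, H86.SPI.EE_mul' hx hy, oE _ (ad hx hy)]
  · rw [(h6 _ y (fu 0 hx) hy).1, H78.S2.ac_EE' hx hy, sh _ hy, m _ (cs hy) _ (cE _ (hf_zero_left u)),
      oT, mul_one]
  · obtain ⟨W, i, h1, h2, -⟩ := exists_ti (p3 (hf_symm hx))
    rw [← m _ (cs hx) _ (cs hx), sg_sq r q i h1 h2]
  · have hx := hf_symm h.uv
    have hy := hf_symm h.uw
    rw [← m _ (cs hx) _ (cs hy), ← m _ (mul_mem (cs hx) (cs hy)) _ (cs (ad hx hy)), ← E,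
      E_eq a r tt q h l, oT]
  · have k := mul_mem (mul_mem (cs hx) (cs hy)) (cs (ad hx hy))
    obtain ⟨⟨c, h1⟩, h2⟩ := pm (ad hx hy) (ad hx hy) (pm hx hy (ps hx) (ps hy)) (ps (ad hx hy))
    simp only [v_add_self, hf_zero_left, mul_zero, add_zero] at h1 h2
    rw [← m _ (cs hx) _ (cs hy), ← m _ (mul_mem (cs hx) (cs hy)) _ (cs (ad hx hy))]
    rcases two c with rfl | rfl
    · exact fin _ k (by rw [h1, EE_zero, map_one, mul_one]) h2
    · obtain ⟨x', h3, h4⟩ := fin _ (mul_mem (inv_mem ct) k) (by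
        rw [mul_assoc, h1, ← show _ = t * e (EE u 0 1) from tt u]; group) fun y d hy => by
          rw [mul_assoc, h2 y d hy, ← mul_assoc (τ u)⁻¹,
            ← (Commute.inv_right (r0.fix (fu d hy))).eq, mul_assoc]
      rw [m _ (inv_mem ct) _ k, (o _ (inv_mem ct)).2 (inv_mem (subset_closure (Or.inl rfl))),
        one_mul] at h4
      exact ⟨x', h3, h4⟩
  · rw [o _ (cE 0 hx)]
    refine ⟨fun k => ?_, ?_⟩
    · obtain ⟨c, h1 | h1⟩ := a.v1 _ u hu (a.cen _).symm fun p hp => ce p hp _ k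
      · obtain ⟨⟨b, h2⟩, -⟩ := H78.S2.EE_inj' hu (hf_zero_left u) hx (a.inj h1).symm
        exact ⟨b, by rw [h2, zero_add]⟩
      · exact (a.ne (EE u x 0 * (Tc c u)⁻¹)
          (by rw [map_mul, map_inv]; exact (mul_inv_eq_of_eq_mul h1).symm)).elim
    · rintro ⟨c, rfl⟩
      rw [show EE u (c • u) 0 = 1 from H86.SPI.qq_dep c u, map_one]
      exact one_mem _

theorem kappa0 [Base n F] (q2 : Nat.card F = 2) (a : AW e t) (r : R1 e τ β) (tt : Tt e τ t)
    (q : Sq e τ ρ) : ρ + β = 0 := by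
  have h5 := hp.six
  let i : Fin 4 → Fin (n + 1) := fun j => ⟨j, by omega⟩
  have pp : ∀ j k : Fin 4, j.val + k.val ≠ n → hf (ev (i j) : Vn n F) (ev (i k)) = 0 :=
    fun j k h => by rw [H54.SPF.hf_evv, if_neg h]
  refine kappa6 (fun c => ?_) a r tt q (pp 1 0 (by simp; omega)) (pp 2 0 (by simp; omega))
    (pp 3 0 (by simp; omega)) fun x y z s k => ?_
  · by_contra! k
    obtain ⟨y, -, hy⟩ := (Nat.card_eq_two_iff' (0 : F)).1 q2
    exact k.2 ((hy c k.1).trans (hy 1 one_ne_zero).symm)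
  · have a0 := congrFun k (i 0)
    have a1 := congrFun k (i 1)
    have a2 := congrFun k (i 2)
    have a3 := congrFun k (i 3)
    simp [ev_apply, i] at a0 a1 a2 a3
    exact ⟨a0, a1, a2, a3⟩

theorem jobT2 : JobT2.{u} := by
  intro n F _ _ _ _ _ _ G _ _ e t _ c a τ β ρ r tt q
  have k := kappa0 c.two a r tt q
  obtain rfl : ρ = β := by linear_combination k - β * two0 F
  refine ⟨r, q, fun u v w h l => ?_⟩
  obtain ⟨W, i, hu, hv, hw⟩ := exists_ti h
  have h1 := E_eq a r tt q h l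
  have h2 := sg_sq r q i hu (W.add_mem hv hw)
  rw [k, zero_smul, qq, EE_zero, map_one] at h2
  rw [k, Tc, EE_zero, map_one, E, ← h2] at h1
  exact (mul_right_cancel h1).symm

end H23.SP3T2
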