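import Cfsg.Agent.H67.P6.H67_SWDef
import Cfsg.Agent.H85.P6.H72_SPFR

namespace H26 end H26
open H26
namespace H85.P6 end H85.P6
open H85.P6
namespace H85.P6.H26 end H85.P6.H26
open H85.P6.H26
namespace H85.P6.H26.SWTP end H85.P6.H26.SWTP
open H85.P6.H26.SWTP
namespace H67.P6


/-! STD-SP wreath endgame (row S3129), slot `TP`: the conjugates of `U` under `N(M_k)` and
`N(Q_(k-1))` generate `X`. -/

set_option autoImplicit false
set_option linter.unusedSectionVars false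

namespace H26.SWTP

open H64.SG (Ns)
open Subgroup H67.UA H67.SP H67.SW H72.SPF

theorem ns_of_inv {G : Type*} [Group G] {A : Subgroup G} {p : G} (hp : p⁻¹ = p)
    (h : ∀ a ∈ A, p * a * p⁻¹ ∈ A) : p ∈ Ns A := mem_normalizer_iff.2 fun a => ⟨h a, fun k => by
  have h2 : p * p = 1 := by nth_rw 1 [← hp]; exact inv_mul_cancel p
  have := h _ k
  rwa [hp, ← mul_assoc, ← mul_assoc, h2, one_mul, mul_assoc, h2, mul_one] at this⟩

variable {n : ℕ} {F : Type} [Field F] [StarRing F] [TrivialStar F] [CharP F 2] [Finite F]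

theorem cj_add (p g : XU n F) (v : Vn n F) :
    ac (p * g * p⁻¹) v + v = ac p (ac g (ac p⁻¹ v) + ac p⁻¹ v) := by
  rw [ac_mul, ac_mul, ac_add, ac_ac_inv]

variable [Base n F] [hp : H67.SP.Par n F]

theorem nsM {j : ℕ} {p : XU n F} (h1 : p⁻¹ = p) (h : ∀ v, Wk j v → Wk j (ac p v)) :
    p ∈ Ns (Mk n F j) := ns_of_inv h1 fun a ha => (FV.mem_M j _).2 fun v => by
  rw [cj_add]; exact h _ ((FV.mem_M j a).1 ha _)

theorem nsQ {j : ℕ} (hj : 2 * j ≤ n + 1) {p : XU n F} (h1 : p⁻¹ = p)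
    (h : ∀ v, Wk j v → ac p v = v) : p ∈ Ns (Qk n F j) := ns_of_inv h1 fun a ha => by
  obtain ⟨a1, a2⟩ := (FV.mem_Qk j hj a).1 ha
  refine (FV.mem_Qk j hj _).2 ⟨fun v hv => ?_, fun v hv => ?_⟩
  · rw [ac_mul, ac_mul, h1, h v hv, a1 v hv, h v hv]
  · have k : Wk (n + 1 - j) (ac p⁻¹ v) := (FV.wk_perp j (by omega) _).2 fun w hw => by
      rw [hf_ac_left, inv_inv, h w hw]
      exact (FV.wk_perp j (by omega) v).1 hv w hw
    rw [cj_add, h _ (a2 _ k)]
    exact a2 _ k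

variable (n F) in
/-- the subgroup in `TOP` -/
abbrev KK : Subgroup (XU n F) := closure {g | ∃ u ∈ UU n F, ∃ p,
  (p ∈ Ns (DD n F) ∨ p ∈ Ns (AA n F)) ∧ g = p * u * p⁻¹}

include hp in
theorem kk2 : n + 1 = 2 * kk n ∧ 3 ≤ kk n := by
  obtain ⟨m, hm⟩ := hp.odd
  have := hp.five
  unfold kk; omega

include hp in
theorem q0U {x : Vn n F} (h : hf x (ev 0) = 0) (c : F) : EE (ev 0) x c ∈ UU n F := by
  have := kk2 (n := n) (F := F)
  refine memU (by simp; omega) (fun i hi => ?_) c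
  rw [hf_ev_right] at h
  rw [← h]; congr 1; ext; simp at hi ⊢; omega

include hp in
/-- `Q_u ≤ K` for `u ∈ W_k`. -/
theorem memK {u x : Vn n F} (hu : Wk (kk n) u) (h : hf x u = 0) (c : F) : EE u x c ∈ KK n F := by
  obtain ⟨k1, k2⟩ := kk2 (n := n) (F := F)
  have w0 : Wk (kk n) (ev 0 : Vn n F) := wev (by simp; omega)
  by_cases hi : ∃ i : Fin (n + 1), i ≠ 0 ∧ u i ≠ 0
  · obtain ⟨i, i0, hi⟩ := hi
    obtain ⟨y, y1, y2⟩ : ∃ y : Vn n F, hf y (ev 0) = 1 ∧ hf y u = 1 := by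
      refine ⟨ev (Fin.rev 0) + ((1 + u 0) / u i) • ev i.rev, ?_, ?_⟩
      · rw [hf_add_left, hf_smul_left, hf_ev_left, hf_ev_left, Fin.rev_rev, Fin.rev_rev, ev_apply,
          ev_apply, if_pos rfl, if_neg i0]
        simp
      · rw [hf_add_left, hf_smul_left, hf_ev_left, hf_ev_left, Fin.rev_rev, Fin.rev_rev,
          star_trivial, star_trivial, div_mul_cancel₀ _ hi, add_comm 1, ← add_assoc, cc, zero_add]
    have y3 : hf y (u + ev 0) = 0 := by rw [hf_add_right, y1, y2, cc]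
    have w1 := wadd hu w0
    have p1 : ∀ v, Wk (kk n) v → ac (EE (u + ev 0) y 0) v = v + hf v y • (u + ev 0) :=
      fun v hv => by rw [aE y3, wperp hv w1 (by omega)]; simp
    have p2 : ac (EE (u + ev 0) y 0) (ev 0) = u := by
      rw [p1 _ w0, hs, y1, one_smul, add_comm u, ← add_assoc, v_add_self, zero_add]
    refine subset_closure ⟨EE (ev 0) (ac (EE (u + ev 0) y 0)⁻¹ x) c, q0U ?_ c, EE (u + ev 0) y 0,
      Or.inl (nsM (inE y3 0) fun v hv => ?_), ?_⟩
    · rw [hf_ac_left, inv_inv, p2, h]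
    · rw [p1 v hv]; exact wadd hv (wsm w1 _)
    · rw [jE (by rw [hf_ac_left, inv_inv, p2, h]), p2, ac_ac_inv]
  · push Not at hi
    have e : u = u 0 • ev 0 := funext fun i => by
      by_cases i0 : i = 0
      · simp [i0, ev_apply]
      · simp [hi i i0, ev_apply, i0]
    refine subset_closure ⟨EE u x c, ?_, 1, Or.inl (one_mem _), by simp⟩
    rw [e] at h
    rw [e, EE_smul]
    exact q0U (by rw [hf_smul_left, star_trivial, ← hr, h]) _

include hp in
theorem top : TOP (UU n F) (DD n F) (AA n F) := by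
  obtain ⟨k1, k2⟩ := kk2 (n := n) (F := F)
  change KK n F = ⊤
  obtain ⟨a, ha⟩ : ∃ a : Fin (n + 1), a.val = kk n - 1 := ⟨⟨kk n - 1, by omega⟩, rfl⟩
  have hb : a.rev.val = kk n := by rw [Fin.val_rev]; omega
  have wa : Wk (kk n) (ev a : Vn n F) := wev (by omega)
  have t1 : ∀ c : F, Tc c (ev a.rev) ∈ KK n F := fun c => by
    have w : Wk (kk n + 1) (ev a + ev a.rev : Vn n F) := wadd (wev (by omega)) (wev (by omega))
    refine subset_closure ⟨Tc c (ev a), memU (by omega) (fun _ _ => rfl) c, TT (ev a + ev a.rev),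
      Or.inr (nsQ (by omega) (inE (by simp) 1) fun v hv => ?_), ?_⟩
    · rw [aT, wperp hv w (by omega)]; simp
    · rw [jT, aT, hf_add_right, hx, hf_ev_right, Fin.rev_rev, ev_apply, if_pos rfl, zero_add,
        one_mul, one_smul, ← add_assoc, v_add_self, zero_add]
  refine FW.genT _ fun v => ?_
  by_cases hv : Wk (kk n) v
  · exact memK hv (by simp) 1
  obtain ⟨u, u1, u2, u3⟩ : ∃ u : Vn n F, Wk (kk n) u ∧ hf v u = 1 ∧ u a ≠ 0 := by
    by_cases h0 : v a.rev = 0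
    · simp only [Wk, not_forall] at hv
      obtain ⟨i, hi, hv⟩ := hv
      have ia : a ≠ i.rev := by
        rintro rfl
        exact hv (by simpa using h0)
      refine ⟨ev a + (v i)⁻¹ • ev i.rev, wadd wa (wsm (wev (by rw [Fin.val_rev]; omega)) _), ?_, ?_⟩
      · rw [hf_add_right, hr, hf_ev_right, hf_ev_right, Fin.rev_rev, h0, inv_mul_cancel₀ hv, zero_add]
      · simp [ev_apply, ia]
    · exact ⟨(v a.rev)⁻¹ • ev a, wsm wa _, by rw [hr, hf_ev_right, inv_mul_cancel₀ h0],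
        by simpa [ev_apply] using h0⟩
  have y1 : hf ((u a)⁻¹ • ev a.rev : Vn n F) u = 1 := by
    rw [hf_smul_left, hf_ev_left, Fin.rev_rev, star_trivial, inv_mul_cancel₀ u3]
  have y2 : TT ((u a)⁻¹ • ev a.rev : Vn n F) ∈ KK n F := by rw [TT, Tc_smul]; exact t1 _
  generalize ((u a)⁻¹ • ev a.rev : Vn n F) = y at y1 y2
  have x1 : hf (y + v) u = 0 := by rw [hf_add_left, y1, u2, cc]
  have g1 := memK u1 x1 (hf y (y + v))
  have := mul_mem (mul_mem g1 y2) (inv_mem g1)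
  rwa [jT, aE x1, y1, mul_one, one_smul, add_right_comm, add_assoc y, v_add_self, add_zero,
    ← add_assoc, v_add_self, zero_add] at this

theorem jobTP : JobTP := fun _ _ _ _ _ _ _ _ _ _ _ => top

end H26.SWTP
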