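import Cfsg.Agent.H67.P6.H67_SPIII
import Cfsg.Agent.H78.P6.H35_S2QX

namespace H35 end H35
open H35
namespace H78.P6 end H78.P6
open H78.P6
namespace H78.P6.H35 end H78.P6.H35
open H78.P6.H35
namespace H78.P6.H35.S3GK end H78.P6.H35.S3GK
open H78.P6.H35.S3GK
namespace H85.P6 end H85.P6
open H85.P6
namespace H85.P6.H35 end H85.P6.H35
open H85.P6.H35
namespace H85.P6.H35.S3GK end H85.P6.H35.S3GK
open H85.P6.H35.S3GK
namespace H67.P6


/-! STD-SP chapter III, slots GR (the graph lemma) and K (the quadratic extension). -/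

set_option autoImplicit false

namespace H35.S3GK

open H67.UA hiding Par
open H67.SP
open scoped commutatorElement

universe u

theorem jobK : JobK := by
  intro F _ _ _ δ h
  obtain ⟨K, _, s, _, _, x, h1, η, h2, h3⟩ := H35.S2QX.jobQX F δ fun c k => h c (by
    linear_combination k - δ * two0 F)
  have h4 : x.σ η = η + 1 := by rw [← h1]; linear_combination h2 - η * two0 K
  refine ⟨K, _, ‹_›, ‹_›, x, η, ⟨?_, h4⟩, ⟨starRingOfComm, fun _ => rfl⟩, s, h1⟩
  rw [← h3, nm, h1, h4]
  ring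

theorem jobGR : JobGR.{u} := by
  intro Y _ G _ Γ q mu hP hs hk
  have := q.fin
  obtain ⟨j, hj⟩ := H21.exists_lift_of_perfect q.perf mu (MonoidHom.id Y) hs hk
  have h1 : Function.Surjective j := fun p => by
    have h2 : j.range ⊔ Subgroup.center Γ = ⊤ := eq_top_iff.2 fun p _ => by
      rw [show p = j p.1.1 * ((j p.1.1)⁻¹ * p) by group]
      refine Subgroup.mul_mem_sup ⟨_, rfl⟩ (hk ?_)
      rw [MonoidHom.mem_ker, map_mul, map_inv, hj]
      exact inv_mul_cancel _
    have h3 : commutator Γ ≤ j.range := by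
      rw [commutator, Subgroup.commutator_le]
      intro a _ b _
      obtain ⟨a, ha, c, hc, rfl⟩ := Subgroup.mem_sup_of_normal_right.1 (h2.ge (Subgroup.mem_top a))
      obtain ⟨b, hb, d, hd, rfl⟩ := Subgroup.mem_sup_of_normal_right.1 (h2.ge (Subgroup.mem_top b))
      have e1 := Subgroup.mem_center_iff.1 hc
      have e2 := Subgroup.mem_center_iff.1 hd
      have : ⁅a * c, b * d⁆ = ⁅a, b⁆ := by
        rw [commutatorElement_def, commutatorElement_def, mul_assoc a, ← e1, e2 b]
        calc a * (d * b * c) * (a * c)⁻¹ * (d * b)⁻¹ = a * d * b * a⁻¹ * b⁻¹ * d⁻¹ := by group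
          _ = d * (a * b * a⁻¹ * b⁻¹) * d⁻¹ := by rw [e2 a]; group
          _ = _ := by rw [← e2, mul_inv_cancel_right]
      rw [this]
      exact Subgroup.mul_mem _ (Subgroup.mul_mem _ (Subgroup.mul_mem _ ha hb) (inv_mem ha))
        (inv_mem hb)
    exact h3 (hP.ge (Subgroup.mem_top p))
  refine ⟨(MonoidHom.snd Y G).comp (Γ.subtype.comp j), fun p hp => ?_⟩
  obtain ⟨y, hy⟩ := h1 ⟨p, hp⟩
  have h4 := hj y
  rw [hy] at h4
  change p.1 = y at h4
  rw [h4]
  change (j y).1.2 = _
  rw [hy]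

end H35.S3GK
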