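import Cfsg.Agent.H67.P6.H67_SPIII
import Cfsg.Agent.H78.P6.H35_S2UM

namespace H35 end H35
open H35
namespace H78.P6 end H78.P6
open H78.P6
namespace H78.P6.H35 end H78.P6.H35
open H78.P6.H35
namespace H78.P6.H35.S3MS end H78.P6.H35.S3MS
open H78.P6.H35.S3MS
namespace H85.P6 end H85.P6
open H85.P6
namespace H85.P6.H35 end H85.P6.H35
open H85.P6.H35
namespace H85.P6.H35.S3MS end H85.P6.H35.S3MS
open H85.P6.H35.S3MS
namespace H67.P6


/-! STD-SP chapter III, slot MS: the model `Sp_(2k)(q²)`. -/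

set_option autoImplicit false
set_option linter.unusedSectionVars false

namespace H35.S3MS

open H67.UA hiding Par
open H67.SP H35.S2UM
open H67.SA (la cm)
open H86.SPI (ok pp hf_self hf_comm EE_mul' EE_comm EE_sq hf_smul_right' qq_dep)
open H78.S2 (ac_Tc' ac_Tc_fix ac_qq' ac_qq_fix qq_smul' EE_shift' Tc_mul Tc_sq Tc_smul' EE_mul_Tc
  EE_conj' EE_fix EE_inj' ac_EE_u)

section Eta

variable {F K : Type} [Field F] [Field K] [CharP K 2] {x : Qx F K} {δ : F} {η : K}

theorem sig_phi (x : Qx F K) (a : F) : x.σ (x.φ a) = x.φ a := (x.fix _).2 ⟨a, rfl⟩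

theorem dec (k : Eta x δ η) (c : K) : ∃ a b : F, c = x.φ a + η * x.φ b := by
  obtain ⟨b, hb⟩ := (x.fix (c + x.σ c)).1 (by rw [map_add, x.sq, add_comm])
  obtain ⟨a, ha⟩ := (x.fix (c + η * x.φ b)).1 (by
    rw [map_add, map_mul, k.sg, sig_phi, hb]
    linear_combination x.σ c * two0 K)
  exact ⟨a, b, by rw [ha]; linear_combination -(η * x.φ b) * two0 K⟩

theorem uq (k : Eta x δ η) {a b : F} (h : x.φ a + η * x.φ b = 0) : a = 0 ∧ b = 0 := by
  have h1 := congrArg x.σ h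
  rw [map_add, map_mul, k.sg, sig_phi, sig_phi, map_zero] at h1
  have h2 : x.φ b = 0 := by linear_combination h1 - h
  rw [h2, mul_zero, add_zero] at h
  exact ⟨(map_eq_zero _).1 h, (map_eq_zero _).1 h2⟩

end Eta

variable {n : ℕ} {F : Type} [Field F] [StarRing F] [TrivialStar F] [CharP F 2] [Finite F]
  [p : Par n F] {K : Type} [Field K] [StarRing K] [CharP K 2] [Finite K]

theorem vx_eq (φ : F →+* K) (v : Vn n F) : vx φ v = mv φ v := rfl

theorem mv_ne (φ : F →+* K) {u : Vn n F} (hu : u ≠ 0) : mv φ u ≠ 0 := fun q =>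
  hu (funext fun i => (map_eq_zero φ).1 (congrFun q i))

theorem mv_ev (φ : F →+* K) (i : Fin (n + 1)) : mv φ (ev i : Vn n F) = ev i := by
  ext j; simp [mv, ev_apply, apply_ite φ]

theorem par (x : Qx F K) : Par n K :=
  ⟨p.odd, p.five, p.six⟩

theorem bc_fix (x : Qx F K) (h1 : ∀ a, star (x.φ a) = x.φ (star a))
    (h2 : ∀ a, star (x.σ a) = x.σ (star a)) (g : XU n F) :
    fa x.σ h2 (bc x.φ h1 g) = bc x.φ h1 g :=
  X_ext (Matrix.ext fun _ _ => sig_phi x _)

theorem mv_sig (x : Qx F K) (w : Vn n F) : mv (x.σ : K →+* K) (mv x.φ w) = mv x.φ w :=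
  funext fun _ => sig_phi x _

section Sp

variable [TrivialStar K] [Par n K]

theorem Tc3 {u v : Vn n K} (h : hf u v = 0) (a : K) :
    Tc a (u + v) * Tc a u * Tc a v = qq (a • v) u := ac_ext fun y => by
  simp only [ac_mul, ac_Tc', ac_qq' (show hf (a • v) u = 0 by rw [hf_smul_left, hf_symm h, mul_zero]),
    hf_add_left, hf_add_right, hf_smul_left, hf_smul_right', hf_self, h, hf_symm h]
  ext i
  simp only [Pi.add_apply, Pi.smul_apply, smul_eq_mul]
  linear_combination (a * hf y u * u i + a * hf y v * v i) * two0 K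

/-- the radical of the stabiliser of `u` -/
def QS (u : Vn n K) : Subgroup (XU n K) where
  carrier := {g | ∃ y c, hf y u = 0 ∧ g = EE u y c}
  one_mem' := ⟨0, 0, hf_zero_left u, (EE_zero u).symm⟩
  mul_mem' := by
    rintro _ _ ⟨y, c, h, rfl⟩ ⟨y', c', h', rfl⟩
    exact ⟨_, _, by rw [hf_add_left, h, h', add_zero], EE_mul' h h' c c'⟩
  inv_mem' := by
    rintro _ ⟨y, c, h, rfl⟩
    exact ⟨y, c, h, inv_eq_of_mul_eq_one_right (EE_sq h c)⟩

theorem QS_fix {u u' : Vn n K} (h : hf u u' = 1) {a : XU n K} (ha : a ∈ QS u) (h' : ac a u' = u') :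
    a = 1 := by
  obtain ⟨y, c, hy, rfl⟩ := ha
  rw [ac_EE (ok hy c), hf_comm u' u, h, one_smul, mul_one] at h'
  have h1 : y = 0 + (hf u' y + c) • u := by
    ext i
    have := congrFun h' i
    simp only [Pi.add_apply, Pi.smul_apply, smul_eq_mul, Pi.zero_apply] at this ⊢
    linear_combination this - (hf u' y + c) * u i * two0 K
  have h2 := congrArg (hf u') h1
  rw [zero_add, hf_smul_right', hf_comm u' u, h] at h2
  rw [h1, EE_shift', show c = 0 by linear_combination -h2, EE_zero]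

variable {φ : F →+* K} (h : ∀ a, star (φ a) = φ (star a)) {η : K}

theorem TS_eq (φ : F →+* K) (η : K) (v : Vn n F) : TS φ η v = Tc η (mv φ v) := rfl

include h

theorem hz {u v : Vn n F} (k : hf u v = 0) : hf (mv φ u) (mv φ v) = 0 := by
  rw [hf_mv φ h, k, map_zero]

theorem hz' {u v : Vn n F} (k : hf u v = 0) (a : K) : hf (a • mv φ v) (mv φ u) = 0 := by
  rw [hf_smul_left, hz h (hf_symm k), mul_zero]

theorem sg_eq {u v : Vn n F} (k : hf u v = 0) :
    H67.SP.sg (bc φ h) (TS φ η) 0 u v = qq (η • mv φ v) (mv φ u) := by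
  rw [H67.SP.sg, TS_eq, TS_eq, TS_eq, mv_add, Tc3 (hz h k)]
  simp

theorem ra : RA (bc (m := n) φ h) (TS φ η) 0 where
  zero := by rw [TS_eq, mv_zero, Tc, EE_zero_left]
  eqv g v := by rw [TS_eq, TS_eq, Tc_conj (hf_self _) (star_trivial _), ac_mv]
  cmp u v k := by
    rw [cm, TS_eq, TS_eq, Tc_conj (hf_self _) (star_trivial _), ac_Tc_fix _ (hz h (hf_symm k))]
    simp
  sq v := by rw [TS_eq, Tc_sq]; simp
  ssq u v k := by rw [sg_eq h k, EE_sq (hz' h k η)]
  ssym u v k := by rw [sg_eq h k, sg_eq h (hf_symm k), qq_smul', qq_comm]; simp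
  stau u v w k := by
    rw [sg_eq h k.uv, TS_eq]
    exact EE_fix (hz' h k.uv η) 0 (ac_Tc_fix _ (hz h k.uw)) (ac_Tc_fix _ (hz' h (hf_symm k.vw) η))
  nadd a b u := by
    simp only [TS_eq, mv_smul, Tc_smul', Tc_mul, map_add, CharTwo.add_sq, add_mul]
    simp
  sadd u v w k := by
    rw [sg_eq h k.uv, sg_eq h k.uw, sg_eq h (by rw [hf_add_right, k.uv, k.uw, add_zero]),
      EE_mul' (hz' h k.uv η) (hz' h k.uw η), hf_z h, hf_symm k.vw, mv_add, smul_add]
    simp
  sscal a u v k := by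
    rw [sg_eq h (by rw [hf_smul_left, k, mul_zero]), sg_eq h (by rw [hf_smul_right', k, mul_zero]),
      mv_smul, mv_smul, ← qq_smul', smul_comm]
  shift a u := by
    rw [sg_eq h (by rw [hf_smul_right', hf_self, mul_zero]), mv_smul, smul_smul, qq_dep]
    simp

theorem rd {δ : F} (k : η ^ 2 + η = φ δ) : RD (bc (m := n) φ h) (TS φ η) δ where
  toRA := ra h
  mul u v w h1 h2 := by
    have h3 : hf u (v + w) = 0 := by rw [hf_add_right, h1, h2, add_zero]
    rw [sg_eq h h1, sg_eq h h2, sg_eq h h3, EE_mul' (hz' h h1 η) (hz' h h2 η), hf_z h, TS_eq,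
      mv_smul, Tc_smul', bc_Tc h, EE_mul_Tc (hz' h h3 η), EE_mul_Tc (hz' h h3 η), ← map_pow, rt_sq,
      mv_add, smul_add, star_trivial, hf_comm w, add_zero (1 : F), one_mul, map_mul, ← k]
    refine congrArg _ ?_
    linear_combination -(φ (hf v w) * η) * two0 K
  cS u v y h1 h2 := by
    have h3 : hf u (v + hf v y • y) = 0 := by rw [hf_add_right, hf_smul_right', h1, h2]; simp
    have h4 : hf ((δ * hf v y) • y) u = 0 := by rw [hf_smul_left, hf_symm h2, mul_zero]
    rw [sg_eq h h1, sg_eq h h3, TS_eq, TS_eq, EE_conj' (hz' h h1 η), ac_Tc_fix _ (hz h h2), ac_Tc',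
      qq, bc_EE φ h (ok h4 0), EE_mul' (hz h h4) (hz' h h3 η), mv_smul φ _ u, Tc_smul',
      EE_mul_Tc (by rw [hf_add_left, hz h h4, hz' h h3, add_zero]), hf_z1 h, hf_z1 h, ← map_pow,
      mul_pow, rt_sq, hf_smul_right', hf_add_left, hf_smul_left, hf_self, mv_add, mv_smul, mv_smul]
    simp only [map_mul, map_zero, map_pow, mul_zero, add_zero, ← k]
    congr 1
    · ext i
      simp only [Pi.add_apply, Pi.smul_apply, smul_eq_mul]
      linear_combination -(η * φ (hf v y) * φ (y i)) * two0 K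
    · linear_combination -((η ^ 2 + η) * η * φ (hf v y) ^ 2) * two0 K

theorem AD_le (u : Vn n F) : AD (bc φ h) (TS φ η) u ≤ QS (mv φ u) := by
  rw [AD, Subgroup.closure_le]
  rintro _ ⟨y, c, v, a, h1, h2, rfl⟩
  rw [bc_EE φ h (ok h1 c), sg_eq h h2, TS_eq, mv_smul, Tc_smul']
  exact mul_mem (mul_mem ⟨_, _, hz h h1, rfl⟩ ⟨_, _, hz' h h2 η, rfl⟩) ⟨_, _, hf_zero_left _, rfl⟩

theorem LD_le (u u' : Vn n F) : LD (bc φ h) (TS φ η) u u' ≤ Stab (mv φ u') := by
  rw [LD, Subgroup.closure_le]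
  rintro _ (⟨g, -, h2, rfl⟩ | ⟨y, -, h2, rfl⟩)
  · exact (ac_mv φ h g u').trans (congrArg _ h2)
  · exact ac_Tc_fix _ (hz h (hf_symm h2))

end Sp

omit p in
theorem jobMS : JobMS := by
  intro n F _ _ _ _ _ _ _ K _ _ _ _ x δ η k h
  have : TrivialStar K := ⟨h⟩
  have : Par n K := par x
  have h' := x.st (F := F) (Or.inl h)
  refine ⟨rd h' k.sq, bc_fix x _ _, fun v => ?_, fun u y c q => bc_EE _ _ (ok q c),
    fun u v q => sg_eq h' q, fun u y v c a hu h1 h2 q => ?_, fun u u' q a ha l hl e => ?_, dec k⟩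
  · refine (bc_EE (x.σ : K →+* K) (x.sf (Or.inl h)) (ok (hf_zero_left _) η)).trans ?_
    rw [vx_eq, mv_sig, mv_zero, bc_Tc, TS_eq, Tc_mul, map_one, add_comm 1 η, ← k.sg]
    rfl
  · have h3 : hf (mv x.φ y + η • mv x.φ v) (mv x.φ u) = 0 := by
      rw [hf_add_left, hz h' h1, hz' h' h2, add_zero]
    rw [vx_eq, vx_eq, vx_eq, EE_mul' (hz h' h1) (hz' h' h2 η), TS_eq, mv_smul, Tc_smul',
      EE_mul_Tc h3, hf_z1 h', ← EE_zero (mv x.φ u)] at q
    obtain ⟨⟨r, h4⟩, h5⟩ := EE_inj' (mv_ne _ hu) h3 (hf_zero_left _) q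
    obtain ⟨r1, r2, rfl⟩ := dec k r
    have h6 : ∀ i, y i + r1 * u i = 0 ∧ v i + r2 * u i = 0 := fun i => uq k (by
      have := congrFun h4 i
      simp only [Pi.add_apply, Pi.smul_apply, smul_eq_mul, Pi.zero_apply, map_add, map_mul] at this ⊢
      linear_combination -this)
    have h7 : y = 0 + r1 • u := funext fun i => by
      simp only [Pi.add_apply, Pi.smul_apply, smul_eq_mul, Pi.zero_apply]
      linear_combination (h6 i).1 - r1 * u i * two0 F
    have h8 : v = r2 • u := funext fun i => by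
      simp only [Pi.smul_apply, smul_eq_mul]
      linear_combination (h6 i).2 - r2 * u i * two0 F
    have h9 : hf v y = 0 := by rw [h8, hf_smul_left, hf_symm h1, mul_zero]
    obtain ⟨e1, e2⟩ := uq k (a := c) (b := a ^ 2) (by
      rw [h9, map_zero] at h5
      rw [map_pow]
      linear_combination h5)
    exact ⟨by rw [h7, EE_shift', e1, EE_zero], pow_eq_zero_iff two_ne_zero |>.1 e2, r2, h8⟩
  · refine QS_fix (u' := mv x.φ u') (by rw [hf_mv _ h', q, map_one]) (AD_le h' u ha) ?_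
    rw [eq_inv_of_mul_eq_one_left e]
    exact inv_mem (LD_le h' u u' hl)

end H35.S3MS
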