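/- STD-SP wreath endgame (row S3129): case I, `U* ≤ W` (job W1). -/
import Cfsg.Agent.H67.P6.H67_SWDef

namespace H45 end H45
open H45
namespace H98 end H98
open H98
namespace H85.P6 end H85.P6
open H85.P6
namespace H85.P6.H45 end H85.P6.H45
open H85.P6.H45
namespace H85.P6.H45.SW end H85.P6.H45.SW
open H85.P6.H45.SW
namespace H85.P6.H98 end H85.P6.H98
open H85.P6.H98
namespace H67.P6


set_option autoImplicit false
set_option linter.unusedSectionVars false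

namespace H45.SW
export H64.SG (cjs)
export H98 (conj_mem_of_mem_normalizer)

open H64.SG (Syl Cs Ns cjs Is2 Inv2 isPGroup_iff_is2)
open H67.SA (St cI cm)
open H59.SO Subgroup H98 H86.WR
open H67.SW (WG)

universe u

/-- class at most `2` -/
def C2 {G : Type*} [Group G] (K : Subgroup G) : Prop := ∀ a ∈ K, ∀ b ∈ K, ∀ c ∈ K, cm (cm a b) c = 1

theorem c2_iff {G : Type*} [Group G] {K : Subgroup G} : C2 K ↔ ⁅⁅K, K⁆, K⁆ = ⊥ :=
  ⟨fun h => commutator_eq_bot_iff_le_centralizer.2 (commutator_le.2 fun a ha b hb c hc =>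
    (H67.SA.cm_eq_one.1 (h a ha b hb c hc)).symm), fun h _ ha _ hb _ hc =>
    mem_bot.1 (h ▸ commutator_mem_commutator (commutator_mem_commutator ha hb) hc)⟩

variable {X : Type} [Group X] [Finite X] {G : Type u} [Group G] [Finite G] {e e₁ e₂ : X →* G}
  {g t : G} {U N : Subgroup X} {K : Subgroup G} {β : MulAut X} (c : CW e t e₁ e₂)
include c

theorem cm2 (a b a' b' : X) : cm (e₁ a * e₂ b) (e₁ a' * e₂ b') = e₁ (cm a a') * e₂ (cm b b') := by
  have k : ∀ a b, (e₁ a * e₂ b)⁻¹ = e₁ a⁻¹ * e₂ b⁻¹ := fun a b => by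
    rw [c.comm a⁻¹, mul_inv_rev, map_inv, map_inv]
  rw [cm, k, k, c.mul_mul, c.mul_mul, c.mul_mul]

theorem c2_two (h : C2 N) : C2 (two e₁ e₂ N) := fun x hx y hy z hz => by
  obtain ⟨a, ha, a', ha', rfl⟩ := c.mem_two.1 hx
  obtain ⟨b, hb, b', hb', rfl⟩ := c.mem_two.1 hy
  obtain ⟨d, hd, d', hd', rfl⟩ := c.mem_two.1 hz
  rw [cm2 c, cm2 c, h a ha b hb d hd, h a' ha' b' hb' d' hd', map_one, map_one, mul_one]

theorem c2_pr (hs : NS X) (h : C2 K) : ⁅⁅pr c K, pr c K⁆, pr c K⁆ = ⊥ :=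
  c2_iff.1 fun a ⟨_, ha⟩ b ⟨_, hb⟩ d ⟨_, hd⟩ => by
    have := h _ ha _ hb _ hd
    rw [cm2 c, cm2 c] at this
    exact (c.inj2 hs (c := 1) (d := 1) (this.trans (by simp))).1

theorem stU (hs : NS X) (hg : g ∈ Ns (two e₁ e₂ U)) (i : Ind e₁ g β) : β ∈ St U := by
  refine i.st c.inj ?_
  have : two e₁ e₂ U ⊓ e₁.range = U.map e₁ :=
    le_antisymm (fun w hw => inf_left hs c hw.1 hw.2) (le_inf le_sup_left (map_le_range _ _))
  rw [← this]
  exact le_normalizer_inf (zpowers_le.2 hg) (zpowers_le.2 i.mem_Ns) (mem_zpowers g)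

theorem norN (hs : NS X) (ht : t * t = 1) (hN : St U ≤ St N) (hg : g ∈ Ns (two e₁ e₂ U))
    (h1 : g ∈ Ns e₁.range) (h2 : g ∈ Ns e₂.range) : g ∈ Ns (two e₁ e₂ N) := by
  obtain ⟨β₁, i1⟩ := exists_ind c.inj h1
  obtain ⟨β₂, i2⟩ := exists_ind c.inj₂ h2
  exact normalizer_inf_normalizer_le_normalizer_sup _ _ ⟨(i1.st_iff c.inj).2 (hN (stU c hs hg i1)),
    (i2.st_iff c.inj₂).2 (hN (stU (c.symm ht) hs (by rwa [two_comm]) i2))⟩

theorem memcI {D A : Subgroup X} (w : WG U D A) (hK : C2 K) (h1 : U.map e₁ ≤ Ns K) (hg : g ∈ K)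
    (g2 : Is2 g) (h2 : g ∈ Ns (two e₁ e₂ U)) (i : Ind e₁ g β) : β ∈ cI U := by
  by_contra k
  refine w.ub.2 β (stU c w.ns h2 i) (i.is2 c.inj g2) k (pr c K) (fun u hu => ⟨1, ?_⟩)
    (c2_pr c w.ns hK)
  rw [map_one, mul_one, map_mul, ← i u, map_inv]
  simpa only [mul_assoc] using
    mul_mem hg (conj_mem_of_mem_normalizer (h1 ⟨u, hu, rfl⟩) (inv_mem hg))

omit c in
theorem jobW1 : H67.SW.JobW1.{u} := by
  intro X _ _ U D A w G _ _ e t h e₁ e₂ c gw W hW h1 h2 n hn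
  have ht := h.inv.1
  have nU : W ≤ Ns (two e₁ e₂ U) := by
    rw [← (H64.SG.syl_iff.1 (c.syl_two w.syl)).eq_of_le (hW.to_le inf_le_left)
      (le_inf h2 (two_le _)) inf_le_right]
    exact le_normalizer_inf le_normalizer h1
  have key : ∀ N ≤ U, St U ≤ St N → ⁅⁅N, N⁆, N⁆ = ⊥ → cj n (two e₁ e₂ N) ≤ two e₁ e₂ U := by
    intro N hN hS h3 g hg
    have nN : W ≤ Ns (two e₁ e₂ N) := fun m hm => by
      rcases gw.pm m (h1 hm) with k | k
      · exact norN c w.ns ht hS (nU hm) k.1 k.2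
      refine (mul_mem_cancel_left (c.t_mem_Ns ht N)).1 (norN c w.ns ht hS
        (mul_mem (c.t_mem_Ns ht U) (nU hm)) (cj_eq_self_iff.1 ?_) (cj_eq_self_iff.1 ?_))
      · rw [← cj_cj]
        exact (congrArg _ k.1).trans (c.symm ht).cjs_range
      · rw [← cj_cj]
        exact (congrArg _ k.2).trans c.cjs_range
    have kW : ∀ x ∈ W, n⁻¹ * x * n ∈ W := fun x hx => by
      simpa using conj_mem_of_mem_normalizer (inv_mem hn) hx
    have nK : W ≤ Ns (cj n (two e₁ e₂ N)) := fun m hm => mem_normalizer_fintype fun x hx =>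
      mem_cj.2 (by simpa [mul_assoc] using conj_mem_of_mem_normalizer (nN (kW m hm)) (mem_cj.1 hx))
    have hK : C2 (cj n (two e₁ e₂ N)) := fun a ha b hb d hd => by
      have := c2_two c (c2_iff.2 h3) _ (mem_cj.1 ha) _ (mem_cj.1 hb) _ (mem_cj.1 hd)
      calc _ = n * cm (cm (n⁻¹ * a * n) (n⁻¹ * b * n)) (n⁻¹ * d * n) * n⁻¹ := by
            simp only [cm]; group
        _ = 1 := by rw [this]; group
    have gW : g ∈ W := by
      simpa [mul_assoc] using conj_mem_of_mem_normalizer hn (h2 (two_mono hN (mem_cj.1 hg)))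
    have g2 := isPGroup_iff_is2.1 hW g gW
    have u1 : U.map e₁ ≤ Ns (cj n (two e₁ e₂ N)) := (le_sup_left.trans h2).trans nK
    rcases gw.pm g (h1 gW) with k | k
    · obtain ⟨β₁, i1⟩ := exists_ind c.inj k.1
      obtain ⟨β₂, i2⟩ := exists_ind c.inj₂ k.2
      obtain ⟨a, ha, rfl⟩ := H67.SA.mem_cI.1 (memcI c w hK u1 hg g2 (nU gW) i1)
      obtain ⟨b, hb, rfl⟩ := H67.SA.mem_cI.1 (memcI (c.symm ht) w hK
        ((le_sup_right.trans h2).trans nK) hg g2 (by rw [two_comm]; exact nU gW) i2)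
      exact c.mem_two.2 ⟨a, ha, b, hb, dec2 w.ns c gw.odd g2 i1 i2⟩
    · have k1 : U ≤ pr c (cj n (two e₁ e₂ N)) := fun u hu => by
        obtain ⟨b, hb⟩ := k.1.le (mem_map_of_mem _ (⟨u⁻¹, rfl⟩ : e₁ u⁻¹ ∈ e₁.range))
        refine ⟨b, ?_⟩
        rw [hb, map_inv]
        simpa [mul_assoc] using
          mul_mem (conj_mem_of_mem_normalizer (u1 ⟨u, hu, rfl⟩) hg) (inv_mem hg)
      exact absurd (eq_bot_iff.2 ((commutator_mono (commutator_mono k1 k1) k1).trans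
        (c2_pr c w.ns hK).le)) w.ub.1
  refine mem_normalizer_of_cj_le ?_
  rw [cj_sup]
  refine sup_le ?_ ?_ <;>
  refine map_le_iff_le_comap.2 (map_le_iff_le_comap.2 (w.cl.trans ((closure_le _).2
    fun x ⟨_, N, n1, n2, n3, n4⟩ => key N n1 n3 n4 (conj_mem_cj ?_))))
  exacts [mem_sup_left ⟨x, n2, rfl⟩, mem_sup_right ⟨x, n2, rfl⟩]

end H45.SW
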