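import Cfsg.Agent.H67.P6.H67_SWDef
import Cfsg.Agent.H85.P6.H67_UAK0
import Cfsg.Agent.H85.P6.H86_SPIKit

namespace H49 end H49
open H49
namespace H85.P6 end H85.P6
open H85.P6
namespace H85.P6.H49 end H85.P6.H49
open H85.P6.H49
namespace H85.P6.H49.SWCA end H85.P6.H49.SWCA
open H85.P6.H49.SWCA
namespace H67.P6


/-! STD-SP wreath endgame, slot CA: `Q_(k-1)` is characteristic in `U`. -/

set_option autoImplicit false
set_option linter.unusedSectionVars false

namespace H49.SWCA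

open H64.SG (mem_Cz)
open H59.SO (AutOn)
open Subgroup H67.SP H67.SW
open H67.UA hiding Par Base FV FW
open H67.SA (la)
open H86.SPI (hf_comm hf_self ok ac_TT)

variable {n : ℕ} {F : Type} [Field F] [StarRing F] [TrivialStar F] [CharP F 2] [Finite F] [p : Par n F]
  [Base n F] {j : ℕ} {g m : XU n F}

theorem fix_perp (hj : j ≤ n + 1) (h : ∀ v, Wk j v → ac g v = v) (v : Vn n F) :
    Wk (n + 1 - j) (ac g v + v) := (FV.wk_perp j hj _).2 fun w hw => by
  rw [hf_add_left, ← hf_ac g v w, h w hw]; exact CharTwo.add_self_eq_zero _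

theorem M_fix (hj : j ≤ n + 1) (hm : m ∈ Mk n F j) {x : Vn n F} (hx : Wk (n + 1 - j) x) :
    ac m x = x := eq_of_hf fun z => by
  have := hx.perp ((FV.mem_M j _).1 (inv_mem hm) z) (by omega)
  rw [hf_add_right] at this
  rw [hf_ac_left]; linear_combination this - hf x z * two0 F

theorem comm (hj : j ≤ n + 1) (h : ∀ v, Wk j v → ac g v = v) (hm : m ∈ Mk n F j) :
    m * g = g * m := ac_ext fun v => funext fun i => by
  have h1 := congrFun (h _ ((FV.mem_M j _).1 hm v)) i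
  have h2 := congrFun (M_fix hj hm (fix_perp hj h v)) i
  rw [ac_add, Pi.add_apply, Pi.add_apply] at h1 h2
  rw [ac_mul, ac_mul]
  linear_combination h2 - h1 + (ac g v i - ac m v i) * two0 F

theorem fix_of_comm (hj : 2 * j ≤ n + 1) (h : ∀ m ∈ Mk n F j, m * g = g * m) (v : Vn n F)
    (hv : Wk j v) : ac g v = v := by
  by_cases v0 : v = 0
  · rw [v0, ac_zero]
  have : g ∈ H64.SG.Cz (Tc 1 v) := mem_Cz.2 (h _ ((FV.mem_M j _).2 fun y => by
    rw [ac_TT, add_right_comm, v_add_self, zero_add]; exact hv.smul _))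
  rwa [FR.cz v 1 v0 one_ne_zero] at this

theorem wk_zero (i : ℕ) : Wk i (0 : Vn n F) := fun _ _ => rfl

theorem M_le (hj : 2 * j ≤ n + 1) : Mk n F j ≤ UU n F := fun g hg => (FV.mem_U g).2 fun i v hv => by
  by_cases h : j ≤ i
  · exact ((FV.mem_M j g).1 hg v).mono h
  · rw [M_fix (by omega) hg (hv.mono (by omega)), v_add_self]; exact wk_zero i

theorem Q_le (hj : 2 * j ≤ n + 1) : Qk n F j ≤ UU n F := fun g hg => (FV.mem_U g).2 fun i v hv => by
  obtain ⟨h1, h2⟩ := (FV.mem_Qk j hj g).1 hg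
  by_cases h : i + 1 ≤ j
  · rw [h1 v (hv.mono h), v_add_self]; exact wk_zero i
  by_cases h' : i + 1 ≤ n + 1 - j
  · exact (h2 v (hv.mono h')).mono (by omega)
  · exact (fix_perp (by omega) h1 v).mono (by omega)

theorem sq_add (g : XU n F) (v : Vn n F) :
    ac (g * g) v + v = ac g (ac g v + v) + (ac g v + v) := by
  rw [ac_mul, ac_add, add_assoc, ← add_assoc (ac g v), v_add_self, zero_add]

theorem Q_sq (hj : 2 * j ≤ n + 1) (hg : g ∈ Qk n F j) : g * g ∈ Mk n F j :=
  (FV.mem_M j _).2 fun v => by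
    obtain ⟨h1, h2⟩ := (FV.mem_Qk j hj g).1 hg
    rw [sq_add]; exact h2 _ (fix_perp (by omega) h1 v)

/-- splitting off the top coordinate -/
theorem top {i : Fin (n + 1)} {v : Vn n F} (hv : Wk (i.val + 1) v) : Wk i.val (v + v i • ev i) :=
  fun a ha => by
    rw [Pi.add_apply, Pi.smul_apply, ev_apply]
    split_ifs with e
    · rw [e, smul_eq_mul, mul_one]; exact CharTwo.add_self_eq_zero _
    · rw [hv a (by have := Fin.val_ne_of_ne e; omega)]; simp

theorem nadd (g : XU n F) (v w : Vn n F) (a : F) :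
    ac g v + v = (ac g (v + a • w) + (v + a • w)) + a • (ac g w + w) := funext fun i => by
  rw [ac_add, ac_smul]
  simp only [Pi.add_apply, Pi.smul_apply, smul_eq_mul]
  linear_combination -(a * ac g w i + a * w i) * two0 F

theorem key (hj : n + 1 = 2 * (j + 1)) (hU : g ∈ UU n F) (h : ∀ v, Wk j v → ac g v = v)
    (hs : g * g ∈ Mk n F j) : g ∈ Qk n F j ∨ g ∈ Mk n F (j + 1) := by
  let a : Fin (n + 1) := ⟨j, by omega⟩
  let b : Fin (n + 1) := ⟨j + 1, by omega⟩
  have U := (FV.mem_U g).1 hU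
  have hb : Wk (j + 1) (ac g (ev b) + ev b) := U _ _ (wk_ev (Nat.lt_succ_self _))
  have e2 : n + 1 - j = j + 1 + 1 := by omega
  by_cases hc : (ac g (ev b) + ev b : Vn n F) a = 0
  · refine Or.inl ((FV.mem_Qk j (by omega) g).2 ⟨h, fun v hv => ?_⟩)
    rw [e2] at hv
    rw [nadd g v (ev b) (v b)]
    refine (U j _ (top (i := b) hv)).add (Wk.smul ?_ _)
    have := top (i := a) hb
    rwa [hc, zero_smul, add_zero] at this
  · refine Or.inr ((FV.mem_M _ g).2 fun v => ?_)
    have h1 := fix_perp (by omega) h v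
    have h2 := (FV.mem_M j _).1 hs v
    rw [e2] at h1
    rw [sq_add] at h2
    generalize ac g v + v = w at h1 h2
    have h3 := congrFun (nadd g w (ev b) (w b)) a
    rw [h2 a le_rfl, Pi.add_apply, U j _ (top (i := b) h1) a le_rfl, zero_add, Pi.smul_apply,
      smul_eq_mul, eq_comm, mul_eq_zero] at h3
    have := top (i := b) h1
    rwa [h3.resolve_right hc, zero_smul, add_zero] at this

theorem onto {X : Type} [Group X] [Finite X] {U R : Subgroup X} (hR : R ≤ U) (c : Ch U R) {θ : X → X}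
    (h : AutOn U θ) {m : X} (hm : m ∈ R) : ∃ m' ∈ R, θ m' = m :=
  (((Set.toFinite (R : Set X)).injOn_iff_bijOn_of_mapsTo (c θ h)).1 (h.bij.injOn.mono hR)).surjOn hm

theorem jobCA : JobCA := by
  intro n F _ _ _ _ _ p _ _ _ cm θ hθ
  have k3 : 3 ≤ kk n := by have := p.five; unfold kk; omega
  have k2 : n + 1 = 2 * kk n := by obtain ⟨m, hm⟩ := p.odd; unfold kk; omega
  obtain ⟨j, hj⟩ : ∃ j, kk n = j + 1 := ⟨kk n - 1, by omega⟩
  have c0 := cm j (by omega) (by omega)
  have c1 := cm (j + 1) (by omega) (by omega)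
  have j2 : 2 * j ≤ n + 1 := by omega
  rw [AA, hj, Nat.add_sub_cancel]
  rw [hj] at k2 k3
  have main : ∀ q ∈ Qk n F j, q ∉ Mk n F (j + 1) → θ q ∈ Qk n F j := fun q hq hn => by
    have qU := Q_le j2 hq
    refine (key k2 (hθ.bij.mapsTo qU) (fix_of_comm j2 fun m hm => ?_) ?_).resolve_right fun k => ?_
    · obtain ⟨m', h1, rfl⟩ := onto (M_le j2) c0 hθ hm
      rw [← hθ.mul _ (M_le j2 h1) _ qU, ← hθ.mul _ qU _ (M_le j2 h1),
        comm (by omega) ((FV.mem_Qk j j2 q).1 hq).1 h1]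
    · rw [← hθ.mul _ qU _ qU]; exact c0 θ hθ _ (Q_sq j2 hq)
    · obtain ⟨m', h1, h2⟩ := onto (M_le k2.ge) c1 hθ k
      exact hn (hθ.bij.injOn (M_le k2.ge h1) qU h2 ▸ h1)
  let b : Fin (n + 1) := ⟨j + 1, by omega⟩
  have w0 : Wk j (ev 0 : Vn n F) := wk_ev (by simp; omega)
  have wb : Wk (n + 1 - j) (ev b : Vn n F) := wk_ev (by simp [b]; omega)
  have xQ := FV.EE_Q j j2 _ _ 0 w0 wb
  have xM : EE (ev 0) (ev b) 0 ∉ Mk n F (j + 1) := fun k => by
    have := (FV.mem_M _ _).1 k (ev (la n)) b le_rfl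
    have b0 : b ≠ 0 := fun e => by simpa [b] using congrArg Fin.val e
    rw [ac_EE (ok (wb.perp w0 (by omega)) 0), hf_ev (la n) 0, if_pos (by simp [la])] at this
    have bl : b ≠ la n := fun e => by have := congrArg Fin.val e; simp [b, la] at this; omega
    simp [ev_apply, b0, bl] at this
  intro u hu
  by_cases hm : u ∈ Mk n F (j + 1)
  swap
  · exact main u hu hm
  have h1 := mul_mem hu (inv_mem xQ)
  rw [← inv_mul_cancel_right u (EE (ev 0) (ev b) 0), hθ.mul _ (Q_le j2 h1) _ (Q_le j2 xQ)]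
  exact mul_mem (main _ h1 fun k => xM (by simpa using mul_mem (inv_mem k) hm)) (main _ xQ xM)

end H49.SWCA
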