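import Cfsg.Agent.H67.P6.H67_SPIII

namespace H59 end H59
open H59
namespace H67 end H67
open H67
namespace H85.P6 end H85.P6
open H85.P6
namespace H85.P6.H59 end H85.P6.H59
open H85.P6.H59
namespace H85.P6.H59.S3MU1 end H85.P6.H59.S3MU1
open H85.P6.H59.S3MU1
namespace H85.P6.H67 end H85.P6.H67
open H85.P6.H67
namespace H67.P6


/-! STD-SP chapter III (row S3129), slot `MU1`: the model `SU_(2k+1)(q)`. -/

set_option autoImplicit false
set_option linter.unusedSectionVars false

namespace H59.S3MU1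

open Matrix Subgroup H67 H67.SP
open H67.UA hiding Par sg
open H67.SA (la cm)

section Ins

variable {n : ℕ} {K : Type} [Field K] [StarRing K] [CharP K 2]

theorem rev_mid (hn : Odd n) : (mid n).rev = mid n := Fin.ext (by
  obtain ⟨m, hm⟩ := hn
  simp only [Fin.val_rev, mid]; omega)

theorem det_row {R : Type} [CommRing R] {m : ℕ} (p : Fin (m + 1))
    (M : Matrix (Fin (m + 1)) (Fin (m + 1)) R) (h : ∀ j, M p j = if j = p then 1 else 0) :
    M.det = (M.submatrix p.succAbove p.succAbove).det := by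
  rw [det_succ_row M p, Finset.sum_eq_single p (fun j _ hj => by simp [h, hj]) (by simp), h, if_pos rfl,
    ← two_mul, pow_mul]
  simp

@[simp] theorem iv_mid (v : Vn n K) : iv v (mid n) = 0 := by simp [iv]
@[simp] theorem iv_sa (v : Vn n K) (i : Fin (n + 1)) : iv v ((mid n).succAbove i) = v i := by simp [iv]
@[simp] theorem rm_iv (v : Vn n K) : (mid n).removeNth (iv v) = v := by simp [iv]
theorem rm_mid : (mid n).removeNth (ev (mid n) : Vn (n + 1) K) = 0 := funext fun i => by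
  simp [Fin.removeNth, ev_apply]

theorem vext {a b : Vn (n + 1) K} (h1 : a (mid n) = b (mid n))
    (h2 : ∀ i, a ((mid n).succAbove i) = b ((mid n).succAbove i)) : a = b := funext fun j => by
  rcases Fin.eq_self_or_eq_succAbove (mid n) j with rfl | ⟨i, rfl⟩
  exacts [h1, h2 i]

theorem iv_add (v w : Vn n K) : iv (v + w) = iv v + iv w := vext (by simp) (by simp)
theorem iv_smul (a : K) (v : Vn n K) : iv (a • v) = a • iv v := vext (by simp) (by simp)
@[simp] theorem iv_zero : iv (0 : Vn n K) = 0 := vext (by simp) (by simp)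
theorem iv_ev (i : Fin (n + 1)) : iv (ev i : Vn n K) = ev ((mid n).succAbove i) :=
  vext (by simp [ev_apply]) (by simp [ev_apply])
theorem iv_inj {v w : Vn n K} (h : iv v = iv w) : v = w := by rw [← rm_iv v, h, rm_iv]

theorem dec (z : Vn (n + 1) K) : z = z (mid n) • ev (mid n) + iv ((mid n).removeNth z) :=
  vext (by simp [ev_apply]) (by simp [ev_apply, Fin.removeNth])

theorem ext_mi {g h : XU (n + 1) K} (h1 : ac g (ev (mid n)) = ac h (ev (mid n)))
    (h2 : ∀ i, ac g (iv (ev i)) = ac h (iv (ev i))) : g = h :=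
  X_ext (Matrix.ext fun i j => by
    rw [← ac_ev, ← ac_ev]
    rcases Fin.eq_self_or_eq_succAbove (mid n) j with rfl | ⟨k, rfl⟩
    · rw [h1]
    · rw [← iv_ev, h2])

variable (hn : Odd n)
include hn

theorem hf_mid (w w' : Vn (n + 1) K) : hf w w' = w (mid n) * star (w' (mid n)) +
    hf (n := n) ((mid n).removeNth w) ((mid n).removeNth w') := by
  rw [hf, Fin.sum_univ_succAbove _ (mid n), rev_mid hn]
  simp only [hf, Fin.removeNth, Fin.rev_succAbove, rev_mid hn]

theorem hf_iv (v w : Vn n K) : hf (iv v) (iv w) = hf v w := by simp [hf_mid hn]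
theorem hf_m (z : Vn (n + 1) K) : hf z (ev (mid n)) = z (mid n) := by rw [hf_ev_right, rev_mid hn]
theorem hf_im (v : Vn n K) : hf (iv v) (ev (mid n)) = 0 := by simp [hf_m hn]
theorem hf_mi (v : Vn n K) : hf (ev (mid n)) (iv v) = 0 := hf_symm (hf_im hn v)
theorem hf_mm : hf (ev (mid n) : Vn (n + 1) K) (ev (mid n)) = 1 := by simp [hf_m hn, ev_apply]

theorem ins_ex : ∃ j, IsIns n K j := by
  let L : XU n K → Vn (n + 1) K →ₗ[K] Vn (n + 1) K := fun g =>
    { toFun := fun w => (mid n).insertNth (w (mid n)) (ac g ((mid n).removeNth w))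
      map_add' := fun a b => by rw [← Fin.insertNth_add, ← ac_add]; rfl
      map_smul' := fun c a => (Fin.insertNth_eq_iff.2 ⟨by simp, funext fun i => by
        rw [show (mid n).removeNth (c • a) = c • (mid n).removeNth a from rfl, ac_smul]
        simp [Fin.removeNth]⟩) }
  have hL : ∀ g w, L g w = (mid n).insertNth (w (mid n)) (ac g ((mid n).removeNth w)) :=
    fun _ _ => rfl
  have hd : ∀ g, (LinearMap.toMatrix' (L g)).det = 1 := fun g => by
    rw [det_row (mid n) _ fun j => by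
      rw [LinearMap.toMatrix'_apply, hL, Fin.insertNth_apply_same, Pi.single_apply]; simp [eq_comm],
      ← mt_det g]
    congr 1
    ext i j
    rw [submatrix_apply, LinearMap.toMatrix'_apply, hL, Fin.insertNth_apply_succAbove, ← ac_ev]
    congr 2
    exact iv_inj (vext (by simp) fun k => by simp [Fin.removeNth, ev_apply, Pi.single_apply])
  choose j hj using fun g => exists_X (LinearMap.toMatrix' (L g)) (hd g) fun x y => by
    simp only [LinearMap.toMatrix'_mulVec, hf_mid hn, hL, Fin.insertNth_apply_same,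
      Fin.removeNth_insertNth, hf_ac]
  have k : ∀ g w, ac (j g) w = L g w := fun g w => by rw [ac, hj, LinearMap.toMatrix'_mulVec]
  refine ⟨MonoidHom.mk' j fun a b => ac_ext fun w => by
    simp only [ac_mul, k, hL, Fin.insertNth_apply_same, Fin.removeNth_insertNth], fun g => ⟨?_, fun v => ?_⟩⟩
  · refine (k g _).trans ((hL _ _).trans (Fin.insertNth_eq_iff.2 ⟨rfl, ?_⟩))
    rw [rm_mid, ac_zero]
  · refine (k g _).trans ?_
    simp only [hL, iv, Fin.insertNth_apply_same, Fin.removeNth_insertNth]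

theorem isIns : IsIns n K (ins n K) := by
  rw [ins, dif_pos (ins_ex hn)]; exact (ins_ex hn).choose_spec

theorem ac_m (g : XU n K) : ac (ins n K g) (ev (mid n)) = ev (mid n) := (isIns hn g).1
theorem ac_i (g : XU n K) (v : Vn n K) : ac (ins n K g) (iv v) = iv (ac g v) := (isIns hn g).2 v

theorem ins_inj : Function.Injective (ins n K) := fun g h e =>
  ac_ext fun v => iv_inj (by rw [← ac_i hn, ← ac_i hn, e])

theorem ins_rng (g : XU (n + 1) K) (h : ac g (ev (mid n)) = ev (mid n)) : ∃ y, ins n K y = g := by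
  have k : ∀ z, ac g z (mid n) = z (mid n) := fun z => by
    rw [← hf_m hn (ac g z), ← hf_m hn z]
    conv_lhs => rw [← h]
    rw [hf_ac]
  have a : ∀ v, ac g (iv v) = iv ((mt g).submatrix (mid n).succAbove (mid n).succAbove *ᵥ v) := fun v =>
    vext (by rw [k]; simp) fun i => by
      rw [iv_sa, ac, mulVec, dotProduct, Fin.sum_univ_succAbove _ (mid n)]
      simp [mulVec, dotProduct]
  obtain ⟨y, hy⟩ := exists_X ((mt g).submatrix (mid n).succAbove (mid n).succAbove)
    (by rw [← det_row (mid n) _ fun j => by rw [← ac_ev, k, ev_apply]; simp [eq_comm], mt_det])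
    fun x y => by rw [← hf_iv hn, ← a, ← a, hf_ac, hf_iv hn]
  exact ⟨y, ext_mi (by rw [ac_m hn, h]) fun i => by rw [ac_i hn, a, ac, hy]⟩

theorem ok_iv {u x : Vn n K} {c : K} (h : Ok u x c) : Ok (iv u) (iv x) c :=
  ⟨by rw [Iso, hf_iv hn, h.iso], by rw [hf_iv hn, h.perp], by rw [hf_iv hn, h.tr]⟩

theorem ins_EE {u x : Vn n K} {c : K} (h : Ok u x c) : ins n K (EE u x c) = EE (iv u) (iv x) c :=
  ext_mi (by rw [ac_m hn, ac_EE_fix (ok_iv hn h) (hf_mi hn _) (hf_mi hn _)]) fun i => by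
    rw [ac_i hn, ac_EE h, ac_EE (ok_iv hn h)]
    simp only [iv_add, iv_smul, hf_iv hn]

end Ins

section Bc

variable {m : ℕ} {K K' : Type} [Field K] [StarRing K] [CharP K 2] [Field K'] [StarRing K'] [CharP K' 2]
  (φ : K →+* K') (h : ∀ a, star (φ a) = φ (star a))

theorem vx_add (v w : Vn m K) : vx φ (v + w) = vx φ v + vx φ w := funext fun _ => map_add φ _ _
theorem vx_smul (a : K) (v : Vn m K) : vx φ (a • v) = φ a • vx φ v := funext fun _ => map_mul φ _ _
@[simp] theorem vx_zero : vx φ (0 : Vn m K) = 0 := funext fun _ => map_zero φ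
theorem vx_ev (i : Fin (m + 1)) : vx φ (ev i : Vn m K) = ev i := funext fun j => by
  simp only [vx, ev_apply]; split_ifs <;> simp
theorem vx_iv (v : Vn m K) : vx φ (iv v) = iv (vx φ v) := vext (by simp [vx]) (by simp [vx])

theorem ac_bc (g : XU m K) (v : Vn m K) : ac (bc φ h g) (vx φ v) = vx φ (ac g v) := funext fun i => by
  simp [ac, mt_bc, vx, mulVec, dotProduct]

include h in
theorem hf_vx (v w : Vn m K) : hf (vx φ v) (vx φ w) = φ (hf v w) := by
  simp [hf, vx, h]

include h in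
theorem ok_vx {u x : Vn m K} {c : K} (o : Ok u x c) : Ok (vx φ u) (vx φ x) (φ c) :=
  ⟨by rw [Iso, hf_vx φ h, o.iso, map_zero], by rw [hf_vx φ h, o.perp, map_zero],
    by rw [hf_vx φ h, ← o.tr, tr, tr, h, map_add]⟩

theorem bc_EE {u x : Vn m K} {c : K} (o : Ok u x c) :
    bc φ h (EE u x c) = EE (vx φ u) (vx φ x) (φ c) :=
  X_ext (Matrix.ext fun i j => by
    rw [← ac_ev, ← ac_ev, ← vx_ev φ j, ac_bc, ac_EE o, ac_EE (ok_vx φ h o)]
    simp only [vx_add, vx_smul, hf_vx φ h, map_mul])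

theorem bc_ins (hn : Odd m) (g : XU m K) : bc φ h (ins m K g) = ins m K' (bc φ h g) :=
  ext_mi (by rw [ac_m hn, ← vx_ev φ, ac_bc, ac_m hn]) fun i => by
    rw [ac_i hn, ← vx_ev φ, ← vx_iv, ac_bc, ac_bc, ac_i hn, vx_iv]

end Bc

theorem key {m : ℕ} {K : Type} [Field K] [StarRing K] [CharP K 2] {U V M : Vn m K} {η : K}
    (se : star η = η + 1) (p : Pp U V) (mU : hf M U = 0) (mV : hf M V = 0) (mm : hf M M = 1) :
    EE (U + V) M η * EE U M η * EE V M η * (Tc 1 U * Tc 1 V) = EE U ((η + 1) • V) 0 := by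
  have o : ∀ W : Vn m K, Iso W → hf M W = 0 → Ok W M η := fun W h1 h2 =>
    ⟨h1, h2, by rw [mm, tr, se, ← add_assoc, CharTwo.add_self_eq_zero, zero_add]⟩
  have o2 : Ok U ((η + 1) • V) 0 := by simpa using (p.smul 1 (η + 1)).ok
  refine ac_ext fun y => ?_
  simp only [ac_mul, ac_EE (o _ p.l mU), ac_EE (o _ p.r mV),
    ac_EE (o _ p.iso_add (by rw [hf_add_right, mU, mV, add_zero])), ac_Tc p.l (star_one K),
    ac_Tc p.r (star_one K), ac_EE o2, hf_add_left, hf_add_right, hf_smul_left, hf_smul_right, p.p,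
    p.symm.p, show hf U U = 0 from p.l, show hf V V = 0 from p.r, mU, mV, mm, hf_symm mU, hf_symm mV,
    star_add, se, star_one, mul_zero, add_zero, mul_one, one_mul, zero_add, zero_mul, zero_smul]
  ext i
  simp only [Pi.add_apply, Pi.smul_apply, smul_eq_mul]
  generalize hf y U = a
  generalize hf y V = b
  generalize hf y M = c
  linear_combination ((a + b) * M i + (a + c + η * a) * U i + (b + c + η * b) * V i) * two0 K

theorem jobMU1 : JobMU1 := by
  intro pn n F _ _ _ _ _ p b K _ _ _ _ x δ η et h mu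
  have hn := p.odd
  have hs := x.st (Or.inr h)
  have se : star η = η + 1 := by rw [h, et.sg]
  have o : ∀ v : Vn n K, Iso v → Ok (iv v) (ev (mid n)) η := fun v hv =>
    ⟨by rw [Iso, hf_iv hn, hv], hf_mi hn v, by
      rw [hf_mm hn, tr, se, ← add_assoc, CharTwo.add_self_eq_zero, zero_add]⟩
  have iso : ∀ v : Vn n F, Iso (vx x.φ v) := fun v => by rw [Iso, hf_vx _ hs, FV.iso v, map_zero]
  have cj : ∀ (y : XU n K) (v : Vn n K), Iso v →
      ins n K y * EE (iv v) (ev (mid n)) η * (ins n K y)⁻¹ = EE (iv (ac y v)) (ev (mid n)) η :=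
    fun y v hv => by rw [EE_conj (o v hv), ac_i hn, ac_m hn]
  have mv : ∀ v : Vn n K, Iso v → ac (EE (iv v) (ev (mid n)) η) (ev (mid n)) = ev (mid n) + iv v :=
    fun v hv => by rw [ac_EE_perp (o v hv) (hf_mi hn v), hf_mm hn, one_smul]
  have hi : ∀ v w : Vn n K, hf (ev (mid n) + iv v) (ev (mid n) + iv w) = 1 + hf v w := fun v w => by
    rw [hf_add_left, hf_add_right, hf_add_right, hf_mm hn, hf_mi hn, hf_im hn, hf_iv hn]; simp
  have ee : ∀ (u y : Vn n F) (c : F), hf y u = 0 → ((bc x.φ hs).comp (ins n F)) (EE u y c) =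
      EE (iv (vx x.φ u)) (iv (vx x.φ y)) (x.φ c) := fun u y c hy => by
    rw [MonoidHom.comp_apply, bc_ins _ _ hn, bc_EE _ _ (FV.ok u y c hy), ins_EE hn (ok_vx _ hs (FV.ok u y c hy))]
  have et1 : ∀ v : Vn n F, ((bc x.φ hs).comp (ins n F)) (Tc 1 v) = Tc 1 (iv (vx x.φ v)) := fun v => by
    rw [ee _ _ _ (hf_zero_left _)]; simp
  have isoi : ∀ v : Vn n F, Iso (iv (vx x.φ v)) := fun v => (o _ (iso v)).iso
  have pi : ∀ u v : Vn n F, hf u v = 0 → hf (iv (vx x.φ u)) (iv (vx x.φ v)) = 0 := fun u v huv => by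
    rw [hf_iv hn, hf_vx _ hs, huv, map_zero]
  refine
    { isIns := isIns hn
      inj := ins_inj hn
      rng := ins_rng hn
      sq := bc_ins _ _ hn
      r1 := ⟨⟨by simp [TU], fun g v => ?_⟩, fun u v huv => ?_⟩
      tsq := fun v => ?_
      sg := fun u v huv => ?_
      cj := cj
      mv := mv
      nb := fun z => ⟨fun ⟨h1, _, h3⟩ => ?_, ?_⟩
      hi := hi
      trans := fun z hz => ?_
      fi := fun y => bc_ins (x.σ : K →+* K) (x.sf (Or.inr h)) hn y
      ft := fun v => ?_ }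
  · rw [MonoidHom.comp_apply, bc_ins _ _ hn, TU, cj _ _ (iso v), ac_bc]; rfl
  · have pp : Pp (iv (vx x.φ v)) (iv (vx x.φ u)) := ⟨isoi v, isoi u, pi v u (hf_symm huv)⟩
    rw [one_smul, qq, ee _ _ _ (hf_symm huv), cm, TU, TU, EE_conj (o _ (iso v)), mv _ (iso u),
      ac_EE_fix (o _ (iso u)) pp.p (hf_im hn _), mul_inv_eq_iff_eq_mul, map_zero, ← qq, qq_comm, qq,
      EE_mul pp.ok (o _ (iso v)), hf_mi hn, add_comm (iv _)]
    simp
  · rw [TU, EE_mul (o _ (iso v)) (o _ (iso v)), et1, hf_mm hn, v_add_self, CharTwo.add_self_eq_zero,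
      zero_add]
  · have pp : Pp (vx x.φ u) (vx x.φ v) := ⟨iso u, iso v, by rw [hf_vx _ hs, huv, map_zero]⟩
    have o2 : Ok (vx x.φ u) ((η + 1) • vx x.φ v) 0 := by simpa using (pp.smul 1 (η + 1)).ok
    rw [SP.sg, map_mul, et1, et1, SU0, ins_EE hn o2, TU, TU, TU, vx_add, iv_add, iv_smul]
    exact key se ⟨isoi u, isoi v, pi u v huv⟩ (hf_mi hn _) (hf_mi hn _) (hf_mm hn)
  · rw [hf_m hn] at h3
    have e := dec z
    rw [h3, one_smul] at e
    refine ⟨_, ?_, e⟩
    rw [e, hi] at h1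
    exact left_eq_add.1 h1.symm
  · rintro ⟨v, hv, rfl⟩
    refine ⟨by rw [hi, hv, add_zero], hf_mm hn, ?_⟩
    rw [hf_add_left, hf_mm hn, hf_im hn, add_zero]
  · have := mu.par'
    have := p.five
    exact (pn (n + 1) K (by omega)).2 _ _ (hf_mm hn) hz
  · show bc (x.σ : K →+* K) (x.sf (Or.inr h)) _ = ((bc x.φ hs).comp (ins n F)) (Tc 1 v) * _
    have e : vx (x.σ : K →+* K) (vx x.φ v) = vx x.φ v := funext fun i => (x.fix _).2 ⟨_, rfl⟩
    rw [et1, TU, bc_EE (x.σ : K →+* K) (x.sf (Or.inr h)) (o _ (iso v)), vx_iv, vx_ev, e,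
      EE_mul (ok_zero (isoi v) (star_one K)) (o _ (iso v)), zero_add, hf_zero_right, add_zero,
      RingHom.coe_coe, et.sg, add_comm η]

end H59.S3MU1
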