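import Cfsg.Agent.H67.P6.H59_S3MU1
import Cfsg.Agent.H67.SAOut

namespace H59 end H59
open H59
namespace H67 end H67
open H67
namespace H85.P6 end H85.P6
open H85.P6
namespace H85.P6.H59 end H85.P6.H59
open H85.P6.H59
namespace H85.P6.H59.S3ML1 end H85.P6.H59.S3ML1
open H85.P6.H59.S3ML1
namespace H85.P6.H67 end H85.P6.H67
open H85.P6.H67
namespace H67.P6


/-! STD-SP chapter III (row S3129), slot `ML1`: the model `SL_(2k+1)(q)`. -/

set_option autoImplicit false
set_option linter.unusedSectionVars false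

namespace H59.S3ML1

open Matrix Subgroup H67 H67.SP H59.S3MU1
open H67.UA hiding Par sg
open H67.SA (la cm SLn val_mul val_one val_mul_inv val_inv_mul)

section Gen

variable {m : ℕ} {F : Type} [Field F] [StarRing F] [TrivialStar F] [CharP F 2]

theorem hf_comm (x y : Vn m F) : hf x y = hf y x := by rw [← star_hf, star_trivial]

theorem sl_ext {g h : SLn m F} (e : ∀ v, g.1 *ᵥ v = h.1 *ᵥ v) : g = h :=
  Subtype.ext (Matrix.ext fun i j => by simpa using congrFun (e (Pi.single j 1)) i)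

theorem mul_mv (g h : SLn m F) (v : Vn m F) : (g * h).1 *ᵥ v = g.1 *ᵥ (h.1 *ᵥ v) :=
  (mulVec_mulVec _ _ _).symm

theorem hf_adj (g : SLn m F) (a b : Vn m F) : hf (g.1 *ᵥ a) b = hf a ((tau m F g⁻¹).1 *ᵥ b) := by
  simp only [hf, mulVec, dotProduct, tau_inv_apply, star_trivial, Fin.rev_rev, Finset.sum_mul,
    Finset.mul_sum]
  rw [Finset.sum_comm]
  refine Finset.sum_congr rfl fun j _ => ?_
  rw [← Equiv.sum_comp Fin.revPerm]
  simp [mul_comm, mul_left_comm]

theorem hft (g : SLn m F) (a b : Vn m F) : hf (g.1 *ᵥ a) ((tau m F g).1 *ᵥ b) = hf a b := by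
  rw [hf_adj, ← mul_mv, ← map_mul, inv_mul_cancel, map_one, val_one, one_mulVec]

theorem tau_eq {g g' : SLn m F} (h : ∀ a b, hf (g.1 *ᵥ a) (g'.1 *ᵥ b) = hf a b) : tau m F g = g' :=
  sl_ext fun b => eq_of_hf fun z => by
    have e : z = g.1 *ᵥ ((g⁻¹).1 *ᵥ z) := by rw [← mul_mv, mul_inv_cancel, val_one, one_mulVec]
    rw [hf_comm _ z, hf_comm _ z, e, hft, h]

theorem det_four {M : Matrix (Fin (m + 1)) (Fin (m + 1)) F} (h : M * M * (M * M) = 1) : M.det = 1 := by
  have h2 := congrArg det h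
  simp only [det_mul, det_one] at h2
  have h3 : (det M + 1) ^ 4 = 0 := by
    linear_combination h2 + (2 * det M ^ 3 + 3 * det M ^ 2 + 2 * det M + 1) * two0 F
  linear_combination (pow_eq_zero_iff (by decide)).1 h3 - two0 F

theorem sl_val {M : Matrix (Fin (m + 1)) (Fin (m + 1)) F} (h : M.det = 1) : (sl M).1 = M :=
  congrArg (fun g : SLn m F => g.1) (dif_pos h)

theorem val_mE {u x : Vn m F} (hu : Iso u) (hx : hf x u = 0) (c : F) : (sl (mE u x c)).1 = mE u x c :=
  sl_val (det_four (by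
    rw [mE_mul hu hx hx, v_add_self, mE_mul hu (by simp) (by simp)]
    simp [mE, CharTwo.add_self_eq_zero]))

theorem mv_mE {u x : Vn m F} (hu : Iso u) (hx : hf x u = 0) (c : F) (y : Vn m F) :
    (sl (mE u x c)).1 *ᵥ y = y + hf y x • u + hf y u • x + (c * hf y u) • u := by
  rw [val_mE hu hx, mE_mulVec]

theorem sl_mul {u x y : Vn m F} (hu : Iso u) (hx : hf x u = 0) (hy : hf y u = 0) (c d : F) :
    sl (mE u x c) * sl (mE u y d) = sl (mE u (x + y) (c + d + hf y x)) := Subtype.ext (by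
  rw [val_mul, val_mE hu hx, val_mE hu hy, val_mE hu (by rw [hf_add_left, hx, hy, add_zero]),
    mE_mul hu hx hy])

theorem io_EE {u x : Vn m F} {c : F} (h : Ok u x c) : io m F (EE u x c) = sl (mE u x c) :=
  Subtype.ext ((mt_EE h).trans (val_mE h.iso h.perp c).symm)

theorem tau_mE {u x : Vn m F} (hu : Iso u) (hx : hf x u = 0) (c : F) :
    tau m F (sl (mE u x c)) = sl (mE u x (c + hf x x)) := tau_eq fun a b => by
  simp only [mv_mE hu hx, hf_add_left, hf_add_right, hf_smul_left, hf_smul_right, star_trivial,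
    show hf u u = 0 from hu, hx, hf_symm hx, hf_comm u b, hf_comm x b]
  linear_combination (hf a u * hf b x + hf a x * hf b u + (c + hf x x) * hf a u * hf b u) * two0 F

theorem cj_mE (g : SLn m F) {u x u' x' : Vn m F} (hu : Iso u) (hx : hf x u = 0) (c : F)
    (h1 : g.1 *ᵥ u = u') (h2 : (tau m F g).1 *ᵥ u = u') (h3 : g.1 *ᵥ x = x')
    (h4 : (tau m F g).1 *ᵥ x = x') : g * sl (mE u x c) * g⁻¹ = sl (mE u' x' c) := by
  have hu' : Iso u' := by have := hft g u u; rwa [h1, h2, hu] at this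
  have hx' : hf x' u' = 0 := by have := hft g x u; rwa [h3, h2, hx] at this
  rw [mul_inv_eq_iff_eq_mul]
  refine sl_ext fun y => ?_
  have a1 := hft g y u
  have a2 := hft g y x
  rw [h2] at a1
  rw [h4] at a2
  rw [mul_mv, mul_mv, mv_mE hu hx, mv_mE hu' hx', a1, a2]
  simp only [mulVec_add, mulVec_smul, h1, h3]

theorem val_two {u v : Vn m F} (p : Pp u v) (a b : F) :
    (sl (1 + a • op u v + b • op v u)).1 = 1 + a • op u v + b • op v u :=
  sl_val (det_four (by
    have : (1 + a • op u v + b • op v u) * (1 + a • op u v + b • op v u) = 1 := by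
      simp only [add_mul, mul_add, one_mul, mul_one, smul_mul_assoc, mul_smul_comm, op_mul,
        show hf u u = 0 from p.l, show hf v v = 0 from p.r, p.p, p.symm.p, zero_smul, smul_zero,
        add_zero]
      ext i j
      simp only [Matrix.add_apply, Matrix.smul_apply, smul_eq_mul]
      linear_combination (a * op u v i j + b * op v u i j) * two0 F
    rw [this, one_mul]))

theorem mv_two {u v : Vn m F} (p : Pp u v) (a b : F) (y : Vn m F) :
    (sl (1 + a • op u v + b • op v u)).1 *ᵥ y = y + (a * hf y v) • u + (b * hf y u) • v := by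
  rw [val_two p, add_mulVec, add_mulVec, one_mulVec, smul_mulVec, smul_mulVec, op_mulVec, op_mulVec,
    smul_smul, smul_smul]

theorem key {U V M : Vn m F} (ε : F) (p : Pp U V) (mU : hf M U = 0) (mV : hf M V = 0)
    (mm : hf M M = 1) : sl (mE (U + V) M ε) * sl (mE U M ε) * sl (mE V M ε) *
      (sl (mE U 0 1) * sl (mE V 0 1)) = sl (1 + ε • op U V + (ε + 1) • op V U) := by
  refine sl_ext fun y => ?_
  simp only [mul_mv, mv_mE p.l mU, mv_mE p.r mV,
    mv_mE p.iso_add (show hf M (U + V) = 0 by rw [hf_add_right, mU, mV, add_zero]),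
    mv_mE p.l (hf_zero_left _), mv_mE p.r (hf_zero_left _), mv_two p, hf_add_left, hf_add_right,
    hf_smul_left, p.p, p.symm.p, show hf U U = 0 from p.l, show hf V V = 0 from p.r, mU, mV, mm,
    hf_symm mU, hf_symm mV, mul_zero, add_zero, mul_one, one_mul, zero_smul, hf_zero_right, smul_zero]
  ext i
  simp only [Pi.add_apply, Pi.smul_apply, smul_eq_mul]
  generalize hf y U = a
  generalize hf y V = b
  generalize hf y M = c
  linear_combination ((a + b) * M i + (a + b + c + ε * a) * U i + (b + c + ε * b) * V i) * two0 F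

/-- the natural embedding on vectors -/
def Lm (g : Matrix (Fin (m + 1)) (Fin (m + 1)) F) : Vn (m + 1) F →ₗ[F] Vn (m + 1) F where
  toFun := fun w => (mid m).insertNth (w (mid m)) (g *ᵥ ((mid m).removeNth w))
  map_add' := fun a b => by rw [← Fin.insertNth_add, ← mulVec_add]; rfl
  map_smul' := fun c a => (Fin.insertNth_eq_iff.2 ⟨by simp, funext fun i => by
    rw [show (mid m).removeNth (c • a) = c • (mid m).removeNth a from rfl, mulVec_smul]
    simp [Fin.removeNth]⟩)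

theorem Lm_apply (g : Matrix (Fin (m + 1)) (Fin (m + 1)) F) (w : Vn (m + 1) F) :
    Lm g w = (mid m).insertNth (w (mid m)) (g *ᵥ ((mid m).removeNth w)) := rfl

theorem det_Lm (g : Matrix (Fin (m + 1)) (Fin (m + 1)) F) : (LinearMap.toMatrix' (Lm g)).det = g.det := by
  rw [det_row (mid m) _ fun j => by
    rw [LinearMap.toMatrix'_apply, Lm_apply, Fin.insertNth_apply_same, Pi.single_apply]; simp [eq_comm]]
  congr 1
  ext i j
  rw [submatrix_apply, LinearMap.toMatrix'_apply, Lm_apply, Fin.insertNth_apply_succAbove,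
    show (mid m).removeNth (Pi.single ((mid m).succAbove j) 1 : Vn (m + 1) F) = Pi.single j 1 from
      funext fun k => by simp [Fin.removeNth, Pi.single_apply]]
  simp

/-- the natural embedding -/
def jj : SLn m F →* SLn (m + 1) F := MonoidHom.mk'
  (fun g => ⟨LinearMap.toMatrix' (Lm g.1), by rw [det_Lm, g.2]⟩) fun a b => sl_ext fun w => by
    refine Eq.trans ?_ (mul_mv _ _ _).symm
    show LinearMap.toMatrix' (Lm (a.1 * b.1)) *ᵥ w =
      LinearMap.toMatrix' (Lm a.1) *ᵥ (LinearMap.toMatrix' (Lm b.1) *ᵥ w)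
    simp only [LinearMap.toMatrix'_mulVec, Lm_apply, Fin.insertNth_apply_same, Fin.removeNth_insertNth,
      mulVec_mulVec]

theorem jj_mv (g : SLn m F) (w : Vn (m + 1) F) :
    (jj g).1 *ᵥ w = (mid m).insertNth (w (mid m)) (g.1 *ᵥ ((mid m).removeNth w)) :=
  LinearMap.toMatrix'_mulVec _ _

theorem jj_m (g : SLn m F) : (jj g).1 *ᵥ ev (mid m) = ev (mid m) :=
  (jj_mv g _).trans (Fin.insertNth_eq_iff.2 ⟨rfl, by rw [rm_mid, mulVec_zero]⟩)

theorem jj_i (g : SLn m F) (v : Vn m F) : (jj g).1 *ᵥ iv v = iv (g.1 *ᵥ v) := by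
  rw [jj_mv, iv_mid, rm_iv]; rfl

theorem sl_ext_mi {g h : SLn (m + 1) F} (h1 : g.1 *ᵥ ev (mid m) = h.1 *ᵥ ev (mid m))
    (h2 : ∀ v, g.1 *ᵥ iv v = h.1 *ᵥ iv v) : g = h := sl_ext fun z => by
  rw [dec z, mulVec_add, mulVec_add, mulVec_smul, mulVec_smul, h1, h2]

theorem jj_tau (hn : Odd m) (y : SLn m F) : tau (m + 1) F (jj y) = jj (tau m F y) := tau_eq fun a b => by
  simp only [jj_mv, hf_mid hn, Fin.insertNth_apply_same, Fin.removeNth_insertNth, hft]

theorem jj_rng (hn : Odd m) (g : SLn (m + 1) F) (h : g.1 *ᵥ ev (mid m) = ev (mid m))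
    (h' : (tau (m + 1) F g).1 *ᵥ ev (mid m) = ev (mid m)) : ∃ y, jj y = g := by
  have k : ∀ z, (g.1 *ᵥ z) (mid m) = z (mid m) := fun z => by
    rw [← hf_m hn (g.1 *ᵥ z), ← hf_m hn z]
    conv_lhs => rw [← h']
    rw [hft]
  have a : ∀ v, g.1 *ᵥ iv v = iv (g.1.submatrix (mid m).succAbove (mid m).succAbove *ᵥ v) := fun v =>
    vext (by rw [k]; simp) fun i => by
      rw [iv_sa, mulVec, dotProduct, Fin.sum_univ_succAbove _ (mid m)]
      simp [mulVec, dotProduct]
  refine ⟨⟨g.1.submatrix (mid m).succAbove (mid m).succAbove, ?_⟩,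
    sl_ext_mi ((jj_m _).trans h.symm) fun v => (jj_i _ v).trans (a v).symm⟩
  rw [← det_row (mid m) _ fun j => by
    have := k (ev j)
    rw [ev_apply] at this
    simpa [ev, eq_comm] using this, g.2]

theorem io_ins (hn : Odd m) (g : XU m F) : io (m + 1) F (ins m F g) = jj (io m F g) :=
  sl_ext_mi ((ac_m hn g).trans (jj_m _).symm) fun v => (ac_i hn g v).trans (jj_i (io m F g) v).symm

end Gen

variable {n : ℕ} {F : Type} [Field F] [StarRing F] [TrivialStar F] [CharP F 2] [Finite F]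

theorem genP [p : Par n F] [FV n F] (ε : F) (g : SLn n F) (h : g.1 *ᵥ ev 0 = ev 0)
    (h' : (tau n F g).1 *ᵥ ev 0 = ev 0) : g ∈ PE (io n F) (SL0 ε) (ev 0) := by
  have := p.five
  have n0 : (0 : Fin (n + 1)) ≠ la n := by rw [Ne, Fin.ext_iff]; simp; omega
  have hg : g ∈ SA.P0 n F 0 (la n) := (SA.mem_P0 n0).2 ⟨fun a => by
    simpa [ev, Pi.single_apply] using congrFun h a, fun b => by
      have := hft g (ev b) (ev 0)
      rw [h', hf_ev_right, hf_ev_right, ev_apply, Fin.rev_zero] at this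
      simpa [ev] using this⟩
  refine SA.Pat_le.2 (fun a b hab hs c => ?_) hg
  have e1 : hf (c • ev a : Vn n F) (ev 0) = 0 := by
    rw [hf_smul_left, hf_ev_right, ev_apply, Fin.rev_zero, if_neg hs.2.symm, mul_zero]
  have e2 : hf (ev b.rev : Vn n F) (ev 0) = 0 := by
    rw [hf_ev_right, ev_apply, if_neg fun e => hs.1 (Fin.rev_inj.1 e).symm]
  have e3 : hf (c • ev a : Vn n F) (ev b.rev) = 0 := by
    rw [hf_smul_left, hf_ev_right, ev_apply, Fin.rev_rev, if_neg hab.symm, mul_zero]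
  have pp := FV.pp _ _ e3
  have p2 : Pp (c • ev a : Vn n F) ((ε + 1) • ev b.rev) := by simpa using pp.smul 1 (ε + 1)
  have e : SA.x a b c = io n F (qq ((ε + 1) • ev b.rev) (c • ev a)) * SL0 ε (c • ev a) (ev b.rev) := by
    have : (SA.x a b c).1 = 1 + op (c • ev a) (ev b.rev) := by
      rw [SA.x_coe hab, op_smul_left, op_ev]; simp
    refine sl_ext fun y => ?_
    rw [this, mul_mv, SL0, mv_two pp, add_mulVec, one_mulVec, op_mulVec]
    refine Eq.trans ?_ (ac_qq p2 _).symm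
    generalize c • (ev a : Vn n F) = v at *
    generalize (ev b.rev : Vn n F) = u at *
    simp only [hf_add_left, hf_smul_left, hf_smul_right, star_trivial, show hf v v = 0 from pp.l,
      show hf u u = 0 from pp.r, pp.p, pp.symm.p, mul_zero, add_zero]
    ext i
    simp only [Pi.add_apply, Pi.smul_apply, smul_eq_mul]
    linear_combination -(ε * hf y u * v i + (ε + 1) * hf y v * u i) * two0 F
  rw [e]
  exact mul_mem (subset_closure (Or.inl ⟨_, ac_EE_fix p2.ok (hf_symm e1) (by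
      rw [hf_smul_right, hf_symm e2, mul_zero]), rfl⟩))
    (subset_closure (Or.inr ⟨_, _, ⟨hf_symm e1, hf_symm e2, e3⟩, rfl⟩))

theorem ml1_of [p : Par n F] [FV n F] (ε : F)
    (w1 : ∀ a f : Vn n F, a ≠ 0 → f ≠ 0 → hf a f = 0 →
      ∃ g : SLn n F, g.1 *ᵥ ev 0 = a ∧ (tau n F g).1 *ᵥ ev 0 = f)
    (w2 : ∀ a f a' f' : Vn n F, Li a a' → Li f f' → hf a f = 0 → hf a f' = 0 → hf a' f = 0 →
      hf a' f' = 0 → ∃ g : SLn n F, g.1 *ᵥ ev 0 = a ∧ (tau n F g).1 *ᵥ ev 0 = f ∧
        g.1 *ᵥ ev 1 = a' ∧ (tau n F g).1 *ᵥ ev 1 = f') : ML1 n ε jj := by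
  have hn := p.odd
  have iso : ∀ v : Vn n F, Iso (iv v) := fun v => by rw [Iso, hf_iv hn, FV.iso v]
  have pi : ∀ u v : Vn n F, hf u v = 0 → hf (iv u) (iv v) = 0 := fun u v h => by rw [hf_iv hn, h]
  have ee : ∀ (u y : Vn n F) (c : F), hf y u = 0 → ((io (n + 1) F).comp (ins n F)) (EE u y c) =
      sl (mE (iv u) (iv y) c) := fun u y c hy => by
    rw [MonoidHom.comp_apply, ins_EE hn (FV.ok u y c hy), io_EE (ok_iv hn (FV.ok u y c hy))]
  have et1 : ∀ v : Vn n F, ((io (n + 1) F).comp (ins n F)) (Tc 1 v) = sl (mE (iv v) 0 1) := fun v => by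
    rw [ee _ _ _ (hf_zero_left _), iv_zero]
  have tt : ∀ v : Vn n F, tau (n + 1) F (TL ε v) = sl (mE (iv v) (ev (mid n)) (ε + 1)) := fun v => by
    rw [TL, tau_mE (iso v) (hf_mi hn v), hf_mm hn]
  have m1 : ∀ (v : Vn n F) c, (sl (mE (iv v) (ev (mid n)) c)).1 *ᵥ ev (mid n) = ev (mid n) + iv v :=
    fun v c => by rw [mv_mE (iso v) (hf_mi hn v), hf_mm hn, hf_mi hn]; simp
  have m2 : ∀ (v z : Vn n F) c, hf z v = 0 → (sl (mE (iv v) (ev (mid n)) c)).1 *ᵥ iv z = iv z :=
    fun v z c h => by rw [mv_mE (iso v) (hf_mi hn v), hf_im hn, pi _ _ h]; simp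
  have cj : ∀ (y : SLn n F) (v v' : Vn n F), y.1 *ᵥ v = v' → (tau n F y).1 *ᵥ v = v' →
      jj y * TL ε v * (jj y)⁻¹ = TL ε v' := fun y v v' h1 h2 =>
    cj_mE _ (iso v) (hf_mi hn v) ε (by rw [jj_i, h1]) (by rw [jj_tau hn, jj_i, h2]) (jj_m _)
      (by rw [jj_tau hn, jj_m])
  refine
    { isIn := fun g => ⟨jj_m g, jj_i g⟩
      inj := fun g h e => sl_ext fun v => iv_inj (by rw [← jj_i, ← jj_i, e])
      rng := jj_rng hn
      sq := io_ins hn
      r1 := ⟨⟨?_, fun g v => ?_⟩, fun u v huv => ?_⟩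
      tsq := fun v => ?_
      sg := fun u v huv => ?_
      hft := fun _ => hft
      mv := fun v => ⟨m1 v ε, by rw [tt, m1]⟩
      fx := fun v z h => ⟨m2 v z ε h, by rw [tt, m2 _ _ _ h]⟩
      cj := fun y h1 h2 => mul_inv_eq_iff_eq_mul.1 (cj y _ _ h1 h2)
      dec := fun z => ⟨fun h => ?_, ?_⟩
      hi := fun v w => by
        rw [hf_add_left, hf_add_right, hf_add_right, hf_mm hn, hf_mi hn, hf_im hn, hf_iv hn]; simp
      fi := jj_tau hn
      ft := fun v => ?_
      genP := genP ε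
      w1 := w1
      w2 := w2 }
  · refine sl_ext fun y => ?_
    rw [TL, mv_mE (iso 0) (hf_mi hn 0)]; simp
  · rw [MonoidHom.comp_apply, io_ins hn]
    exact cj _ _ _ rfl (by rw [show tau n F (io n F g) = io n F g from H64.SG.mem_fx.1 g.2]; rfl)
  · have e := pi v u (hf_symm huv)
    rw [one_smul, qq_comm, qq, ee _ _ _ huv, cm, TL, TL,
      cj_mE _ (iso v) (hf_mi hn v) ε (m2 u v ε (hf_symm huv)) (by
        rw [← TL, tt, m2 _ _ _ (hf_symm huv)]) (m1 u ε) (by rw [← TL, tt, m1]),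
      mul_inv_eq_iff_eq_mul, sl_mul (iso v) (pi _ _ huv) (hf_mi hn v), hf_mi hn, add_comm (iv u)]
    simp
  · rw [TL, sl_mul (iso v) (hf_mi hn v) (hf_mi hn v), et1, hf_mm hn, v_add_self,
      CharTwo.add_self_eq_zero, zero_add]
  · have pp := FV.pp u v huv
    have p2 : Pp (iv u) (iv v) := ⟨iso u, iso v, pi u v huv⟩
    rw [SP.sg, map_mul, et1, et1, TL, TL, TL, iv_add, key ε p2 (hf_mi hn _) (hf_mi hn _) (hf_mm hn)]
    refine sl_ext_mi ?_ fun z => ?_
    · rw [mv_two p2, jj_m, hf_mi hn, hf_mi hn]; simp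
    · rw [mv_two p2, jj_i, SL0, mv_two pp, hf_iv hn, hf_iv hn, iv_add, iv_add, iv_smul, iv_smul]
  · rw [hf_m hn] at h
    have e := dec z
    rw [h, one_smul] at e
    exact ⟨_, e⟩
  · rintro ⟨v, rfl⟩
    rw [hf_add_left, hf_mm hn, hf_im hn, add_zero]
  · show _ = ((io (n + 1) F).comp (ins n F)) (Tc 1 v) * _
    rw [tt, et1, TL, sl_mul (iso v) (hf_zero_left _) (hf_mi hn v), zero_add, hf_zero_right, add_zero,
      add_comm ε]

end H59.S3ML1
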