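import Cfsg.Agent.H67.P6.H67_SPIII
import Cfsg.Agent.H85.P6.H59_UMFW

namespace H59 end H59
open H59
namespace H62 end H62
open H62
namespace H67 end H67
open H67
namespace H85.P6 end H85.P6
open H85.P6
namespace H85.P6.H59 end H85.P6.H59
open H85.P6.H59
namespace H85.P6.H62 end H85.P6.H62
open H85.P6.H62
namespace H85.P6.H62.SP3PN end H85.P6.H62.SP3PN
open H85.P6.H62.SP3PN
namespace H85.P6.H67 end H85.P6.H67
open H85.P6.H67
namespace H67.P6


/-! STD-SP chapter III, slot PN: the graph on the vectors of norm one. -/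

set_option autoImplicit false
set_option linter.unusedSectionVars false

namespace H62.SP3PN

open H67 H67.UA H67.SP Module H59 H59.UM

variable {n : ℕ} {K : Type} [Field K] [StarRing K] [CharP K 2] [Finite K] [hp : UA.Par n K]

/-- a hyperbolic pair perpendicular to three given vectors -/
theorem hypPair (h6 : 6 ≤ n) (a b c : Vn n K) (ha : hf a a = 1) :
    ∃ p q : Vn n K, hf p p = 0 ∧ hf q q = 0 ∧ hf p q = 1 ∧ hf p a = 0 ∧ hf p b = 0 ∧ hf p c = 0 ∧
      hf q a = 0 ∧ hf q b = 0 ∧ hf q c = 0 := by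
  set W := Submodule.span K (Set.range ![a, b, c]) with hW
  have h1 : finrank K W ≤ 3 := by
    have h2 := finrank_range_le_card (R := K) ![a, b, c]
    rwa [Set.finrank, Fintype.card_fin, ← hW] at h2
  have hm : ∀ i, ![a, b, c] i ∈ W := fun i => Submodule.subset_span ⟨i, rfl⟩
  have h0 : perp (BB n K) W ⊓ W < W := lt_of_le_of_ne inf_le_right fun e => by
    have h : a ∈ perp (BB n K) W ⊓ W := by rw [e]; exact hm 0
    exact one_ne_zero (ha.symm.trans (h.1 _ (hm 0)))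
  have h7 := Submodule.finrank_lt_finrank_of_lt h0
  obtain ⟨C, hC⟩ := (perp (BB n K) W ⊓ W).exists_isCompl
  have h2 := Submodule.finrank_add_eq_of_isCompl hC
  have h3 := (herm n K).finrank_add_finrank_perp W
  have h4 := Submodule.finrank_sup_add_finrank_inf_eq (perp (BB n K) W) C
  have h5 := Submodule.finrank_le (perp (BB n K) W ⊔ C)
  rw [finrank_Vn] at h2 h3 h5
  obtain ⟨p, hp1, p0, pi⟩ := (herm n K).exists_isotropic_mem (W := perp (BB n K) W ⊓ C) (by omega)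
  have hpW : p ∉ W := fun h => p0 (Submodule.disjoint_def.1 hC.disjoint _ ⟨hp1.1, h⟩ hp1.2)
  obtain ⟨d, hd, hd0⟩ := (herm n K).exists_perp_ne_zero hpW
  obtain ⟨q, q1, q2, s, t, rfl⟩ := (herm n K).exists_isotropic_partner pi hd0
  have hq : s • p + t • d ∈ perp (BB n K) W :=
    add_mem (Submodule.smul_mem _ _ hp1.1) (Submodule.smul_mem _ _ hd)
  refine ⟨p, _, pi, q2, ?_, hp1.1 _ (hm 0), hp1.1 _ (hm 1), hp1.1 _ (hm 2), hq _ (hm 0),
    hq _ (hm 1), hq _ (hm 2)⟩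
  rw [← star_hf, show hf (s • p + t • d) p = 1 from q1, star_one]

omit [Finite K] hp in
theorem avoid [Hf K] (a b c : K) : ∃ s : K, s ≠ a ∧ s ≠ b ∧ s ≠ c := by
  obtain ⟨w, hw⟩ := (inferInstance : Hf K).ne
  by_contra! h
  have k : ∀ s : K, s = a ∨ s = b ∨ s = c := fun s => by
    by_contra! h'
    exact h'.2.2 (h s h'.1 h'.2.1)
  have h0 : w ≠ 0 := fun e => hw (by rw [e, star_zero])
  have h1 : w ≠ 1 := fun e => hw (by rw [e, star_one])
  have h2 : star w ≠ 0 := star_ne_zero.2 h0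
  have h3 : star w ≠ 1 := fun e => h1 (by rw [← star_star w, e, star_one])
  have h4 : (0 : K) ≠ 1 := zero_ne_one
  have := k 0
  have := k 1
  have := k w
  have := k (star w)
  grind

omit [CharP K 2] [Finite K] hp in
theorem hf_one {x y : Vn n K} (h : hf x y = 1) : hf y x = 1 := by rw [← star_hf, h, star_one]

omit [CharP K 2] [Finite K] hp in
theorem RN_symm {x y : Vn n K} (h : RN x y) : RN y x := ⟨h.2.1, h.1, hf_one h.2.2⟩

omit [Finite K] hp in
/-- `x + W` is adjacent to `x` for isotropic `W ⊥ x` -/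
theorem nm_add {x W : Vn n K} (hx : hf x x = 1) (h1 : hf W x = 0) (h2 : hf W W = 0) :
    hf (x + W) (x + W) = 1 := by
  simp only [hf_add_left, hf_add_right, hx, h1, h2, hf_symm h1, add_zero]

theorem pth (h6 : 6 ≤ n) : Pth (RN (n := n) (K := K)) := by
  intro x₀ x₁ x₂ x₃ x₄ ⟨n0, n1, h01⟩ ⟨_, n2, h12⟩ ⟨_, n3, h23⟩ ⟨_, n4, h34⟩
  by_cases c0 : hf x₀ x₂ = 1
  · exact Or.inl ⟨n0, n2, c0⟩
  by_cases d0 : hf x₂ x₄ = 1
  · exact Or.inr (Or.inl ⟨n2, n4, d0⟩)
  refine Or.inr (Or.inr ?_)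
  have t2 := two0 K
  have hc : 1 + hf x₂ x₀ ≠ 0 := fun e => c0 (hf_one (by linear_combination e - t2))
  have hd : 1 + hf x₂ x₄ ≠ 0 := fun e => d0 (by linear_combination e - t2)
  obtain ⟨p, q, pp, qq, pq, p2, p1, p3, q2, q1, q3⟩ := hypPair h6 x₂ x₁ x₃ n2
  obtain ⟨s, s0, s1, s2⟩ := avoid 0 ((1 + hf x₂ x₀) / hf p x₀)
    ((1 + hf x₁ x₃) * star (hf q x₄) / star (1 + hf x₂ x₄))
  have h10 := hf_one h01
  have h21 := hf_one h12
  have h32 := hf_one h23
  have e1 : 1 + hf x₂ x₀ + s * hf p x₀ ≠ 0 := fun e => by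
    by_cases h : hf p x₀ = 0
    · exact hc (by simpa [h] using e)
    · exact s1 (by rw [eq_div_iff h]; linear_combination e - (1 + hf x₂ x₀) * t2)
  obtain ⟨r, hr⟩ : ∃ r : K, s * star r = 1 + hf x₁ x₃ :=
    ⟨star ((1 + hf x₁ x₃) / s), by rw [star_star]; field_simp⟩
  have e2 : 1 + hf x₂ x₄ + r * hf q x₄ ≠ 0 := fun e => s2 (by
    have e' := congrArg star e
    rw [star_add, star_mul', star_zero] at e'
    rw [eq_div_iff (star_ne_zero.2 hd), ← hr]
    linear_combination s * e' - s * star r * star (hf q x₄) * t2)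
  obtain ⟨μ, hμ⟩ : ∃ μ : K, μ * (1 + hf x₂ x₀ + s * hf p x₀) = 1 + hf x₂ x₀ :=
    ⟨_, div_mul_cancel₀ _ e1⟩
  obtain ⟨ν, hν⟩ : ∃ ν : K, ν * (1 + hf x₂ x₄ + r * hf q x₄) = 1 + hf x₂ x₄ :=
    ⟨_, div_mul_cancel₀ _ e2⟩
  have a2 : hf (μ • (x₁ + x₂ + s • p)) x₂ = 0 := by
    simp only [hf_add_left, hf_smul_left, h12, n2, p2]; linear_combination μ * t2
  have a1 : hf (μ • (x₁ + x₂ + s • p)) x₁ = 0 := by
    simp only [hf_add_left, hf_smul_left, h21, n1, p1]; linear_combination μ * t2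
  have ap : hf (μ • (x₁ + x₂ + s • p)) p = 0 := by
    simp only [hf_add_left, hf_smul_left, hf_symm p2, hf_symm p1, pp]; ring
  have a0 : hf (μ • (x₁ + x₂ + s • p)) x₀ = 1 + hf x₂ x₀ := by
    simp only [hf_add_left, hf_smul_left, h10]; exact hμ
  have b2 : hf (ν • (x₃ + x₂ + r • q)) x₂ = 0 := by
    simp only [hf_add_left, hf_smul_left, h32, n2, q2]; linear_combination ν * t2
  have b3 : hf (ν • (x₃ + x₂ + r • q)) x₃ = 0 := by
    simp only [hf_add_left, hf_smul_left, h23, n3, q3]; linear_combination ν * t2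
  have bq : hf (ν • (x₃ + x₂ + r • q)) q = 0 := by
    simp only [hf_add_left, hf_smul_left, hf_symm q2, hf_symm q3, qq]; ring
  have b4 : hf (ν • (x₃ + x₂ + r • q)) x₄ = 1 + hf x₂ x₄ := by
    simp only [hf_add_left, hf_smul_left, h34]; exact hν
  have ab : hf (μ • (x₁ + x₂ + s • p)) (ν • (x₃ + x₂ + r • q)) = 0 := by
    simp only [hf_add_left, hf_smul_left, hf_add_right, hf_smul_right, h12, h23, n2, p2, p3, pq,
      hf_symm q1, hf_symm q2]
    linear_combination μ * star ν * hr + μ * star ν * (2 + hf x₁ x₃) * t2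
  have aa : hf (μ • (x₁ + x₂ + s • p)) (μ • (x₁ + x₂ + s • p)) = 0 := by
    rw [hf_smul_right, hf_add_right, hf_add_right, hf_smul_right, a1, a2, ap]; ring
  have bb : hf (ν • (x₃ + x₂ + r • q)) (ν • (x₃ + x₂ + r • q)) = 0 := by
    rw [hf_smul_right, hf_add_right, hf_add_right, hf_smul_right, b3, b2, bq]; ring
  generalize μ • (x₁ + x₂ + s • p) = W at a0 a1 a2 aa ab
  generalize ν • (x₃ + x₂ + r • q) = Y at b2 b3 b4 bb ab
  have nw := nm_add n2 a2 aa
  have ny := nm_add n2 b2 bb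
  refine ⟨x₂ + Y, x₂ + W, ⟨ny, n2, ?_⟩, ⟨ny, n3, ?_⟩, ⟨ny, n4, ?_⟩, ⟨nw, n0, ?_⟩, ⟨nw, n1, ?_⟩,
    ⟨nw, n2, ?_⟩, ⟨nw, ny, ?_⟩⟩
  · rw [hf_add_left, n2, b2, add_zero]
  · rw [hf_add_left, h23, b3, add_zero]
  · rw [hf_add_left, b4]; linear_combination hf x₂ x₄ * t2
  · rw [hf_add_left, a0]; linear_combination hf x₂ x₀ * t2
  · rw [hf_add_left, h21, a1, add_zero]
  · rw [hf_add_left, n2, a2, add_zero]
  · simp only [hf_add_left, hf_add_right, n2, a2, ab, hf_symm b2, add_zero]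

theorem conn (h6 : 6 ≤ n) (a z : Vn n K) (ha : hf a a = 1) (hz : hf z z = 1) :
    Relation.ReflTransGen RN a z := by
  obtain ⟨p, q, pp, qq, pq, pa, pz, -, qa, qz, -⟩ := hypPair h6 a z z ha
  have b1 : hf ((1 + hf a z) • q) a = 0 := by rw [hf_smul_left, qa, mul_zero]
  have b2 : hf ((1 + hf a z) • q) ((1 + hf a z) • q) = 0 := by
    rw [hf_smul_left, hf_smul_right, qq, mul_zero, mul_zero]
  have n1 := nm_add ha b1 b2
  have n2 := nm_add hz pz pp
  have r1 : RN a (a + (1 + hf a z) • q) := ⟨ha, n1, by rw [hf_add_right, ha, hf_symm b1, add_zero]⟩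
  have r2 : RN (a + (1 + hf a z) • q) (z + p) := ⟨n1, n2, by
    simp only [hf_add_left, hf_add_right, hf_smul_left, qz, hf_symm pa, hf_one pq]
    linear_combination hf a z * two0 K⟩
  have r3 : RN (z + p) z := ⟨n2, hz, by rw [hf_add_left, hz, pz, add_zero]⟩
  exact ((Relation.ReflTransGen.single r1).tail r2).tail r3

theorem jobPN : H67.SP.JobPN := fun _ _ _ _ _ _ _ h6 => ⟨pth h6, conn h6⟩

end H62.SP3PN
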