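import Cfsg.Agent.H67.P6.H67_SPIII
import Cfsg.Agent.H85.P6.H72_SPFR

namespace H63 end H63
open H63
namespace H85.P6 end H85.P6
open H85.P6
namespace H85.P6.H63 end H85.P6.H63
open H85.P6.H63
namespace H85.P6.H63.S3 end H85.P6.H63.S3
open H85.P6.H63.S3
namespace H67.P6


/-! STD-SP chapter III, slot AW. -/

set_option autoImplicit false
set_option linter.unusedSectionVars false

namespace H63.S3

open H67.UA hiding Par
open H67.SP H72.SPF
open H59.SO (Ind exists_ind ind_conj_iff)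
open H64.SG (mem_Cz)

universe u

variable {n : ℕ} {F : Type} [Field F] [StarRing F] [TrivialStar F] [CharP F 2] [Finite F] [Par n F]
  [FV n F] {u v w : Vn n F}

theorem hf_m3 (p : P3 u v w) (a b c d f h : F) (z y : Vn n F) :
    hf (ac (m3 u v w a b c d f h) z) y = hf z y +
      hf z u * (a * hf y u + d * hf y v + f * hf y w) + hf z v * (d * hf y u + b * hf y v + h * hf y w) +
      hf z w * (f * hf y u + h * hf y v + c * hf y w) := by
  have h1 : hf (d • v) u = 0 := by rw [hf_smul_left, hf_symm p.uv, mul_zero]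
  have h2 : hf (f • w) u = 0 := by rw [hf_smul_left, hf_symm p.uw, mul_zero]
  have h3 : hf (h • w) v = 0 := by rw [hf_smul_left, hf_symm p.vw, mul_zero]
  simp only [m3, m2, ac_mul, aT, aE h1, aE h2, aE h3, hf_add_left, hf_smul_left, hr, hx, p.uv, p.uw,
    p.vw, hf_symm p.uv, hf_symm p.uw, hf_symm p.vw, hs u y, hs v y, hs w y]
  ring

theorem m3_zero (u v : Vn n F) (a b c d f h : F) : m3 u v 0 a b c d f h = m2 u v a b d := by
  have : Tc c (0 : Vn n F) = 1 := ac_ext fun y => by simp [aT]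
  simp [m3, this, EE_zero]

/-- An element that fixes `⟨u, v, w⟩^⊥` pointwise. -/
theorem cen (p : P3 u v w) (u' v' w' : Vn n F)
    (hd : ∀ z x, x = u ∨ x = v ∨ x = w → hf (z + hf z u • u' + hf z v • v' + hf z w • w') x = 0)
    (s : XU n F) (hS : ∀ y, hf y u = 0 → hf y v = 0 → hf y w = 0 → ac s y = y) :
    ∃ a b c d f h, s = m3 u v w a b c d f h := by
  have two := two0 F
  have k0 (z y) (h1 : hf y u = 0) (h2 : hf y v = 0) (h3 : hf y w = 0) : hf (ac s z) y = hf z y := by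
    rw [← hf_ac s z y, hS y h1 h2 h3]
  have k1 (z y) : hf (ac s z) y + hf z y = hf y u * (hf (ac s z) u' + hf z u') +
      hf y v * (hf (ac s z) v' + hf z v') + hf y w * (hf (ac s z) w' + hf z w') := by
    have := k0 z _ (hd y u (by simp)) (hd y v (by simp)) (hd y w (by simp))
    simp only [hf_add_right, hr] at this
    grind
  have k2 (z y) : hf (ac s z) y + hf z y = hf (ac s y) z + hf y z := by
    have h1 := k0 z (ac s y + y) (by rw [hf_add_left, k0 y u (hx u) p.uv p.uw, cc])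
      (by rw [hf_add_left, k0 y v (hf_symm p.uv) (hx v) p.vw, cc])
      (by rw [hf_add_left, k0 y w (hf_symm p.uw) (hf_symm p.vw) (hx w), cc])
    rw [hf_add_right, hf_add_right, hf_ac, hs z (ac s y)] at h1
    rw [hs y z]
    grind
  refine ⟨hf (ac s u') u', hf (ac s v') v', hf (ac s w') w', hf (ac s u') v' + hf u' v',
    hf (ac s u') w' + hf u' w', hf (ac s v') w' + hf v' w', ac_ext fun z => eq_of_hf fun y => ?_⟩
  have h1 := k1 z y
  rw [k2 z u', k2 z v', k2 z w', k1 u' z, k1 v' z, k1 w' z, k2 v' u', k2 w' u', k2 w' v', hx, hx,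
    hx] at h1
  rw [hf_m3 p]
  grind

variable [FW n F]

theorem dual2 (l : Li u v) : ∃ u' v' : Vn n F, (hf u' u = 1 ∧ hf u' v = 0) ∧ hf v' u = 0 ∧ hf v' v = 1 := by
  have h : LinearIndependent F ![u, v] := LinearIndependent.pair_iff.2 l
  obtain ⟨a, ha⟩ := FW.sep 2 _ h ![1, 0]
  obtain ⟨b, hb⟩ := FW.sep 2 _ h ![0, 1]
  exact ⟨a, b, ⟨ha 0, ha 1⟩, hb 0, hb 1⟩

theorem dual3 (l : Li3 u v w) : ∃ u' v' w' : Vn n F, (hf u' u = 1 ∧ hf u' v = 0 ∧ hf u' w = 0) ∧
    (hf v' u = 0 ∧ hf v' v = 1 ∧ hf v' w = 0) ∧ hf w' u = 0 ∧ hf w' v = 0 ∧ hf w' w = 1 := by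
  have h : LinearIndependent F ![u, v, w] := Fintype.linearIndependent_iff.2 fun g hg i => by
    obtain ⟨h0, h1, h2⟩ := l (g 0) (g 1) (g 2) (by simpa [Fin.sum_univ_three] using hg)
    fin_cases i <;> assumption
  obtain ⟨a, ha⟩ := FW.sep 3 _ h ![1, 0, 0]
  obtain ⟨b, hb⟩ := FW.sep 3 _ h ![0, 1, 0]
  obtain ⟨c, hc⟩ := FW.sep 3 _ h ![0, 0, 1]
  exact ⟨a, b, c, ⟨ha 0, ha 1, ha 2⟩, ⟨hb 0, hb 1, hb 2⟩, hc 0, hc 1, hc 2⟩

omit [FW n F] in
theorem fix_of {s : XU n F} {y : Vn n F} (h : s * TT y * s⁻¹ = TT y) : ac s y = y := by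
  by_cases h0 : y = 0
  · rw [h0, ac_zero]
  · rw [jT] at h
    exact Tc_inj h0 one_ne_zero h.symm

theorem jobAW : JobAW.{u} := by
  intro n F _ _ _ _ _ _ G _ _ e t _ _ h
  have two := two0 F
  have key : ∀ g (u : Vn n F), u ≠ 0 → g * t = t * g → (∀ c, g * e (Tc c u) = e (Tc c u) * g) →
      ∃ s, (g = e s ∨ g = t * e s) ∧ ∀ p, g * e p = e p * g → s * p * s⁻¹ = p := by
    intro g u hu hg hc
    obtain ⟨β, hβ⟩ := exists_ind h.inj (h.cz (mem_Cz.2 hg.symm))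
    have fx (p) (hp : g * e p = e p * g) : β p = p := h.inj (by rw [← hβ p, hp, mul_inv_cancel_right])
    obtain ⟨s, rfl⟩ := FA.lin β u hu fun c => fx _ (hc c)
    exact ⟨s, (h.ck _ (Subgroup.mul_mem _ (mem_Cz.2 hg.symm)
      (Subgroup.inv_mem _ (h.toB1.mem_Cz s))) (ind_conj_iff.1 hβ)).imp
      mul_inv_eq_one.1 mul_inv_eq_iff_eq_mul.1, fx⟩
  refine ⟨h.inj, h.inv.1, h.toB1.comm, fun g hg => h.toB1.not_mem FA.ns ⟨g, hg.symm⟩,
    fun g h1 h2 => h.ck g (mem_Cz.2 h1.symm) (H59.SO.mem_Cs_range.2 fun s => (h2 s).symm),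
    fun g u hu hg hp => ?_, fun g u hu hg hp => ?_, fun g u v h0 hl hg hp => ?_,
    fun g u v w p hl hg hp => ?_, fun u v a b c a' b' c' h0 hl he => ?_,
    fun u v w a b c d f k a' b' c' d' f' k' p hl he => ?_⟩
  · obtain ⟨s, h1, h2⟩ := key g u hu hg fun c => hp 0 c (hf_zero_left u)
    obtain ⟨x, c, h3, rfl⟩ := (FV.mem_Qv u s).1 (FR.cq u hu ▸ fun q hq => by
      obtain ⟨x, c, h3, rfl⟩ := (FV.mem_Qv u q).1 hq
      exact (mul_inv_eq_iff_eq_mul.1 (h2 _ (hp x c h3))).symm)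
    exact ⟨x, c, h3, h1⟩
  · obtain ⟨s, h1, h2⟩ := key g u hu hg fun c => hp _ (memT (hx u) c)
    obtain ⟨c, rfl⟩ := (FV.mem_Zl u s).1 (FR.zP u hu ▸ fun q hq =>
      (mul_inv_eq_iff_eq_mul.1 (h2 _ (hp q hq))).symm)
    exact ⟨c, h1⟩
  · obtain ⟨u', v', h3, h4⟩ := dual2 hl
    obtain ⟨s, h1, h2⟩ := key g u (fun h5 => by simp [h5] at h3) hg fun c =>
      hp _ (memT (hx u) c) (memT (hf_symm h0) c)
    obtain ⟨a, b, c, d, f, k, rfl⟩ := cen (w := 0) ⟨h0, by simp, by simp⟩ u' v' 0 (by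
      rintro z _ (rfl | rfl | rfl) <;> simp [hf_add_left, hf_smul_left, h3, h4, cc]) s
      fun y y1 y2 _ => fix_of (h2 _ (hp _ (memT (hf_symm y1) 1) (memT (hf_symm y2) 1)))
    exact ⟨a, b, d, m3_zero u v a b c d f k ▸ h1⟩
  · obtain ⟨u', v', w', h3, h4, h5⟩ := dual3 hl
    obtain ⟨s, h1, h2⟩ := key g u (fun h5 => by simp [h5] at h3) hg fun c =>
      hp _ (memT (hx u) c) (memT (hf_symm p.uv) c) (memT (hf_symm p.uw) c)
    obtain ⟨a, b, c, d, f, k, rfl⟩ := cen p u' v' w' (by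
      rintro z _ (rfl | rfl | rfl) <;> simp [hf_add_left, hf_smul_left, h3, h4, h5, cc]) s
      fun y y1 y2 y3 => fix_of (h2 _ (hp _ (memT (hf_symm y1) 1) (memT (hf_symm y2) 1)
        (memT (hf_symm y3) 1)))
    exact ⟨a, b, c, d, f, k, h1⟩
  · obtain ⟨u', v', h3, h4⟩ := dual2 hl
    have p : P3 u v 0 := ⟨h0, by simp, by simp⟩
    have k (z y) := (hf_m3 p a b 0 c 0 0 z y).symm.trans ((congrArg (fun g => hf (ac g z) y)
      ((m3_zero ..).trans (he.trans (m3_zero ..).symm))).trans (hf_m3 p a' b' 0 c' 0 0 z y))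
    exact ⟨by simpa [h3] using k u' u', by simpa [h4] using k v' v', by simpa [h3, h4] using k u' v'⟩
  · obtain ⟨u', v', w', h3, h4, h5⟩ := dual3 hl
    have q (z y) := (hf_m3 p a b c d f k z y).symm.trans ((congrArg (fun g => hf (ac g z) y) he).trans
      (hf_m3 p a' b' c' d' f' k' z y))
    exact ⟨by simpa [h3] using q u' u', by simpa [h4] using q v' v', by simpa [h5] using q w' w',
      by simpa [h3, h4] using q u' v', by simpa [h3, h5] using q u' w', by simpa [h4, h5] using q v' w'⟩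

end H63.S3
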