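import Cfsg.Agent.H67.P6.H67_SPIII
import Cfsg.Agent.H78.P6.H78_S2Kit

namespace H69 end H69
open H69
namespace H78.P6 end H78.P6
open H78.P6
namespace H78.P6.H69 end H78.P6.H69
open H78.P6.H69
namespace H78.P6.H69.SP3 end H78.P6.H69.SP3
open H78.P6.H69.SP3
namespace H85.P6 end H85.P6
open H85.P6
namespace H85.P6.H69 end H85.P6.H69
open H85.P6.H69
namespace H85.P6.H69.SP3 end H85.P6.H69.SP3
open H85.P6.H69.SP3
namespace H67.P6


/-! STD-SP (row S3129), chapter III, slot `GX`: generators of the symplectic group. -/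

set_option autoImplicit false
set_option linter.unusedSectionVars false

namespace H69.SP3

open H67.UA hiding Par
open H67.SP H78.S2
open H86.SPI (ok hf_self hf_comm EE_mul' ac_TT TT_conj TT_smul)
open Subgroup

variable {n : ℕ} {F : Type} [Field F] [StarRing F] [TrivialStar F] [CharP F 2] [Finite F]
  [p : Par n F] {A : Subgroup (XU n F)}

/-- The short root subgroup `e_i + e_j` lies in `A`. -/
def Sh (A : Subgroup (XU n F)) (i j : Fin (n + 1)) : Prop :=
  j ≠ i.rev ∧ ∀ c : F, qq (c • ev j) (ev i) ∈ A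

theorem hf0 {i j : Fin (n + 1)} (h : j ≠ i.rev) : hf (ev i : Vn n F) (ev j) = 0 := by
  rw [hf_ev, if_neg h]

theorem hfs {i j : Fin (n + 1)} (h : j ≠ i.rev) (c : F) : hf (c • ev j : Vn n F) (ev i) = 0 := by
  rw [hf_smul_left, hf_comm, hf0 h, mul_zero]

theorem Sh.symm {i j : Fin (n + 1)} (h : Sh A i j) : Sh A j i :=
  ⟨fun k => h.1 (by rw [k, Fin.rev_rev]), fun c => by rw [qq_smul', qq_comm]; exact h.2 c⟩

variable (hT : ∀ j c, Tc c (ev j) ∈ A)
include hT

theorem ee_iff {i : Fin (n + 1)} {x : Vn n F} (h : hf x (ev i) = 0) (c d : F)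
    (k : EE (ev i) x c ∈ A) : EE (ev i) x d ∈ A := by
  have := mul_mem k (hT i (c + d))
  rwa [EE_mul_Tc h, ← add_assoc, CharTwo.add_self_eq_zero, zero_add] at this

theorem Sh.step {i j l : Fin (n + 1)} (h : Sh A i j) (hl : l ≠ i.rev) {a : XU n F} (ha : a ∈ A)
    (h1 : ac a (ev i) = ev i) (h2 : ac a (ev j) = ev j + ev l) : Sh A i l := ⟨hl, fun c => by
  have k := mul_mem (mul_mem ha (h.2 c)) (inv_mem ha)
  rw [EE_conj' (hfs h.1 c), h1, ac_smul, h2, smul_add] at k
  have k2 := mul_mem (h.2 c) k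
  rw [EE_mul' (hfs h.1 c) (by rw [hf_add_left, hfs h.1, hfs hl, add_zero]), ← add_assoc,
    v_add_self, zero_add] at k2
  exact ee_iff hT (hfs hl c) _ _ k2⟩

theorem Sh.flip {i j : Fin (n + 1)} (h : Sh A i j) (k : j ≠ i) : Sh A i j.rev :=
  h.step hT (by simpa using k) (hT j.rev 1)
    (by rw [ac_TT, hf0 (by simpa using k), zero_smul, add_zero])
    (by rw [ac_TT, hf_ev, if_pos rfl, one_smul])

theorem Sh.trans {i j l : Fin (n + 1)} (h : Sh A i j) (h' : Sh A j l) (k : j ≠ i) (k' : l ≠ j)
    (hl : l ≠ i.rev) : Sh A i l := by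
  have h2 := (h'.symm.flip hT k'.symm).symm
  have h3 := h2.2 1
  rw [one_smul] at h3
  have h4 : hf (ev l : Vn n F) (ev j.rev) = 0 := hf0 (by simpa using k'.symm)
  exact h.step hT hl h3 (ac_qq_fix h4 (hf0 (by simpa using k)) (hf0 hl))
    (by rw [ac_qq' h4, hf0 h'.1, hf_ev, if_pos rfl, zero_smul, add_zero, one_smul])

theorem sh_all (hS : ∀ (i : Fin (n + 1)) (c : F), i.val + 1 < kk n → qq (c • ev (i + 1)) (ev i) ∈ A)
    {i j : Fin (n + 1)} (h1 : j ≠ i) (h2 : j ≠ i.rev) : Sh A i j := by
  have hk := H54.SPF.two_kk (n := n) (F := F)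
  have b : ∀ i j : Fin (n + 1), j.val = i.val + 1 → j.val < kk n → Sh A i j := fun i j a b => by
    obtain rfl : j = i + 1 := Fin.ext (by rw [Fin.val_add_one_of_lt' (by omega), a])
    exact ⟨fun k => by have := congrArg Fin.val k; rw [Fin.val_rev] at this; omega,
      fun c => hS i c (a ▸ b)⟩
  have lt : ∀ (d : ℕ) (i j : Fin (n + 1)), j.val = i.val + 1 + d → j.val < kk n → Sh A i j := by
    intro d
    induction d with
    | zero => exact b
    | succ d ih =>
      intro i j a c
      refine (ih i ⟨i.val + 1 + d, by omega⟩ rfl (by simp only; omega)).trans hT (b _ j a c)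
        (fun k => ?_) (fun k => ?_) fun k => ?_ <;> have := congrArg Fin.val k <;>
        simp only [Fin.val_rev] at this <;> omega
  have lo : ∀ i j : Fin (n + 1), i.val < kk n → j.val < kk n → j ≠ i → Sh A i j := fun i j a c d => by
    rcases lt_or_gt_of_ne (Fin.val_ne_of_ne d) with k | k
    · exact (lt (i.val - j.val - 1) j i (by omega) a).symm
    · exact lt (j.val - i.val - 1) i j (by omega) c
  have hi : ∀ i j : Fin (n + 1), i.val < kk n → j ≠ i → j ≠ i.rev → Sh A i j := fun i j a c d => by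
    by_cases k : j.val < kk n
    · exact lo i j a k c
    · have e : j.rev ≠ i := fun e => d (by rw [← e, Fin.rev_rev])
      simpa using (lo i j.rev a (by rw [Fin.val_rev]; omega) e).flip hT e
  by_cases k : i.val < kk n
  · exact hi i j k h1 h2
  · simpa using ((hi i.rev j (by rw [Fin.val_rev]; omega) h2 (by simpa using h1)).symm.flip hT
      h2.symm).symm

omit hT in
theorem jobGX : JobGX := by
  intro n F _ _ _ _ _ p b A hT hS
  have q : ∀ i (x : Vn n F), hf x (ev i) = 0 → ∀ c, EE (ev i) x c ∈ A := fun i x hx => by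
    have s : ∀ j, hf (x j • ev j : Vn n F) (ev i) = 0 := fun j => by
      by_cases k : j = i.rev
      · rw [k, ← hf_ev_right x, hx, zero_smul, hf_zero_left]
      · exact hfs k _
    have k : ∀ s : Finset (Fin (n + 1)), hf (∑ j ∈ s, x j • ev j : Vn n F) (ev i) = 0 ∧
        EE (ev i) (∑ j ∈ s, x j • ev j) 0 ∈ A := fun t => by
      induction t using Finset.induction_on with
      | empty => simp
      | insert j t hj ih =>
        have h1 : hf (x j • ev j + ∑ j ∈ t, x j • ev j : Vn n F) (ev i) = 0 := by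
          rw [hf_add_left, s, ih.1, add_zero]
        have h2 : EE (ev i) (x j • ev j) 0 ∈ A := by
          by_cases k : j = i.rev
          · rw [k, ← hf_ev_right x, hx]; simp
          by_cases k' : j = i
          · rw [k', ← zero_add (x i • _), EE_shift']; simp
          · exact (sh_all hT hS k' k).2 _
        have h3 := mul_mem h2 ih.2
        rw [EE_mul' (s j) ih.1] at h3
        rw [Finset.sum_insert hj]
        exact ⟨h1, ee_iff hT h1 _ _ h3⟩
    have e : ∑ j, x j • ev j = x := by ext a; simp [Finset.sum_apply, ev_apply]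
    exact fun c => ee_iff hT hx _ _ (e ▸ (k Finset.univ).2)
  refine FW.genT A fun v => ?_
  by_cases h0 : v = 0
  · simp [h0]
  obtain ⟨i, hi⟩ := Function.ne_iff.1 h0
  have hi : v i ≠ 0 := hi
  set x := (v i)⁻¹ • v + ev i
  have hx : hf x (ev i.rev) = 0 := by
    rw [hf_ev_right, Fin.rev_rev]
    simp [x, ev_apply, hi, CharTwo.add_self_eq_zero]
  have h1 : ac (EE (ev i.rev) x (hf (ev i) x)) (v i • ev i) = v := by
    rw [ac_smul, ac_EE (ok hx _), hf_ev, if_pos rfl, mul_one, one_smul, add_right_comm,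
      add_assoc (ev i), v_add_self, add_zero, add_left_comm, v_add_self, add_zero,
      smul_inv_smul₀ hi]
  have h2 := q _ _ hx (hf (ev i) x)
  rw [← h1, ← TT_conj, TT_smul]
  exact mul_mem (mul_mem h2 (hT _ _)) (inv_mem h2)

end H69.SP3
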