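import Cfsg.Agent.H67.P6.H67_SWDef
import Cfsg.Agent.H85.P6.H72_SPFR

namespace H69 end H69
open H69
namespace H85.P6 end H85.P6
open H85.P6
namespace H85.P6.H69 end H85.P6.H69
open H85.P6.H69
namespace H85.P6.H69.SWA end H85.P6.H69.SWA
open H85.P6.H69.SWA
namespace H67.P6


/-! STD-SP (row S3129), wreath endgame, slot `WA`. -/

set_option autoImplicit false
set_option linter.unusedSectionVars false

namespace H69.SWA

open H64.SG (Cz Cs mem_Cz)
open Subgroup H67.UA H67.SP H67.SW H72.SPF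
open scoped commutatorElement

variable {n : ℕ} {F : Type} [Field F] [StarRing F] [TrivialStar F] [CharP F 2] [Finite F]

theorem wmo {i j : ℕ} {v : Vn n F} (h : Wk i v) (k : i ≤ j) : Wk j v := fun a ha => h a (k.trans ha)

theorem mvp {g : XU n F} {z : Vn n F} (h : ac g z = z) (v : Vn n F) : hf (ac g v + v) z = 0 := by
  rw [hf_add_left, ← h, hf_ac, h, cc]

variable [p : H67.SP.Par n F] [Base n F] {j : ℕ}

theorem M_fix {g : XU n F} (hg : g ∈ Mk n F j) {v : Vn n F} (hv : Wk (n + 1 - j) v)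
    (hj : j ≤ n + 1) : ac g v = v := eq_of_hf fun z => by
  have := wperp hv ((FV.mem_M j _).1 (inv_mem hg) z) (by omega)
  rw [hf_add_right] at this
  rw [hf_ac_left]
  linear_combination this - cc (hf v z)

theorem Q_mv (hj : 2 * j ≤ n + 1) {g : XU n F} (hg : g ∈ Qk n F j) (v : Vn n F) :
    Wk (n + 1 - j) (ac g v + v) :=
  (FV.wk_perp j (by omega) _).2 fun w hw => mvp (((FV.mem_Qk j hj g).1 hg).1 w hw) v

theorem M_le_Q (hj : 2 * j ≤ n + 1) : Mk n F j ≤ Qk n F j := fun g hg => (FV.mem_Qk j hj g).2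
  ⟨fun _ hv => M_fix hg (wmo hv (by omega)) (by omega), fun v _ => (FV.mem_M j g).1 hg v⟩

theorem Q_le_U (hj : 2 * j ≤ n + 1) : Qk n F j ≤ UU n F := fun g hg => (FV.mem_U g).2 fun i v hv => by
  obtain ⟨h1, h2⟩ := (FV.mem_Qk j hj g).1 hg
  by_cases a : i + 1 ≤ j
  · rw [h1 v (wmo hv a), v_add_self]; exact fun _ _ => rfl
  by_cases b : i + 1 ≤ n + 1 - j
  · exact wmo (h2 v (wmo hv b)) (by omega)
  · exact wmo (Q_mv hj hg v) (by omega)

theorem M_sq (hj : 2 * j ≤ n + 1) {g : XU n F} (hg : g ∈ Mk n F j) : g * g = 1 := ac_ext fun v => by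
  have := M_fix hg (wmo ((FV.mem_M j g).1 hg v) (show j ≤ n + 1 - j by omega)) (by omega)
  rw [ac_add, add_comm (ac g v)] at this
  rw [ac_mul, add_right_cancel this, ac_one]

theorem T_mem (hj : 2 * j ≤ n + 1) {u : Vn n F} (hu : Wk j u) (c : F) : Tc c u ∈ Qk n F j :=
  FV.EE_Q j hj u 0 c hu fun _ _ => rfl

theorem cq_le (h2 : 2 ≤ j) (hj : 2 * j ≤ n + 1) : Cs (Qk n F j) ≤ Mk n F j := fun g hg =>
  (FV.mem_M j g).2 fun v => by
    rw [show j = n + 1 - (n + 1 - j) by omega]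
    refine (FV.wk_perp _ (by omega) _).2 fun y hy => mvp ?_ v
    have k : ∀ u, Wk j u → u ≠ 0 → ∃ a : F, ac g y + y = a • u := fun u hu h0 => by
      have f : ac g u = u := (cz u 1 h0 one_ne_zero).le (mem_Cz.2 (hg _ (T_mem hj hu 1)))
      have q := wperp hy hu (by omega)
      have e := mul_inv_eq_iff_eq_mul.2 (hg _ (FV.EE_Q j hj u y 0 hu hy)).symm
      rw [jE q, f] at e
      exact iE h0 (pS f q) q e
    obtain ⟨a, ha⟩ := k (ev 0) (wev (by simp; omega)) (ev_ne 0)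
    obtain ⟨b, hb⟩ := k (ev 1) (wev (by rw [v1 (F := F)]; omega)) (ev_ne 1)
    rw [mv ha, (li01 a b (by rw [← ha, ← hb, v_add_self])).1, zero_smul, add_zero]

theorem ct (h2 : 2 ≤ j) (hj : 2 * j ≤ n + 1) (β : MulAut (XU n F)) (h : ∀ u ∈ Qk n F j, β u = u) :
    ∃ ζ ∈ Qk n F j, ζ * ζ = 1 ∧ β = MulAut.conj ζ := by
  obtain ⟨g, rfl⟩ := FA.lin β (ev 0) (ev_ne 0) fun c => h _ (T_mem hj (wev (by simp; omega)) c)
  have m := cq_le h2 hj fun u hu => (mul_inv_eq_iff_eq_mul.1 (h u hu)).symm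
  exact ⟨g, M_le_Q hj m, M_sq hj m, rfl⟩

include p in
theorem kk2 : 2 * kk n = n + 1 ∧ 3 ≤ kk n := by
  obtain ⟨m, hm⟩ := p.odd
  have := p.five
  unfold kk; omega

theorem DD_eq : DD n F = Qk n F (kk n) := by
  have := kk2 (n := n) (F := F)
  refine le_antisymm (M_le_Q this.1.le) fun g hg => (FV.mem_M _ g).2 fun v => ?_
  exact wmo (Q_mv this.1.le hg v) (by omega)

theorem zd (c : FC n F) : ZL n F ⊔ ZS n F ≤ ⁅UU n F, UU n F⁆ := by
  have h5 := p.five
  have e1 := v1 (n := n) (F := F)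
  have hS : ZS n F ≤ ⁅UU n F, UU n F⁆ :=
    c.zq ▸ commutator_mono (Q_le_U (by omega)) (Q_le_U (by omega))
  refine sup_le (fun g hg => ?_) hS
  obtain ⟨a, rfl⟩ := (FV.mem_Zl _ g).1 hg
  have m : EE (ev 0) (ev (1 : Fin (n + 1)).rev) (0 : F) ∈ UU n F :=
    memU (by simp; omega) (wev (by rw [Fin.val_rev, e1]; simp; omega)) 0
  have k := commutator_mem_commutator m
    (Q_le_U (j := 2) (by omega) (T_mem (by omega) (wev (i := 1) (by omega)) a))
  have f : ac (EE (ev 0) (ev (1 : Fin (n + 1)).rev) (0 : F)) (ev 1) = ev 0 + ev 1 := by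
    rw [ac_EE_perp (FV.ok _ _ _ (by rw [hfe, if_neg (by rw [Fin.val_rev, e1]; simp; omega)]))
      (hf_symm p01), hf_ev, if_pos rfl, one_smul, add_comm]
  have r : ∀ u : Vn n F, Tc a u = TT (rt a • u) := fun u => by
    rw [TT, Tc_smul, nm, star_trivial, ← sq, rt_sq, mul_one]
  rw [commutatorElement_def, jT, f, inE (by simp), r, show EE (ev 1) 0 a = _ from r _, smul_add,
    ← c_eq (by rw [hf_smul_left, hr, p01]; simp), EE_smul, star_trivial, smul_smul, ← zu_eq, nm,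
    star_trivial, ← sq, rt_sq, mul_one] at k
  exact (mul_mem_cancel_right (hS ((FV.mem_Zs _ _ p01 _).2 ⟨a, rfl⟩))).1 k

theorem jobWA : JobWA := by
  intro n F _ _ _ _ _ p b c _
  obtain ⟨k1, k2⟩ := kk2 (n := n) (F := F)
  have e1 := v1 (n := n) (F := F)
  refine ⟨⟨DD_eq (n := n) (F := F) ▸ Q_le_U k1.le, Q_le_U (by omega)⟩, fun u hu => M_sq k1.le hu, ?_,
    inf_le_right.trans (FR.zU.le.trans (zd c)), ?_, ?_⟩
  · have m : ∀ i : Fin (n + 1), i.val < 2 → TT (ev i) ∈ DD n F := fun i hi =>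
      DD_eq.ge (T_mem k1.le (wev (by omega)) 1)
    have ne : ∀ i : Fin (n + 1), TT (ev i : Vn n F) ≠ 1 := fun i e =>
      one_ne_zero (Tc_eq_one (ev_ne i) (hx _) (star_one F) e)
    have := Fintype.ofFinite (DD n F)
    rw [Nat.card_eq_fintype_card, Fintype.two_lt_card_iff]
    refine ⟨1, ⟨_, m 0 (by simp)⟩, ⟨_, m 1 (by omega)⟩, fun e => ne 0 (congrArg Subtype.val e).symm,
      fun e => ne 1 (congrArg Subtype.val e).symm, fun e => one_ne_zero (li01 (n := n) (1 : F) 1 ?_).1⟩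
    rw [Tc_inj (ev_ne 0) one_ne_zero (congrArg Subtype.val e), v_add_self]
  · have h1 : Nat.card ↥(UU n F ⊓ Cs (UU n F)) ≤ Nat.card F ^ 2 := by
      rw [sq, ← Nat.card_prod]
      choose a b h using fun g : ↥(UU n F ⊓ Cs (UU n F)) => (FV.mem_ZU g.1).1 (FR.zU.le g.2.2)
      exact Nat.card_le_card_of_injective (fun g => (a g, b g)) fun g g' e => Subtype.ext (by
        rw [h g, h g', (Prod.mk.inj e).1, (Prod.mk.inj e).2])
    refine (Nat.pow_le_pow_left h1 2).trans_lt ?_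
    rw [FW.cardU, ← pow_mul]
    exact Nat.pow_lt_pow_right Finite.one_lt_card (by nlinarith)
  · rintro R (rfl | rfl)
    · rw [DD_eq]; exact ct (by omega) k1.le
    · exact ct (by omega) (by omega)

end H69.SWA
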