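import Cfsg.Agent.H67.P6.H67_SPIII
import Cfsg.Agent.H78.P6.H78_S2Kit

namespace H6 end H6
open H6
namespace H78.P6 end H78.P6
open H78.P6
namespace H78.P6.H6 end H78.P6.H6
open H78.P6.H6
namespace H78.P6.H6.Sp3T1a end H78.P6.H6.Sp3T1a
open H78.P6.H6.Sp3T1a
namespace H85.P6 end H85.P6
open H85.P6
namespace H85.P6.H6 end H85.P6.H6
open H85.P6.H6
namespace H85.P6.H6.Sp3T1a end H85.P6.H6.Sp3T1a
open H85.P6.H6.Sp3T1a
namespace H67.P6


/-! STD-SP chapter III: `JobT1a`. -/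

set_option autoImplicit false
set_option linter.unusedSectionVars false

namespace H6.Sp3T1a

open H64.SG (Cz Cs mem_Cz)
open H67.UA hiding Par
open H67.SP
open H67.SA (cm la)
open H86.SPI (hf_self hf_comm hf_smul_right' TT_conj qq_conj)
open H78.S2 (ac_Tc' ac_Tc_fix ac_qq' ac_qq_fix Tc_mul Tc_sq Tc_inj li_ne li_symm qq_smul')
open Subgroup

universe u

section Gen

variable {X : Type} [Group X] {G : Type u} [Group G] {e : X →* G} {t : G}

theorem th_list {ι : Type} (S : Subgroup X) (a : ι → G) (m : ι → X) (L : List ι)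
    (h : ∀ i ∈ L, a i ∈ Cs (S.map e) ∧ m i ∈ S ∧ a i * t * (a i)⁻¹ = t * e (m i)) :
    (L.map a).prod ∈ Cs (S.map e) ∧ (L.map m).prod ∈ S ∧
      (L.map a).prod * t * (L.map a).prod⁻¹ = t * e (L.map m).prod := by
  induction L with
  | nil => simp
  | cons i L ih =>
    obtain ⟨h1, h2, h3⟩ := h i (by simp)
    obtain ⟨k1, k2, k3⟩ := ih fun j hj => h j (by simp [hj])
    simp only [List.map_cons, List.prod_cons]
    refine ⟨mul_mem h1 k1, mul_mem h2 k2, ?_⟩
    have k4 := h1 _ ⟨_, k2, rfl⟩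
    calc _ = a i * ((L.map a).prod * t * (L.map a).prod⁻¹) * (a i)⁻¹ := by group
      _ = a i * t * (a i)⁻¹ * (a i * e (L.map m).prod * (a i)⁻¹) := by rw [k3]; group
      _ = _ := by rw [h3, ← k4, map_mul]; group

theorem cm_list {ι : Type} (S : Subgroup X) (b : G) (a : ι → G) (m : ι → X) (L : List ι)
    (h : ∀ i ∈ L, a i ∈ Cs (S.map e) ∧ m i ∈ S ∧ cm b (a i) = e (m i)) :
    (L.map m).prod ∈ S ∧ cm b (L.map a).prod = e (L.map m).prod := by
  induction L with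
  | nil => simp [cm]
  | cons i L ih =>
    obtain ⟨h1, h2, h3⟩ := h i (by simp)
    obtain ⟨k2, k3⟩ := ih fun j hj => h j (by simp [hj])
    simp only [List.map_cons, List.prod_cons]
    refine ⟨mul_mem h2 k2, ?_⟩
    have k4 := h1 _ ⟨_, k2, rfl⟩
    calc _ = cm b (a i) * (a i * cm b (L.map a).prod * (a i)⁻¹) := by simp only [cm]; group
      _ = _ := by rw [h3, k3, ← k4, map_mul]; group

end Gen

variable {n : ℕ} {F : Type} [Field F] [StarRing F] [TrivialStar F] [CharP F 2] [Finite F] [Par n F]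
  {G : Type u} [Group G] {e : XU n F →* G} {t : G} {τ : Vn n F → G} {u v w : Vn n F}

theorem ac_ne {g : XU n F} (h : v ≠ 0) : ac g v ≠ 0 := fun e =>
  h (ac_inj g (e.trans (ac_zero g).symm))

theorem Tc_cj (g : XU n F) (c : F) (v : Vn n F) : g * Tc c v * g⁻¹ = Tc c (ac g v) :=
  Tc_conj (hf_self v) (star_trivial c) g

theorem hf_sm (h : hf u v = 0) (c : F) : hf (c • v) u = 0 := by
  rw [hf_smul_left, hf_symm h, mul_zero]

theorem ac_m2 (h : hf u v = 0) (a b c : F) (y : Vn n F) : ac (m2 u v a b c) y =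
    y + (a * hf y u + c * hf y v) • u + (b * hf y v + c * hf y u) • v := by
  simp only [m2, ac_mul, ac_Tc', ac_qq' (hf_sm h c), hf_add_left, hf_smul_left, hf_smul_right',
    hf_self, h, hf_symm h, mul_zero, add_zero]
  ext i
  simp only [Pi.add_apply, Pi.smul_apply, smul_eq_mul]
  ring

theorem m2_fix (h : hf u v = 0) (a b c : F) {y : Vn n F} (h1 : hf y u = 0) (h2 : hf y v = 0) :
    ac (m2 u v a b c) y = y := by simp [ac_m2 h, h1, h2]

theorem m2_sq (h : hf u v = 0) (a b c : F) : m2 u v a b c * m2 u v a b c = 1 := ac_ext fun y => by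
  simp only [ac_mul, ac_m2 h, hf_add_left, hf_smul_left, hf_self, h, hf_symm h, mul_zero, add_zero,
    ac_one]
  ext i
  simp only [Pi.add_apply, Pi.smul_apply, smul_eq_mul]
  linear_combination ((a * hf y u + c * hf y v) * u i + (b * hf y v + c * hf y u) * v i) *
    (CharTwo.two_eq_zero (R := F))

theorem m2_swap (h : hf u v = 0) (a b c : F) : m2 v u a b c = m2 u v b a c := ac_ext fun y => by
  rw [ac_m2 h, ac_m2 (hf_symm h), add_right_comm]

theorem m2_cj (h : hf u v = 0) (a b c : F) (g : XU n F) :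
    g * m2 u v a b c * g⁻¹ = m2 (ac g u) (ac g v) a b c := by
  rw [m2, m2, ← ac_smul, ← Tc_cj, ← Tc_cj, ← qq_conj g (hf_sm h c)]
  group

theorem exists_R0 [FW n F] (aw : AW e t) (tr : Tr e t 0) : ∃ τ, R0 e τ ∧ Tt e τ t := by
  classical
  obtain ⟨w, c1, c2, c4⟩ := tr 1
  rw [one_smul] at c2
  have c5 : SS n F ≤ (Cz w).comap e := FW.genS _ fun y hy => by
    have := c4 y hy.1 hy.2
    simp only [zero_mul, zero_smul, ne_eq, OfNat.ofNat_ne_zero, not_false_eq_true, zero_pow,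
      EE_zero, mul_one] at this
    exact mem_Cz.2 (mul_inv_eq_iff_eq_mul.1 this)
  have c3 : ∀ p, ac p (ev 0) = ev 0 → e p * w * (e p)⁻¹ = w := fun p hp => by
    obtain ⟨u, hu, s, hs, rfl⟩ := FW.ps p hp
    have h1 : e u * w = w * e u := c1 _ ⟨u, hu, rfl⟩
    have h2 : w * e s = e s * w := mem_Cz.1 (c5 hs)
    rw [mul_inv_eq_iff_eq_mul, map_mul, mul_assoc, ← h2, ← mul_assoc, h1, mul_assoc]
  choose! γ hγ using FW.w1 (n := n) (F := F)
  let τ : Vn n F → G := fun v => if v ≠ 0 then e (γ v) * w * (e (γ v))⁻¹ else 1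
  have k1 : ∀ g, τ (ac g (ev 0)) = e g * w * (e g)⁻¹ := fun g => by
    have h1 : ac g (ev 0) ≠ 0 := ac_ne (ev_ne 0)
    have h3 := c3 (g⁻¹ * γ (ac g (ev 0))) (by rw [ac_mul, hγ _ h1, ac_inv_ac])
    simp only [τ, if_pos h1]
    nth_rewrite 2 [← h3]
    rw [map_mul, map_inv]; group
  have k0 : τ 0 = 1 := if_neg fun h => h rfl
  have k2 : ∀ {P : Vn n F → Prop}, P 0 → (∀ g, P (ac g (ev 0))) → ∀ v, P v :=
    fun h1 h2 v => by
      by_cases h3 : v = 0
      · exact h3 ▸ h1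
      · exact hγ v h3 ▸ h2 _
  refine ⟨τ, ⟨k0, fun g => k2 (by simp [k0]) fun g' => ?_⟩, k2 (by simp [k0]) fun g => ?_⟩
  · rw [← ac_mul, k1, k1, map_mul]; group
  · rw [k1, ← TT_conj, map_mul, map_mul, map_inv]
    have h1 : (e g)⁻¹ * t * e g = t := by rw [mul_assoc, aw.cen, inv_mul_cancel_left]
    calc _ = e g * (w * ((e g)⁻¹ * t * e g) * w⁻¹) * (e g)⁻¹ := by group
      _ = _ := by rw [h1, c2, ← mul_assoc (e g), ← aw.cen]; group

theorem noT (aw : AW e t) (r : R0 e τ) (tt : Tt e τ t) (hu : u ≠ 0) {m : XU n F} (hm : ac m u = u)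
    (h : τ u * (t * e m) = t * e m * τ u) : False := by
  have h1 := tt u
  rw [← mul_assoc, mul_assoc t, r.fix hm, ← mul_assoc, mul_left_inj] at h
  rw [h, mul_inv_cancel_right, left_eq_mul, ← map_one e] at h1
  exact one_ne_zero (Tc_eq_one hu (hf_self u) (star_one F) (aw.inj h1))

theorem exists_sq [FW n F] (aw : AW e t) (r : R0 e τ) (tt : Tt e τ t) : ∃ ρ, Sq e τ ρ := by
  have h0 : (ev 0 : Vn n F) ≠ 0 := ev_ne 0
  have h1 := r.fix (g := TT (ev 0)) (ac_Tc_fix 1 (hf_self (ev 0)))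
  obtain ⟨ρ, h | h⟩ := aw.v1 (τ (ev 0) * τ (ev 0)) (ev 0) h0 (by
    rw [← mul_inv_eq_iff_eq_mul]
    calc _ = τ (ev 0) * (τ (ev 0) * t * (τ (ev 0))⁻¹) * (τ (ev 0))⁻¹ := by group
      _ = τ (ev 0) * t * (τ (ev 0))⁻¹ * (τ (ev 0) * e (TT (ev 0)) * (τ (ev 0))⁻¹) := by
        nth_rewrite 1 [tt]; group
      _ = _ := by rw [tt, ← h1, mul_inv_cancel_right, mul_assoc, ← map_mul, Tc_sq, map_one, mul_one])
    (fun p hp => by rw [mul_assoc, ← r.fix hp, ← mul_assoc, ← r.fix hp, mul_assoc])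
  · refine ⟨ρ, fun v => ?_⟩
    by_cases hv : v = 0
    · simp [hv, r.zero]
    · obtain ⟨g, rfl⟩ := FW.w1 v hv
      rw [← r.eqv, ← Tc_cj, map_mul, map_mul, map_inv, ← h]; group
  · exact (noT aw r tt h0 (ac_Tc_fix ρ (hf_self _)) (by rw [← h, mul_assoc])).elim

theorem cm_m2 (aw : AW e t) (r : R0 e τ) (tt : Tt e τ t) {ρ : F} (sq : Sq e τ ρ) (h : hf u v = 0)
    (l : Li u v) : ∃ a b c, cm (τ u) (τ v) = e (m2 u v a b c) := by
  have hs := hf_symm h
  have f1 := r.fix (g := TT v) (ac_Tc_fix 1 h)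
  have f2 := r.fix (g := TT u) (ac_Tc_fix 1 hs)
  have f3 := r.fix (g := TT u) (ac_Tc_fix 1 (hf_self u))
  have f4 := r.fix (g := TT v) (ac_Tc_fix 1 (hf_self v))
  have f5 : TT v * TT u = TT u * TT v := by
    rw [← mul_inv_eq_iff_eq_mul, TT_conj, ac_Tc_fix 1 h]
  have a1 : τ u * τ v * t * (τ u * τ v)⁻¹ = t * e (TT u * TT v) := by
    calc _ = τ u * (τ v * t * (τ v)⁻¹) * (τ u)⁻¹ := by group
      _ = τ u * t * (τ u)⁻¹ * (τ u * e (TT v) * (τ u)⁻¹) := by rw [tt]; group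
      _ = _ := by rw [tt, ← f1, map_mul]; group
  have a2 : τ v * τ u * t * (τ v * τ u)⁻¹ = t * e (TT u * TT v) := by
    calc _ = τ v * (τ u * t * (τ u)⁻¹) * (τ v)⁻¹ := by group
      _ = τ v * t * (τ v)⁻¹ * (τ v * e (TT u) * (τ v)⁻¹) := by rw [tt]; group
      _ = _ := by rw [tt, ← f2, ← f5, map_mul]; group
  have cp : ∀ p, ac p u = u → ac p v = v → cm (τ u) (τ v) * e p = e p * cm (τ u) (τ v) :=
    fun p h1 h2 => by
      rw [eq_comm, ← mul_inv_eq_iff_eq_mul]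
      calc _ = cm (e p * τ u * (e p)⁻¹) (e p * τ v * (e p)⁻¹) := by simp only [cm]; group
        _ = _ := by rw [r.eqv, r.eqv, h1, h2]
  have a3 := cp (TT u * TT v) (by rw [ac_mul, ac_Tc_fix 1 h, ac_Tc_fix 1 (hf_self u)])
    (by rw [ac_mul, ac_Tc_fix 1 (hf_self v), ac_Tc_fix 1 hs])
  have a4 : cm (τ u) (τ v) * (t * e (TT u * TT v)) = t * e (TT u * TT v) * cm (τ u) (τ v) := by
    nth_rewrite 1 [← a2]
    rw [← a1]; simp only [cm]; group
  obtain ⟨a, b, c, k | k⟩ := aw.v2 (cm (τ u) (τ v)) u v h l (by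
    rw [← mul_assoc, mul_assoc t, ← a3, ← mul_assoc, mul_left_inj] at a4; exact a4) cp
  · exact ⟨a, b, c, k⟩
  · refine (noT aw r tt (li_ne l) (m2_fix h a b c (hf_self u) h) ?_).elim
    have b1 : cm (τ u) (τ v) * cm (τ u) (τ v) = 1 := by
      rw [k, mul_assoc, ← mul_assoc (e _), ← aw.cen, mul_assoc, ← map_mul, m2_sq h, map_one, mul_one,
        aw.tt]
    have b2 := r.fix (g := Tc ρ u) (ac_Tc_fix ρ hs)
    rw [← sq] at b2
    rw [← k, ← mul_inv_eq_iff_eq_mul]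
    nth_rewrite 2 [← inv_eq_of_mul_eq_one_right b1]
    calc _ = τ u * τ u * τ v * ((τ u)⁻¹ * (τ v)⁻¹ * (τ u)⁻¹) := by simp only [cm]; group
      _ = _ := by rw [b2]; simp only [cm]; group

theorem p3 : P3 (ev 0 : Vn n F) (ev 1) (ev 2) := by
  have h := Par.five (n := n) (F := F)
  refine ⟨?_, ?_, ?_⟩ <;> rw [H54.SPF.hf_evv, if_neg] <;>
    simp [H54.SPF.m1 h, H54.SPF.m2 h] <;> omega

theorem li3 : Li3 (ev 0 : Vn n F) (ev 1) (ev 2) := fun a b c k => by
  have h := Par.five (n := n) (F := F)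
  have h01 : (0 : Fin (n + 1)) ≠ 1 := by simp [Fin.ext_iff, H54.SPF.m1 h]
  have h02 : (0 : Fin (n + 1)) ≠ 2 := by simp [Fin.ext_iff, H54.SPF.m2 h]
  have h12 : (1 : Fin (n + 1)) ≠ 2 := by simp [Fin.ext_iff, H54.SPF.m1 h, H54.SPF.m2 h]
  have k0 := congrFun k 0
  have k1 := congrFun k 1
  have k2 := congrFun k 2
  simp [ev_apply, h01, h02, h12, h01.symm, h02.symm, h12.symm] at k0 k1 k2
  exact ⟨k0, k1, k2⟩

theorem li2 : Li (ev 0 : Vn n F) (ev 1) := fun a b k =>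
  have := li3 (n := n) a b 0 (by simpa using k)
  ⟨this.1, this.2.1⟩

theorem exists_ab [FW n F] (aw : AW e t) (r : R0 e τ) (tt : Tt e τ t) {ρ : F} (sq : Sq e τ ρ) :
    ∃ α β, ∀ u v, hf u v = 0 → Li u v → cm (τ u) (τ v) = e (m2 u v α α β) := by
  have h := (p3 (n := n) (F := F)).uv
  obtain ⟨a, b, c, k⟩ := cm_m2 aw r tt sq h li2
  have k1 : ∀ u v, hf u v = 0 → Li u v → cm (τ u) (τ v) = e (m2 u v a b c) := fun u v h1 h2 => by
    obtain ⟨g, rfl, rfl⟩ := FW.w2 u v h1 h2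
    rw [← r.eqv, ← r.eqv, ← m2_cj h, map_mul, map_mul, map_inv, ← k]
    simp only [cm]; group
  have k2 := k1 _ _ (hf_symm h) (li_symm li2)
  rw [m2_swap h, show cm (τ (ev 1)) (τ (ev 0)) = (cm (τ (ev 0)) (τ (ev 1)))⁻¹ by
    simp only [cm]; group, k, ← map_inv, inv_eq_of_mul_eq_one_right (m2_sq h a b c)] at k2
  obtain ⟨rfl, -⟩ := aw.uq2 _ _ _ _ _ _ _ _ h li2 (aw.inj k2)
  exact ⟨a, c, k1⟩

theorem prod7 (p : P3 u v w) :
    ([u, v, w, u + v, u + w, v + w, u + v + w].map TT).prod = 1 := ac_ext fun y => by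
  simp only [List.map_cons, List.map_nil, List.prod_cons, List.prod_nil, mul_one, ac_mul, ac_Tc',
    hf_add_left, hf_add_right, hf_smul_left, hf_self, p.uv, p.uw, p.vw, hf_symm p.uv, hf_symm p.uw,
    hf_symm p.vw, mul_zero, add_zero, one_mul, ac_one]
  ext i
  simp only [Pi.add_apply, Pi.smul_apply, smul_eq_mul]
  have h2 : (2 : F) = 0 := CharTwo.two_eq_zero
  linear_combination (2 * (hf y u * u i + hf y v * v i + hf y w * w i) +
    (hf y u * v i + hf y v * u i + hf y u * w i + hf y w * u i + hf y v * w i + hf y w * v i)) * h2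

theorem prod6 (p : P3 u v w) (α β : F) :
    ([v, w, u + v, u + w, v + w, u + v + w].map fun x => m2 u x α α β).prod = Tc α u :=
  ac_ext fun y => by
  have h1 : hf u (u + v) = 0 := by rw [hf_add_right, hf_self, p.uv, add_zero]
  have h2 : hf u (u + w) = 0 := by rw [hf_add_right, hf_self, p.uw, add_zero]
  have h3 : hf u (v + w) = 0 := by rw [hf_add_right, p.uw, p.uv, add_zero]
  have h4 : hf u (u + v + w) = 0 := by rw [hf_add_right, h1, p.uw, add_zero]
  simp only [List.map_cons, List.map_nil, List.prod_cons, List.prod_nil, mul_one, ac_mul, ac_Tc',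
    ac_m2 p.uv, ac_m2 p.uw, ac_m2 h1, ac_m2 h2, ac_m2 h3, ac_m2 h4,
    hf_add_left, hf_add_right, hf_smul_left, hf_self, p.uv, p.uw, p.vw, hf_symm p.uv, hf_symm p.uw,
    hf_symm p.vw, mul_zero, add_zero]
  ext i
  simp only [Pi.add_apply, Pi.smul_apply, smul_eq_mul]
  have h : (2 : F) = 0 := CharTwo.two_eq_zero
  linear_combination (α * (4 * hf y u * u i + 2 * (hf y v * v i + hf y w * w i) +
    (hf y u * v i + hf y v * u i + hf y u * w i + hf y w * u i + hf y v * w i + hf y w * v i)) +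
    β * (3 * hf y u * u i + 2 * (hf y v * u i + hf y w * u i + hf y u * v i + hf y u * w i))) * h

theorem alpha (aw : AW e t) (r : R0 e τ) (tt : Tt e τ t) {α β : F}
    (k : ∀ u v, hf u v = 0 → Li u v → cm (τ u) (τ v) = e (m2 u v α α β)) (p : P3 u v w)
    (l : Li3 u v w) : α = 0 ∨ α = 1 := by
  let S : Subgroup (XU n F) := Stab u ⊓ Stab v ⊓ Stab w
  have hu : u ≠ 0 := fun h => one_ne_zero (l 1 0 0 (by simp [h])).1
  have q : ∀ x ∈ [u, v, w, u + v, u + w, v + w, u + v + w],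
      (hf u x = 0 ∧ hf v x = 0 ∧ hf w x = 0) ∧ τ x ∈ Cs (S.map e) := by
    intro x hx
    refine ⟨?_, ?_⟩
    · simp only [List.mem_cons, List.not_mem_nil, or_false] at hx
      rcases hx with rfl | rfl | rfl | rfl | rfl | rfl | rfl <;>
        simp [hf_add_right, hf_self, p.uv, p.uw, p.vw, hf_symm p.uv, hf_symm p.uw, hf_symm p.vw]
    · rintro _ ⟨g, ⟨⟨g1, g2⟩, g3⟩, rfl⟩
      have g1 : ac g u = u := g1
      have g2 : ac g v = v := g2
      have g3 : ac g w = w := g3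
      refine r.fix ?_
      simp only [List.mem_cons, List.not_mem_nil, or_false] at hx
      rcases hx with rfl | rfl | rfl | rfl | rfl | rfl | rfl <;> simp only [ac_add, g1, g2, g3]
  obtain ⟨a1, -, a2⟩ := th_list (t := t) S τ TT _ fun x hx => ⟨(q x hx).2,
    ⟨⟨ac_Tc_fix 1 (q x hx).1.1, ac_Tc_fix 1 (q x hx).1.2.1⟩, ac_Tc_fix 1 (q x hx).1.2.2⟩, tt x⟩
  rw [prod7 p, map_one, mul_one, mul_inv_eq_iff_eq_mul] at a2
  obtain ⟨-, a3⟩ := cm_list S (τ u) τ (fun x => m2 u x α α β)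
    [v, w, u + v, u + w, v + w, u + v + w] fun x hx => by
      obtain ⟨⟨b1, b2, b3⟩, b4⟩ := q x (List.mem_cons_of_mem _ hx)
      refine ⟨b4, ⟨⟨m2_fix b1 _ _ _ (hf_self u) b1, m2_fix b1 _ _ _ (hf_symm p.uv) b2⟩,
        m2_fix b1 _ _ _ (hf_symm p.uw) b3⟩, k u x b1 fun a b hab => ?_⟩
      simp only [List.mem_cons, List.not_mem_nil, or_false] at hx
      rcases hx with rfl | rfl | rfl | rfl | rfl | rfl
      · have := l a b 0 (by simpa using hab); exact ⟨this.1, this.2.1⟩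
      · have := l a 0 b (by simpa using hab); exact ⟨this.1, this.2.2⟩
      · have := l (a + b) b 0 (by rw [← hab]; module); exact ⟨by simpa [this.2.1] using this.1, this.2.1⟩
      · have := l (a + b) 0 b (by rw [← hab]; module); exact ⟨by simpa [this.2.2] using this.1, this.2.2⟩
      · have := l a b b (by rw [← hab]; module); exact ⟨this.1, this.2.1⟩
      · have := l (a + b) b b (by rw [← hab]; module); exact ⟨by simpa [this.2.1] using this.1, this.2.1⟩
  rw [prod6 p] at a3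
  have a4 : cm (τ u) ([u, v, w, u + v, u + w, v + w, u + v + w].map τ).prod = e (Tc α u) := by
    rw [List.map_cons, List.prod_cons]
    calc _ = τ u * cm (τ u) ([v, w, u + v, u + w, v + w, u + v + w].map τ).prod * (τ u)⁻¹ := by
          simp only [cm]; group
      _ = _ := by rw [a3, ← r.fix (ac_Tc_fix α (hf_self u)), mul_inv_cancel_right]
  obtain ⟨a, b, c, d, f, h, k1⟩ := aw.v3 _ u v w p l a2 fun g g1 g2 g3 =>
    (a1 _ ⟨g, ⟨⟨g1, g2⟩, g3⟩, rfl⟩).symm
  have k2 : e (m3 u v w a b c d f h) * τ u = τ u * e (m3 u v w a b c d f h) := r.fix (by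
    rw [m3, ac_mul, ac_mul, ac_mul, ac_qq_fix (hf_sm p.vw h) p.uv (by
      rw [hf_smul_right', p.uw, mul_zero]), ac_qq_fix (hf_sm p.uw f) (hf_self u) (by
      rw [hf_smul_right', p.uw, mul_zero]), ac_Tc_fix c p.uw, m2_fix p.uv _ _ _ (hf_self u) p.uv])
  rcases k1 with k1 | k1 <;> rw [k1] at a4
  · left
    rw [cm, ← k2, mul_inv_cancel_right, mul_inv_cancel, ← map_one e] at a4
    exact Tc_eq_one hu (hf_self u) (star_trivial α) (aw.inj a4).symm
  · right
    refine (Tc_inj hu (aw.inj ?_)).symm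
    rw [← a4]
    calc _ = t * e (TT u) * t⁻¹ := by rw [aw.cen, mul_inv_cancel_right]
      _ = τ u * t * (τ u)⁻¹ * (e (m3 u v w a b c d f h) * τ u) * (τ u)⁻¹ *
          (t * e (m3 u v w a b c d f h))⁻¹ := by rw [tt]; group
      _ = _ := by rw [k2]; simp only [cm]; group

theorem jobT1a : JobT1a.{u} := by
  classical
  intro n F _ _ _ _ _ _ G _ _ e t b c aw tr
  obtain ⟨τ, r, tt⟩ := exists_R0 aw tr
  obtain ⟨ρ, sq⟩ := exists_sq aw r tt
  obtain ⟨α, β, k⟩ := exists_ab aw r tt sq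
  rcases alpha aw r tt k p3 li3 with rfl | rfl
  · exact ⟨τ, β, ρ, ⟨r, fun u v h l => by simpa [m2] using k u v h l⟩, tt, sq⟩
  have ct : ∀ g, t * e g * t⁻¹ = e g := fun g => by rw [aw.cen, mul_inv_cancel_right]
  refine ⟨fun v => if v = 0 then 1 else τ v * t, β, 1 + ρ, ⟨⟨by simp, fun g v => ?_⟩,
    fun u v h l => ?_⟩, fun v => ?_, fun v => ?_⟩
  · by_cases h0 : v = 0
    · simp [h0]
    · rw [if_neg h0, if_neg (ac_ne h0), ← r.eqv g v, mul_assoc (e g * τ v), ← map_inv, ← aw.cen]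
      group
  · rw [if_neg (li_ne l), if_neg (li_ne (li_symm l))]
    have h1 : TT u * m2 u v 1 1 β * (TT v)⁻¹ = qq (β • v) u := by
      rw [m2, ← mul_assoc, ← mul_assoc, Tc_sq, one_mul, qq_conj _ (hf_sm h β), ac_Tc_fix 1 h,
        ac_Tc_fix 1 (by rw [hf_smul_left, hf_self, mul_zero])]
    calc _ = τ u * t * (τ u)⁻¹ * cm (τ u) (τ v) * (τ v * t * (τ v)⁻¹)⁻¹ := by simp only [cm]; group
      _ = t * e (TT u * m2 u v 1 1 β * (TT v)⁻¹) * t⁻¹ := by
        rw [tt, tt, k u v h l, map_mul, map_mul, map_inv]; group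
      _ = _ := by rw [ct, h1]
  · by_cases h0 : v = 0
    · simp [h0]
    · simp only [if_neg h0]
      rw [← tt v]; group
  · by_cases h0 : v = 0
    · simp [h0]
    · simp only [if_neg h0]
      calc _ = τ v * t * (τ v)⁻¹ * (τ v * τ v) * t := by group
        _ = t * e (TT v * Tc ρ v) * t⁻¹ := by
          rw [tt, sq, map_mul, inv_eq_of_mul_eq_one_right aw.tt]; group
        _ = _ := by rw [ct, Tc_mul]

end H6.Sp3T1a
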