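import Cfsg.Agent.H67.P6.H67_SWDef

namespace H73 end H73
open H73
namespace H98 end H98
open H98
namespace H85.P6 end H85.P6
open H85.P6
namespace H85.P6.H73 end H85.P6.H73
open H85.P6.H73
namespace H85.P6.H73.SwNK end H85.P6.H73.SwNK
open H85.P6.H73.SwNK
namespace H85.P6.H98 end H85.P6.H98
open H85.P6.H98
namespace H67.P6


/-! STD-SP (row S3129), wreath endgame, slot `NK`. -/

set_option autoImplicit false
set_option linter.unusedSectionVars false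

namespace H73.SwNK
export H64.SG (cjs)
export H67.SA (mem_cjs)
export H98 (conj_mem_of_mem_normalizer)

open H64.SG (Cz Cs Ns cjs Is2 Inv2 UF mem_Cs mem_Cz)
open H67.SA (St cI cm mem_cjs conj_mem_cjs cm_eq_one)
open H59.SO hiding GW
open H86.WR (GW EE cj_comm odd_nor fix_both)
open H67.SW (WG N2 NK NO TO JobNK)
open Subgroup Function H98

universe u

section Tv

variable {G : Type u} [Group G] {A B A' B' : Subgroup G} {g s : G}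

/-- The elements that normalise `B` and act trivially on `A` modulo `B`. -/
def Tv (A B : Subgroup G) : Subgroup G where
  carrier := {s | s ∈ Ns B ∧ ∀ x ∈ A, cm s x ∈ B}
  one_mem' := ⟨one_mem _, fun x _ => by simp [cm]⟩
  mul_mem' := fun {s s'} h h' => ⟨mul_mem h.1 h'.1, fun x hx => by
    have := mul_mem (conj_mem_of_mem_normalizer h.1 (h'.2 x hx)) (h.2 x hx)
    rwa [show s * cm s' x * s⁻¹ * cm s x = cm (s * s') x by unfold cm; group] at this⟩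
  inv_mem' := fun {s} h => ⟨inv_mem h.1, fun x hx => by
    have := conj_mem_of_mem_normalizer (inv_mem h.1) (inv_mem (h.2 x hx))
    rwa [show s⁻¹ * (cm s x)⁻¹ * s⁻¹⁻¹ = cm s⁻¹ x by unfold cm; group] at this⟩

theorem ns_cj (h : cjs g B = B') (hs : s ∈ Ns B) : g * s * g⁻¹ ∈ Ns B' := by
  rw [← h, ← H64.SG.cj_Ns]; exact conj_mem_cj hs

theorem cs_cj (h : cjs g B = B') (hs : s ∈ Cs B) : g * s * g⁻¹ ∈ Cs B' := by
  rw [← h, ← H64.SG.cj_Cs]; exact conj_mem_cj hs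

theorem tv_cj (h : cjs g A = A') (h' : cjs g B = B') (hs : s ∈ Tv A B) :
    g * s * g⁻¹ ∈ Tv A' B' := by
  refine ⟨ns_cj h' hs.1, fun x hx => ?_⟩
  rw [← h, mem_cjs] at hx
  have := (conj_mem_cjs (g := g)).2 (hs.2 _ hx)
  rwa [h', show g * cm s (g⁻¹ * x * g) * g⁻¹ = cm (g * s * g⁻¹) x by unfold cm; group] at this

end Tv

variable {X : Type} [Group X] [Finite X] {U D A : Subgroup X} {G : Type u} [Group G]
  [Finite G] {e e₁ e₂ : X →* G} {t n g : G}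

theorem u_cs {a : X} (ha : a ∈ U) : a ∈ Cs (U ⊓ Cs U) := fun y hy => (hy.2 a ha).symm

theorem z_ns {h : X} (hh : h ∈ Ns U) : h ∈ Ns (U ⊓ Cs U) := mem_normalizer_of_cj_le (by
  rintro _ ⟨y, hy, rfl⟩
  exact ⟨conj_mem_of_mem_normalizer hh hy.1,
    conj_mem_of_mem_normalizer (normalizer_le_normalizer_centralizer _ hh) hy.2⟩)

theorem tv_of (c : CW e t e₁ e₂) (h1 : g ∈ Cs (U.map e₁)) (h2 : g ∈ Ns ((U ⊓ Cs U).map e₂)) :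
    g ∈ Tv (EE U e₁ e₂) ((U ⊓ Cs U).map e₂) := by
  refine ⟨h2, fun x hx => ?_⟩
  obtain ⟨a, ha, b, hb, rfl⟩ := c.mem_sup.1 hx
  have k : cm g (e₂ b) ∈ (U ⊓ Cs U).map e₂ :=
    mul_mem (conj_mem_of_mem_normalizer h2 ⟨b, hb, rfl⟩) (inv_mem ⟨b, hb, rfl⟩)
  have k2 := conj_mem_of_mem_normalizer
    (H64.SG.Cs_le_Ns _ (Cs_range_le (U ⊓ Cs U) (c.le_Cs' ⟨a, rfl⟩))) k
  rwa [show e₁ a * cm g (e₂ b) * (e₁ a)⁻¹ = cm g (e₁ a * e₂ b) by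
    unfold cm
    rw [← mul_assoc g, ← h1 _ ⟨a, ha, rfl⟩]; group] at k2

theorem n2 (c : CW e t e₁ e₂) (h : N2 U e₁ e₂)
    (h1 : ∀ u ∈ U, cm g (e₁ u) ∈ (U ⊓ Cs U).map e₂) (h2 : ∀ u ∈ U, cm g (e₂ u) ∈ (U ⊓ Cs U).map e₁)
    (h3 : g ∈ Cs ((U ⊓ Cs U).map e₁)) (h4 : g ∈ Cs ((U ⊓ Cs U).map e₂)) :
    g ∈ Ns (G12 e₁ e₂) ∧ (Odd (orderOf g) → g ∈ Cs (two e₁ e₂ U)) := by
  refine h g (fun x hx => ?_) ((centralizer_sup _ _).ge ⟨h3, h4⟩)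
  obtain ⟨a, ha, b, hb, rfl⟩ := c.mem_two.1 hx
  have k := conj_mem_of_mem_normalizer (H64.SG.Cs_le_Ns _ (map_mem_Cs (e := e₁) (u_cs ha))) (h2 b hb)
  rw [show cm g (e₁ a * e₂ b) = cm g (e₁ a) * (e₁ a * cm g (e₂ b) * (e₁ a)⁻¹) by unfold cm; group]
  exact mul_mem (mem_sup_right (h1 a ha)) (mem_sup_left k)

theorem n2' (c : CW e t e₁ e₂) (h : N2 U e₁ e₂) (h1 : g ∈ Tv (EE U e₁ e₂) ((U ⊓ Cs U).map e₂))
    (h2 : g ∈ Tv (EE U e₂ e₁) ((U ⊓ Cs U).map e₁))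
    (h3 : g ∈ Cs ((U ⊓ Cs U).map e₁)) (h4 : g ∈ Cs ((U ⊓ Cs U).map e₂)) : g ∈ Ns (G12 e₁ e₂) :=
  (n2 c h (fun u hu => h1.2 _ (mem_sup_left ⟨u, hu, rfl⟩))
    (fun u hu => h2.2 _ (mem_sup_left ⟨u, hu, rfl⟩)) h3 h4).1

theorem n2_symm (h : N2 U e₁ e₂) : N2 U e₂ e₁ := by
  unfold N2 at h ⊢
  rwa [two_comm U, two_comm (U ⊓ Cs U), G12_comm]

/-- The action of `n` on `U₁`. -/
structure Ac (U : Subgroup X) (e₁ e₂ : X →* G) (n : G) (θ ζ : X → X) : Prop where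
  aut : AutOn U θ
  z : ∀ u ∈ U, ζ u ∈ U ⊓ Cs U
  u : ∀ u ∈ U, n * e₁ u * n⁻¹ = e₁ (θ u) * e₂ (ζ u)
  c : ∀ y ∈ U ⊓ Cs U, n * e₁ y * n⁻¹ = e₁ (θ y)

theorem aut_z {θ : X → X} (a : AutOn U θ) {y : X} (hy : y ∈ U) : θ y ∈ Cs U ↔ y ∈ Cs U := by
  refine ⟨fun h u hu => a.bij.injOn (mul_mem hu hy) (mul_mem hy hu) ?_, fun h u hu => ?_⟩
  · rw [a.mul u hu y hy, a.mul y hy u hu, h _ (a.bij.mapsTo hu)]
  · obtain ⟨u, hu', rfl⟩ := a.bij.surjOn hu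
    rw [← a.mul u hu' y hy, ← a.mul y hy u hu', h u hu']

theorem ex_ac (w : WG U D A) (c : CW e t e₁ e₂) (hn : n ∈ Ns (two e₁ e₂ U))
    (h : cjs n (U.map e₁) ≤ EE U e₁ e₂) : ∃ θ ζ, Ac U e₁ e₂ n θ ζ := by
  classical
  have h1 : ∀ u ∈ U, ∃ a ∈ U, ∃ z ∈ U ⊓ Cs U, n * e₁ u * n⁻¹ = e₁ a * e₂ z := fun u hu =>
    c.mem_sup.1 (h (conj_mem_cjs.2 ⟨u, hu, rfl⟩))
  choose! θ h2 ζ h3 h4 using h1
  have h5 : ∀ u ∈ ⁅U, U⁆, n * e₁ u * n⁻¹ = e₁ (θ u) := fun u hu => by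
    obtain ⟨a, -, ha⟩ := cj_comm c h (conj_mem_cjs.2 ⟨u, hu, rfl⟩)
    rw [← (c.inj2 w.ns (a := a) (b := 1) (c := θ u) (d := ζ u) (by
      rw [map_one, mul_one, ha, ← h4 u (commutator_le_self _ hu)])).1, ha]
  have h6 : Set.InjOn θ U := fun u hu v hv h6 => by
    have k0 := mul_mem (inv_mem hu) hv
    have k1 : n * e₁ (u⁻¹ * v) * n⁻¹ = e₂ ((ζ u)⁻¹ * ζ v) := by
      rw [map_mul, map_inv, ← conj_mul, ← conj_inv, h4 u hu, h4 v hv, h6, map_mul, map_inv]; group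
    have k2 : u⁻¹ * v ∈ Cs U := fun a ha => (e_comm_iff c.inj).1 (by
      obtain ⟨b, -, d, hd, k3⟩ := c.mem_two.1 (conj_mem_of_mem_normalizer hn (mem_sup_left ⟨a, ha, rfl⟩))
      have : n * e₁ a * n⁻¹ * (n * e₁ (u⁻¹ * v) * n⁻¹) = n * e₁ (u⁻¹ * v) * n⁻¹ * (n * e₁ a * n⁻¹) := by
        rw [k1, k3, mul_assoc, ← map_mul, (mul_mem (inv_mem (h3 u hu)) (h3 v hv)).2 d hd, map_mul,
          ← mul_assoc, c.comm, mul_assoc]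
      rwa [conj_mul, conj_mul, mul_left_inj, mul_right_inj] at this)
    have k3 := h5 _ (w.zd ⟨k0, k2⟩)
    have k4 := c.eq_one w.ns ⟨_, k3.symm⟩ ⟨_, k1.symm⟩
    exact inv_mul_eq_one.1 ((map_eq_one_iff _ c.inj).1 (conj_eq_one_iff.1 k4))
  exact ⟨θ, ζ, ⟨((Set.toFinite _).injOn_iff_bijOn_of_mapsTo h2).1 h6, fun a ha b hb =>
    (c.inj2 w.ns (b := ζ (a * b)) (d := ζ a * ζ b) (by
      rw [← h4 _ (mul_mem ha hb), ← c.mul_mul, ← h4 a ha, ← h4 b hb, conj_mul, map_mul])).1⟩,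
    h3, h4, fun y hy => h5 y (w.zd hy)⟩

variable {θ ζ θ' ζ' : X → X}

theorem Ac.nz (a : Ac U e₁ e₂ n θ ζ) : n ∈ Ns ((U ⊓ Cs U).map e₁) := mem_normalizer_of_cj_le (by
  rintro _ ⟨_, ⟨y, hy, rfl⟩, rfl⟩
  exact ⟨θ y, ⟨a.aut.bij.mapsTo hy.1, (aut_z a.aut hy.1).2 hy.2⟩, (a.c y hy).symm⟩)

theorem Ac.ne (h : cjs n (U.map e₁) ≤ EE U e₁ e₂) (a' : Ac U e₂ e₁ n θ' ζ') :
    n ∈ Ns (EE U e₁ e₂) :=
  mem_normalizer_of_cj_le ((cj_sup _ _ _).le.trans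
    (sup_le h ((cj_eq_self a'.nz).le.trans le_sup_right)))

theorem Ac.id (w : WG U D A) (c : CW e t e₁ e₂) (no : NO U) (ho : Odd (orderOf n))
    (a : Ac U e₁ e₂ n θ ζ) (a' : Ac U e₂ e₁ n θ' ζ') : ∀ u ∈ U, θ u = u := by
  have key : ∀ j : ℕ, ∀ u ∈ U, θ^[j] u ∈ U ∧ ∃ y ∈ U ⊓ Cs U,
      n ^ j * e₁ u * (n ^ j)⁻¹ = e₁ (θ^[j] u) * e₂ y := fun j u hu => by
    induction j with
    | zero => exact ⟨hu, 1, one_mem _, by simp⟩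
    | succ j ih =>
      obtain ⟨h1, y, hy, h2⟩ := ih
      rw [iterate_succ_apply']
      refine ⟨a.aut.bij.mapsTo h1, ζ (θ^[j] u) * θ' y, mul_mem (a.z _ h1)
        ⟨a'.aut.bij.mapsTo hy.1, (aut_z a'.aut hy.1).2 hy.2⟩, ?_⟩
      rw [map_mul, ← mul_assoc, ← a.u _ h1, ← a'.c y hy, conj_mul, ← h2, pow_succ']
      group
  refine no θ _ a.aut ho fun u hu => ?_
  obtain ⟨-, y, -, h⟩ := key (orderOf n) u hu
  rw [pow_orderOf_eq_one, one_mul, inv_one, mul_one] at h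
  exact (c.inj2 w.ns (a := u) (b := 1) (c := θ^[orderOf n] u) (d := y)
    (by rw [map_one, mul_one]; exact h)).1.symm

theorem Ac.cm (a : Ac U e₁ e₂ n θ ζ) (c : CW e t e₁ e₂) (h : ∀ u ∈ U, θ u = u) :
    (∀ u ∈ U, cm n (e₁ u) ∈ (U ⊓ Cs U).map e₂) ∧ n ∈ Cs ((U ⊓ Cs U).map e₁) := by
  refine ⟨fun u hu => ⟨ζ u, a.z u hu, ?_⟩, mem_Cs_map.2 fun y hy => ?_⟩
  · unfold H67.SA.cm
    rw [a.u u hu, h u hu, c.comm, mul_inv_cancel_right]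
  · have := a.c y hy
    rw [h y hy.1, mul_inv_eq_iff_eq_mul] at this
    exact this.symm

theorem half (w : WG U D A) (c : CW e t e₁ e₂) (gw : GW D A e t e₁ e₂) (hN : N2 U e₁ e₂) (tor : TO U)
    (h1 : cjs n (U.map e₁) ≤ EE U e₁ e₂) (h2 : cjs n (U.map e₂) ≤ EE U e₂ e₁)
    (a : Ac U e₁ e₂ n θ ζ) (a' : Ac U e₂ e₁ n θ' ζ') : n ∈ Ns (U.map e₂) := by
  have tt := gw.uf.inv.1
  have t1 : t⁻¹ = t := inv_eq_of_mul_eq_one_right tt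
  have c' := c.symm tt
  suffices hz : ∀ u ∈ U, ζ' u = 1 by
    refine mem_normalizer_of_cj_le ?_
    rintro _ ⟨_, ⟨u, hu, rfl⟩, rfl⟩
    refine ⟨θ' u, a'.aut.bij.mapsTo hu, ?_⟩
    have := a'.u u hu
    rw [hz u hu, map_one, mul_one] at this
    exact this.symm
  intro u0 hu0
  by_contra w1
  obtain ⟨z, z1, z2⟩ := a.aut.bij.surjOn (a'.z u0 hu0).1
  have z3 : z ∈ U ⊓ Cs U := ⟨z1, (aut_z a.aut z1).1 (z2 ▸ (a'.z u0 hu0).2)⟩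
  have z4 : n * e₁ z * n⁻¹ = e₁ (ζ' u0) := z2 ▸ a.c z z3
  have z0 : z ≠ 1 := fun k => w1 ((map_eq_one_iff _ c.inj).1 (by rw [← z4, k]; simp))
  obtain ⟨h, hh, ho, hz, hβ⟩ := tor z z3 z0
  have cs2 : ∀ x, ∀ B : Subgroup X, e₁ x ∈ Cs (B.map e₂) := fun x B =>
    Cs_range_le B (c.le_Cs' ⟨x, rfl⟩)
  -- the element `r`
  have r0 : Odd (orderOf (n * e₁ h * n⁻¹)) := by
    have := orderOf_injective _ (inj_cje c.inj n) h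
    rw [cje_apply] at this
    rwa [this]
  have r1 : n * e₁ h * n⁻¹ ∈ Ns (EE U e₁ e₂) :=
    ns_cj (cj_eq_self (Ac.ne h1 a')) (mem_normalizer_of_cj_le ((cj_sup _ _ _).le.trans
      (sup_le_sup (cj_eq_self (map_mem_Ns hh)).le (cj_eq_self (H64.SG.Cs_le_Ns _ (cs2 h _))).le)))
  have r2 : n * e₁ h * n⁻¹ ∈ Cs ((U ⊓ Cs U).map e₂) := cs_cj (cj_eq_self a'.nz) (cs2 h _)
  have r3 : n * e₁ h * n⁻¹ ∈ Tv (EE U e₂ e₁) ((U ⊓ Cs U).map e₁) :=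
    tv_cj (cj_eq_self (Ac.ne h2 a)) (cj_eq_self a.nz) (tv_of c' (cs2 h _) (map_mem_Ns (z_ns hh)))
  have r4 : ∀ y ∈ U ⊓ Cs U, n * e₁ h * n⁻¹ * e₁ (θ y) * (n * e₁ h * n⁻¹)⁻¹ =
      n * e₁ (h * y * h⁻¹) * n⁻¹ := fun y hy => by
    rw [← a.c y hy, map_mul, map_mul, map_inv]; group
  have r5 : n * e₁ h * n⁻¹ * (e₁ (ζ' u0) * e₂ (θ' u0)) * (n * e₁ h * n⁻¹)⁻¹ =
      e₁ (ζ' u0) * e₂ (θ' u0) := by
    rw [c.comm, ← a'.u u0 hu0, conj_mul, c.comm, ← conj_mul, mul_inv_cancel_right]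
  generalize n * e₁ h * n⁻¹ = r at r0 r1 r2 r3 r4 r5
  have e12 : cjs t (EE U e₁ e₂) = EE U e₂ e₁ :=
    (cj_sup _ _ _).trans (congrArg₂ _ (c.cjs_map _) (c'.cjs_map _))
  have e21 : cjs t (EE U e₂ e₁) = EE U e₁ e₂ :=
    (cj_sup _ _ _).trans (congrArg₂ _ (c'.cjs_map _) (c.cjs_map _))
  have s1 := ns_cj e12 r1
  have s2 := cs_cj (c'.cjs_map _) r2
  have s3 := tv_cj e21 (c.cjs_map _) r3
  have k1 : r * (t * r * t⁻¹) ∈ Ns (G12 e₁ e₂) := gw.uf.uf _ (by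
    have : r * (t * r * t⁻¹) * t * (r * (t * r * t⁻¹))⁻¹ = cm r (t * r * t⁻¹) * t := by
      simp only [H67.SA.cm, mul_inv_rev, t1, mul_assoc]
      rw [← mul_assoc t t, tt, one_mul, mul_one]
    rw [this]
    refine mul_mem ?_ gw.uf.mem
    generalize t * r * t⁻¹ = s at s1 s2 s3
    have as : cm r s = r * (s * r⁻¹ * s⁻¹) := by unfold H67.SA.cm; group
    refine n2' c hN ?_ ?_ ?_ ?_
    · exact mul_mem (tv_cj (cj_eq_self r1) (cj_eq_self (H64.SG.Cs_le_Ns _ r2)) s3) (inv_mem s3)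
    · rw [as]
      exact mul_mem r3 (tv_cj (cj_eq_self s1) (cj_eq_self (H64.SG.Cs_le_Ns _ s2)) (inv_mem r3))
    · exact mul_mem (cs_cj (cj_eq_self r3.1) s2) (inv_mem s2)
    · rw [as]
      exact mul_mem r2 (cs_cj (cj_eq_self s3.1) (inv_mem r2)))
  generalize t * r * t⁻¹ = s at s1 s2 s3 k1
  have k2 : r * s ∈ Ns ((U ⊓ Cs U).map e₁) := mul_mem r3.1 (H64.SG.Cs_le_Ns _ s2)
  have k3 : r * s ∈ Ns ((U ⊓ Cs U).map e₂) := mul_mem (H64.SG.Cs_le_Ns _ r2) s3.1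
  obtain ⟨k4, -⟩ := (gw.pm _ k1).resolve_right fun k => z0 ((map_eq_one_iff _ c.inj).1
    (conj_eq_one_iff.1 (c.eq_one w.ns
      (map_le_range _ _ (conj_mem_of_mem_normalizer k2 ⟨z, z3, rfl⟩))
      (k.1 ▸ conj_mem_cjs.2 ⟨z, rfl⟩))))
  obtain ⟨β, i⟩ := exists_ind c.inj k4
  obtain ⟨x, rfl⟩ := hβ θ a.aut β fun y hy k => c.inj (by
    have k5 : s * e₁ (θ y) * s⁻¹ = e₁ (θ y) := by
      rw [← s2 _ ⟨θ y, ⟨a.aut.bij.mapsTo hy.1, (aut_z a.aut hy.1).2 hy.2⟩, rfl⟩,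
        mul_inv_cancel_right]
    rw [← i, show r * s * e₁ (θ y) * (r * s)⁻¹ = r * (s * e₁ (θ y) * s⁻¹) * r⁻¹ by group, k5,
      r4 y hy, k, mul_inv_cancel_right, a.c y hy])
  have k5 : (e₁ x)⁻¹ * (r * s) ∈ Cs e₁.range := ind_one_iff.1 (by
    simpa using (ind_conj (e := e₁) x).inv.mul i)
  have k6 : (e₁ x)⁻¹ ∈ Ns ((U ⊓ Cs U).map e₁) := by
    have := mul_mem (H64.SG.Cs_le_Ns _ (Cs_range_le (U ⊓ Cs U) k5)) (inv_mem k2)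
    rwa [mul_inv_cancel_right] at this
  have as : (e₁ x)⁻¹ * r = (e₁ x)⁻¹ * (r * s) * s⁻¹ := by group
  have k7 : (e₁ x)⁻¹ * r ∈ Ns (G12 e₁ e₂) := by
    refine n2' c hN ?_ (mul_mem (tv_of c' (inv_mem (cs2 x _)) k6) r3) ?_
      (mul_mem (inv_mem (cs2 x _)) r2)
    · rw [as]
      exact mul_mem (tv_of c (Cs_range_le _ k5)
        (mul_mem (inv_mem (H64.SG.Cs_le_Ns _ (cs2 x _))) k3)) (inv_mem s3)
    · rw [as]
      exact mul_mem (Cs_range_le _ k5) (inv_mem s2)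
  have k8 : r ∈ Ns (G12 e₁ e₂) :=
    (mul_mem_cancel_left (inv_mem (le_normalizer
      (show e₁ x ∈ G12 e₁ e₂ from mem_sup_left ⟨x, rfl⟩)))).1 k7
  obtain ⟨k9, k10⟩ := odd_nor gw.toW0 k8 r0
  have k11 := (fix_both w.ns c k9 k10 r5).1
  rw [← z2, r4 z z3, ← a.c z z3, mul_left_inj, mul_right_inj] at k11
  exact hz (mul_inv_eq_iff_eq_mul.1 (c.inj k11))

theorem jobNK : JobNK.{u} := by
  intro X _ _ U D A w G _ _ e t b e₁ e₂ c gw hN n hn ho h1 h2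
  have c' := c.symm b.inv.1
  obtain ⟨θ, ζ, a⟩ := ex_ac w c hn h1
  obtain ⟨θ', ζ', a'⟩ := ex_ac w c' (by rwa [two_comm]) h2
  rcases w.tor with no | tor
  · obtain ⟨k1, k2⟩ := a.cm c (Ac.id w c no ho a a')
    obtain ⟨k3, k4⟩ := a'.cm c' (Ac.id w c' no ho a' a)
    have := (n2 c hN k1 k3 k2 k4).2 ho
    exact ⟨H64.SG.Cs_le_Ns _ (fun g hg => this g (mem_sup_left hg)),
      H64.SG.Cs_le_Ns _ (fun g hg => this g (mem_sup_right hg))⟩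
  · exact ⟨half w c' (gw.symm c) (n2_symm hN) tor h2 h1 a' a, half w c gw hN tor h1 h2 a a'⟩

end H73.SwNK
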