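import Cfsg.Agent.H67.P6.H74_SP3T4

namespace H57 end H57
open H57
namespace H74 end H74
open H74
namespace H85.P6 end H85.P6
open H85.P6
namespace H85.P6.H57 end H85.P6.H57
open H85.P6.H57
namespace H85.P6.H74 end H85.P6.H74
open H85.P6.H74
namespace H85.P6.H74.SP3 end H85.P6.H74.SP3
open H85.P6.H74.SP3
namespace H67.P6


/-! STD-SP (row S3129), chapter III, slot `T1b`: the elements `τ (a • u)` commute. -/

set_option autoImplicit false
set_option linter.unusedSectionVars false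

namespace H74.SP3

open Matrix H57 Subgroup H67.UA H67.SP
open H67.SA (cm)
open H72.SPF (hs hr cc sh0 nli li_ac hx aE aT mE' sqE jT ac_ne)

universe u

/-- a biadditive alternating map that is homogeneous of degree two vanishes -/
theorem g_zero {F : Type} [Field F] [CharP F 2] [Finite F] (g : F → F → F)
    (h1 : ∀ c a b, g c (a + b) = g c a + g c b) (h2 : ∀ a b, g a b = g b a) (h3 : g 1 1 = 0)
    (h4 : ∀ l a b, l ≠ 0 → g (l * a) (l * b) = l ^ 2 * g a b) (r : F) : g 1 r = 0 := by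
  have t := two0 F
  have k : ∀ r, r ≠ 0 → g 1 r = r ^ 2 * g 1 r⁻¹ := fun r hr => by
    rw [← h4 _ _ _ hr, mul_one, mul_inv_cancel₀ hr, h2]
  obtain ⟨s, rfl⟩ : ∃ s, r = s ^ 2 := ⟨rt r, (rt_sq r).symm⟩
  obtain rfl | h0 := eq_or_ne s 0
  · simpa using h1 1 0 0
  obtain rfl | h5 := eq_or_ne s 1
  · simpa using h3
  have h6 : s + 1 ≠ 0 := fun e => h5 (by linear_combination e - t)
  have k1 := k s h0
  have k2 := k (s + 1) h6
  have k3 := k (s * (s + 1)) (mul_ne_zero h0 h6)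
  rw [show (s * (s + 1))⁻¹ = s⁻¹ + (s + 1)⁻¹ by field_simp; linear_combination -s * t, h1,
    show s * (s + 1) = s ^ 2 + s by ring, h1] at k3
  rw [h1, h3] at k2
  linear_combination k3 - (s + 1) ^ 2 * k1 - s ^ 2 * k2 + (s ^ 2 + s) * g 1 s * t

variable {n : ℕ} {F : Type} [Field F] [StarRing F] [TrivialStar F] [CharP F 2] [Finite F] [FV n F]
  {G : Type u} [Group G] {e : XU n F →* G} {t : G} {τ : Vn n F → G} {β ρ : F}

theorem pu (u : Vn n F) (c d : F) : hf (c • u) (d • u) = 0 := pl (pr (hx u) d) c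

theorem fs {p : XU n F} {u : Vn n F} (h : ac p u = u) (a : F) : ac p (a • u) = a • u := by
  rw [ac_smul, h]

theorem tc_inj (w : AW e t) {u : Vn n F} (hu : u ≠ 0) {a b : F} (h : e (Tc a u) = e (Tc b u)) :
    a = b := by
  have := Tc_eq_one hu (hx u) (star_trivial (a + b)) (by
    rw [← ta, w.inj h, ta, cc, Tc, EE_zero])
  linear_combination this - b * two0 F

theorem tconj (r : R0 e τ) (ht : Tt e τ t) {x : Vn n F} {p : XU n F} (h : ac p x = x) :
    τ x * (t * e p) * (τ x)⁻¹ = t * e (Tc 1 x * p) := by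
  calc _ = τ x * t * (τ x)⁻¹ * (τ x * e p * (τ x)⁻¹) := by group
    _ = _ := by rw [ht, ← r.fix h, mul_inv_cancel_right, map_mul, mul_assoc]

theorem three {a b c x y z : G} (h1 : x * b = b * x) (h2 : x * c = c * x) (h3 : y * c = c * y) :
    a * x * (b * y) * (c * z) = a * b * c * (x * y * z) := by
  calc _ = a * (x * b) * (y * c) * z := by group
    _ = a * b * (x * c) * y * z := by rw [h1, h3]; group
    _ = _ := by rw [h2]; group

theorem cm_ex (w : AW e t) (r : R0 e τ) (ht : Tt e τ t) (hq : Sq e τ ρ) {u : Vn n F} (hu : u ≠ 0)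
    (a b : F) : ∃ g, cm (τ (a • u)) (τ (b • u)) = e (Tc g u) := by
  obtain rfl | ha := eq_or_ne a 0
  · exact ⟨0, by simp [r.zero, cm]⟩
  have k : ∀ c d : F, τ (c • u) * τ (d • u) * t * (τ (c • u) * τ (d • u))⁻¹ =
      t * e (Tc (c ^ 2 + d ^ 2) u) := fun c d => by
    calc _ = τ (c • u) * (τ (d • u) * t * (τ (d • u))⁻¹) * (τ (c • u))⁻¹ := by group
      _ = _ := by rw [ht, tconj r ht (fT 1 (pu u c d)), ts, ts, ta, mul_one, mul_one]
  have c0 : ∀ {p}, ac p u = u → ∀ c : F, Commute (τ (c • u)) (e p) := fun h c =>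
    (r.fix (fs h c)).symm
  have c1 : ∀ {p}, ac p u = u → Commute (cm (τ (a • u)) (τ (b • u))) (e p) := fun h =>
    (((c0 h a).mul_left (c0 h b)).mul_left (c0 h a).inv_left).mul_left (c0 h b).inv_left
  obtain ⟨g, hg | hg⟩ := w.v1 (cm (τ (a • u)) (τ (b • u))) u hu (by
    have k1 := k a b
    have k2 := k b a
    rw [add_comm (b ^ 2), ← k1] at k2
    have k3 : ∀ x y : G, y * x * t * (y * x)⁻¹ = x * y * t * (x * y)⁻¹ →
        ∀ s, s = x * y * t * (x * y)⁻¹ → cm x y * s = s * cm x y := fun x y h s hs => by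
      calc cm x y * s = cm x y * (y * x * t * (y * x)⁻¹) := by rw [h, hs]
        _ = x * y * t * (x * y)⁻¹ * cm x y := by rw [cm]; group
        _ = _ := by rw [hs]
    have k4 := k3 _ _ k2 _ k1.symm
    rw [← mul_assoc, mul_assoc t, ← (c1 (fT _ (hx u))).eq, ← mul_assoc, mul_left_inj] at k4
    exact k4) fun p hp => (c1 hp).eq
  · exact ⟨g, hg⟩
  exfalso
  have q : τ (a • u) * τ (a • u) * τ (b • u) = τ (b • u) * (τ (a • u) * τ (a • u)) := by
    rw [hq]; exact r.fix (fT _ (pu u b a))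
  have q1 : τ (a • u) * cm (τ (a • u)) (τ (b • u)) * (τ (a • u))⁻¹ * cm (τ (a • u)) (τ (b • u)) = 1 := by
    calc _ = τ (a • u) * τ (a • u) * τ (b • u) * (τ (a • u) * τ (a • u))⁻¹ * (τ (b • u))⁻¹ := by
          rw [cm]; group
      _ = _ := by rw [q]; group
  rw [hg, tconj r ht (fT _ (pl (hx u) a)), w.cen, mul_assoc, ← mul_assoc t, w.tt, one_mul,
    ← map_mul, mul_assoc, ta, cc, show Tc 0 u = 1 from EE_zero u, mul_one, ← map_one e] at q1
  exact one_ne_zero (Tc_eq_one (smul_ne_zero ha hu) (hx _) (star_one F) (w.inj q1))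

variable [FW n F] [H67.SP.Par n F]

theorem d_ex (w : AW e t) (h : R1a e τ β) (ht : Tt e τ t) {u : Vn n F} (hu : u ≠ 0) (a b : F) :
    ∃ g, τ (a • u) * τ (b • u) * τ ((a + b) • u) = e (Tc g u) := by
  have r := h.toR0
  have c0 : ∀ {p}, ac p u = u → ∀ c : F, Commute (τ (c • u)) (e p) := fun h c =>
    (r.fix (fs h c)).symm
  obtain ⟨g, hg | hg⟩ := w.v1 (τ (a • u) * τ (b • u) * τ ((a + b) • u)) u hu (by
    rw [← mul_inv_eq_iff_eq_mul]
    calc _ = τ (a • u) * (τ (b • u) * (τ ((a + b) • u) * t * (τ ((a + b) • u))⁻¹) * (τ (b • u))⁻¹) *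
          (τ (a • u))⁻¹ := by group
      _ = _ := by
        rw [ht, tconj r ht (fT 1 (pu u _ _)), ts, ts, ta, tconj r ht (fT _ (pl (hx u) _)),
          ts, ta, show a ^ 2 * 1 + (b ^ 2 * 1 + (a + b) ^ 2 * 1) = 0 by
            linear_combination (a ^ 2 + a * b + b ^ 2) * two0 F, Tc, EE_zero, map_one, mul_one])
    fun p hp => (((c0 hp a).mul_left (c0 hp b)).mul_left (c0 hp (a + b))).eq
  · exact ⟨g, hg⟩
  exfalso
  obtain ⟨v, p, l⟩ := exl hu
  have pq : ∀ c : F, hf (c • u) v = 0 := pl p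
  have k : ∀ c : F, τ v * τ (c • u) * (τ v)⁻¹ = τ (c • u) * e (qq ((β * c) • u) v) := fun c => by
    obtain rfl | hc := eq_or_ne c 0
    · simp [r.zero]
    have := h.cmi v (c • u) (hf_symm (pq c)) (by simpa using li_sm (lis l) one_ne_zero hc)
    rw [cm, mul_inv_eq_iff_eq_mul, smul_smul] at this
    rw [this, (c0 (fE (pq _) 0 p (pr (hx u) _)) c).eq]
  have m : ∀ c d : F, e (qq (c • u) v) * e (qq (d • u) v) = e (qq ((c + d) • u) v) := fun c d => by
    rw [← map_mul, mE' (pq c) (pq d), pu, add_smul, add_zero, add_zero]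
  have c1 : ∀ c d : F, e (qq (c • u) v) * τ (d • u) = τ (d • u) * e (qq (c • u) v) := fun c d =>
    (c0 (fE (pq _) 0 p (pr (hx u) _)) d).eq.symm
  have k1 : τ v * (τ (a • u) * τ (b • u) * τ ((a + b) • u)) * (τ v)⁻¹ =
      τ (a • u) * τ (b • u) * τ ((a + b) • u) := by
    calc _ = τ v * τ (a • u) * (τ v)⁻¹ * (τ v * τ (b • u) * (τ v)⁻¹) *
          (τ v * τ ((a + b) • u) * (τ v)⁻¹) := by group
      _ = _ := by
        rw [k, k, k, three (c1 _ _) (c1 _ _) (c1 _ _), m, m,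
          show β * a + β * b + β * (a + b) = 0 by linear_combination (β * a + β * b) * two0 F]
        simp
  rw [hg, tconj r ht (fT _ (hf_symm p)), mul_right_inj] at k1
  exact one_ne_zero (Tc_eq_one (lin l) (hx _) (star_one F) (mul_eq_right.1 (w.inj k1)))

theorem cm_line (w : AW e t) (h : R1a e τ β) (ht : Tt e τ t) (hq : Sq e τ ρ) {u : Vn n F}
    (hu : u ≠ 0) (c : F) : cm (τ u) (τ (c • u)) = 1 := by
  have r := h.toR0
  choose g hg using cm_ex w r ht hq (ev_ne (K := F) (0 : Fin (n + 1)))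
  have all : ∀ {x : Vn n F}, x ≠ 0 → ∀ a b, cm (τ (a • x)) (τ (b • x)) = e (Tc (g a b) x) :=
    fun hx a b => by
      obtain ⟨p, rfl⟩ := FW.w1 _ hx
      rw [← ac_smul, ← ac_smul, ← r.eqv, ← r.eqv, ← jT, map_mul, map_mul, map_inv, ← hg, cm, cm]
      group
  have c0 : ∀ a c : F, e (Tc a u) * τ (c • u) = τ (c • u) * e (Tc a u) := fun a c =>
    r.fix (fT _ (pl (hx u) c))
  have z := g_zero g (fun c a b => by
      obtain ⟨d, hd⟩ := d_ex w h ht hu a b
      have k : ∀ a : F, τ (c • u) * τ (a • u) * (τ (c • u))⁻¹ = τ (a • u) * e (Tc (g c a) u) :=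
        fun a => by rw [← c0, ← all hu, cm]; group
      have k1 : τ (c • u) * (τ (a • u) * τ (b • u) * τ ((a + b) • u)) * (τ (c • u))⁻¹ =
          τ (a • u) * τ (b • u) * τ ((a + b) • u) * e (Tc (g c a + g c b + g c (a + b)) u) := by
        calc _ = τ (c • u) * τ (a • u) * (τ (c • u))⁻¹ * (τ (c • u) * τ (b • u) * (τ (c • u))⁻¹) *
              (τ (c • u) * τ ((a + b) • u) * (τ (c • u))⁻¹) := by group
          _ = _ := by
            rw [k, k, k, three (c0 _ _) (c0 _ _) (c0 _ _), ← map_mul, ta, ← map_mul, ta]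
      rw [hd, ← c0, mul_inv_cancel_right, ← map_mul, ta] at k1
      linear_combination -tc_inj w hu k1 - (g c a + g c b) * two0 F)
    (fun a b => tc_inj w hu (by
      rw [← _root_.inv_inj, ← all hu, ← map_inv, H72.SPF.inE (by simp), ← all hu, cm, cm]; group))
    (tc_inj w hu (by rw [← all hu, cm]; simp))
    (fun l a b hl => tc_inj w hu (by
      rw [← all hu, ← ts, ← all (smul_ne_zero hl hu), smul_smul, smul_smul, mul_comm a, mul_comm b]))
    c
  have := all hu 1 c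
  rwa [z, one_smul, Tc, EE_zero, map_one] at this

theorem jobT1b : JobT1b.{u} := by
  intro n F _ _ _ _ _ _ G _ _ e t b _ w τ β ρ h ht hq
  refine ⟨h.toR0, fun u v p => ?_⟩
  obtain rfl | hu := eq_or_ne u 0
  · simp [h.zero, cm]
  by_cases l : Li u v
  · exact h.cmi u v p l
  obtain ⟨c, rfl⟩ := nli hu l
  rw [cm_line w h ht hq hu, smul_smul, qq, sh0, Tc, EE_zero, map_one]

end H74.SP3
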