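import Cfsg.Agent.H67.P6.H67_SPIII
import Cfsg.Agent.H85.P6.H72_SPFR

namespace H57 end H57
open H57
namespace H74 end H74
open H74
namespace H85.P6 end H85.P6
open H85.P6
namespace H85.P6.H57 end H85.P6.H57
open H85.P6.H57
namespace H85.P6.H74 end H85.P6.H74
open H85.P6.H74
namespace H85.P6.H74.SP3 end H85.P6.H74.SP3
open H85.P6.H74.SP3
namespace H67.P6


/-! STD-SP (row S3129), chapter III, slot `T4`: the relations inside the totally isotropic
subspaces hold for dependent vectors too. -/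

set_option autoImplicit false
set_option linter.unusedSectionVars false

namespace H74.SP3

open Matrix H57 Subgroup H67.UA H67.SP
open H67.SA (cm)
open H72.SPF (hs hr cc sh0 nli li_ac hx aE aT mE' sqE p10 li01)

universe u

variable {n : ℕ} {F : Type} [Field F] [StarRing F] [TrivialStar F] [CharP F 2] [Finite F] [FV n F]

theorem ts (c a : F) (u : Vn n F) : Tc c (a • u) = Tc (a ^ 2 * c) u := by
  rw [Tc_smul, nm, star_trivial, sq]
theorem ta (a b : F) (u : Vn n F) : Tc a u * Tc b u = Tc (a + b) u :=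
  (Tc_add (hx u) (star_trivial a) (star_trivial b)).symm
theorem fT (c : F) {u y : Vn n F} (h : hf y u = 0) : ac (Tc c u) y = y := by
  rw [aT, h, mul_zero, zero_smul, add_zero]
theorem fE {u x y : Vn n F} (h : hf x u = 0) (c : F) (h1 : hf y u = 0) (h2 : hf y x = 0) :
    ac (EE u x c) y = y := ac_EE_fix (FV.ok u x c h) h1 h2
theorem pl {u v : Vn n F} (h : hf u v = 0) (a : F) : hf (a • u) v = 0 := by
  rw [hf_smul_left, h, mul_zero]
theorem pr {u v : Vn n F} (h : hf u v = 0) (a : F) : hf u (a • v) = 0 := by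
  rw [hr, h, mul_zero]
theorem pa {u v w : Vn n F} (h : hf u v = 0) (h' : hf u w = 0) : hf u (v + w) = 0 := by
  rw [hf_add_right, h, h', add_zero]
theorem lis {u v : Vn n F} (h : Li u v) : Li v u := fun a b e =>
  (h b a (by rwa [add_comm])).symm
theorem lia {u v : Vn n F} (h : Li u v) (c : F) : Li u (v + c • u) := fun a b e => by
  obtain ⟨h1, h2⟩ := h (a + b * c) b (by rw [← e]; module)
  exact ⟨by simpa [h2] using h1, h2⟩
theorem li_sm {u v : Vn n F} (h : Li u v) {a b : F} (ha : a ≠ 0) (hb : b ≠ 0) :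
    Li (a • u) (b • v) :=
  fun c d e => by simpa [ha, hb] using h (c * a) (d * b) (by rwa [mul_smul, mul_smul])
theorem lin {u v : Vn n F} (h : Li u v) : v ≠ 0 := fun e =>
  one_ne_zero (h 0 1 (by simp [e])).2

theorem exl [FW n F] [H67.SP.Par n F] {u : Vn n F} (hu : u ≠ 0) : ∃ v, hf u v = 0 ∧ Li u v := by
  obtain ⟨g, rfl⟩ := FW.w1 u hu
  exact ⟨ac g (ev 1), by rw [hf_ac, hf_symm (by simpa using p10 (n := n) (1 : F))], li_ac g li01⟩

variable {G : Type u} [Group G] {e : XU n F →* G} {τ : Vn n F → G} {β : F}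

theorem sg_fix (h : R0 e τ) {g : XU n F} {u v : Vn n F} (hu : ac g u = u) (hv : ac g v = v) :
    e g * sg e τ β u v = sg e τ β u v * e g := by
  have := h.sg_eqv β g u v
  rwa [hu, hv, mul_inv_eq_iff_eq_mul] at this

theorem ta_eq (h : R0 e τ) (hq : Sq e τ β) {u v : Vn n F} (p : hf u v = 0) :
    τ (u + v) = sg e τ β u v * τ v * τ u := by
  have c1 : e (Tc β u) * τ v = τ v * e (Tc β u) := h.fix (fT β (hf_symm p))
  have c2 : e (Tc β v) * τ v = τ v * e (Tc β v) := h.fix (fT β (hx v))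
  have c3 : e (Tc β u) * τ u = τ u * e (Tc β u) := h.fix (fT β (hx u))
  have q : ∀ w, τ w * τ w * e (Tc β w) = 1 := fun w => by
    rw [hq w, ← map_mul, ta, cc, Tc, EE_zero, map_one]
  calc τ (u + v) = τ (u + v) * (τ u * τ u * e (Tc β u)) := by rw [q, mul_one]
    _ = τ (u + v) * τ u * (τ v * τ v * e (Tc β v)) * (τ u * e (Tc β u)) := by rw [q v]; group
    _ = τ (u + v) * τ u * τ v * (τ v * (e (Tc β v) * e (Tc β u))) * τ u := by rw [← c3]; group
    _ = _ := by
      have c4 : e (Tc β v) * e (Tc β u) = e (Tc β u) * e (Tc β v) := by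
        rw [← hq v, mul_assoc, ← c1, ← mul_assoc, ← c1, mul_assoc]
      rw [H67.SP.sg, map_mul, c4, ← mul_assoc (τ v), ← c1, mul_assoc (e _), ← c2]; group

theorem sg0 (h : R0 e τ) (hq : Sq e τ β) (v : Vn n F) : sg e τ β 0 v = 1 := by
  rw [H67.SP.sg, zero_add, h.zero, mul_one, hq v, show Tc β (0 : Vn n F) = 1 from EE_zero_left _ _,
    one_mul, ← map_mul, ta, cc, Tc, EE_zero, map_one]

section T4

variable (h : R3 e τ β)
include h

theorem phi1 {u v : Vn n F} (p : hf u v = 0) (l : Li u v) (a : F) :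
    sg e τ β u (v + a • u) = sg e τ β u v * e (Tc (β * a) u) := by
  obtain ⟨f, f1, f2⟩ := h.phi
  obtain rfl | ha := eq_or_ne a 0
  · simp
  have hc := rt_ne ha
  have k1 := f2 (rt a • u) v 1 (pl p _) (by simpa using li_sm l hc one_ne_zero)
  have l1 : Li u (rt a • v) := by simpa using li_sm l one_ne_zero hc
  rw [one_smul, h.sscali _ _ _ (pa p (pr (hx u) _)) (lia l _) hc, h.sscali _ _ _ p l hc, smul_add,
    smul_smul, ← sq, rt_sq, f2 _ _ _ (pr p _) l1, mul_right_inj, ts, rt_sq, f1] at k1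
  rw [f2 _ _ _ p l, k1, mul_comm a]

variable [FW n F] [H67.SP.Par n F]

theorem nadd (a b : F) (u : Vn n F) :
    τ (a • u) * τ (b • u) = τ ((a + b) • u) * e (Tc (β * a * b) u) := by
  obtain rfl | hu := eq_or_ne u 0
  · simp [h.zero]
  obtain rfl | ha := eq_or_ne a 0
  · simp [h.zero]
  obtain rfl | hb := eq_or_ne b 0
  · simp [h.zero]
  obtain rfl | hab := eq_or_ne a b
  · rw [cc, zero_smul, h.zero, one_mul, h.sq, ts]; congr 2; ring
  have hab' : a + b ≠ 0 := fun k => hab (by linear_combination k - b * two0 F)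
  obtain ⟨v, p, l⟩ := exl hu
  have r := h.toR2.toR1.toR0
  have lv : ∀ {c : F}, c ≠ 0 → Li v (c • u) := fun hc => by
    simpa using li_sm (lis l) one_ne_zero hc
  have pv : ∀ c : F, hf v (c • u) = 0 := fun c => pr (hf_symm p) c
  have pu : ∀ c d : F, hf (c • u) (d • u) = 0 := fun c d => pl (pr (hx u) d) c
  have e1 := h.saddi v (b • u) (a • u) ⟨pv b, pv a, pu b a⟩ (lv hb) (lv ha)
    (by rw [← add_smul, add_comm b]; exact lv hab')
  have e2 := phi1 h (pl p b) (lis (lv hb)) (a / b)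
  rw [smul_smul, div_mul_cancel₀ a hb, ts, show b ^ 2 * (β * (a / b)) = β * a * b by
    field_simp] at e2
  have e3 := ta_eq r h.sq (pa (pv b) (pv a))
  have e4 := ta_eq r h.sq (pa (pl p b) (pu b a))
  have e5 := ta_eq r h.sq (pv a)
  have e6 := h.ssym (b • u) v (pl p b)
  have e7 := h.cmp (b • u) v (pl p b)
  have pq' : hf (β • v) (b • u) = 0 := pl (pv b) β
  rw [add_left_comm, e3, e1, e2, e5, e6, ← add_smul, add_comm b] at e4
  have c1 : e (Tc (β * a * b) u) * sg e τ β v (a • u) = _ :=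
    sg_fix r (fT _ (hf_symm p)) (fT _ (pl (hx u) a))
  have c2 : e (qq (β • v) (b • u)) * sg e τ β v (a • u) = _ :=
    sg_fix r (fE pq' 0 (pv b) (pr (hx v) β)) (fE pq' 0 (pu a b) (pr (pl p a) β))
  have c3 : ∀ c : F, e (qq (β • v) (b • u)) * τ (c • u) = _ := fun c =>
    r.fix (fE pq' 0 (pu c b) (pr (pl p c) β))
  have c4 : ∀ c : F, e (Tc (β * a * b) u) * τ (c • u) = _ := fun c => r.fix (fT _ (pl (hx u) c))
  have c5 : e (Tc (β * a * b) u) * e (Tc (β * a * b) u) = 1 := by
    rw [← map_mul, ta, cc, Tc, EE_zero, map_one]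
  have c6 : e (qq (β • v) (b • u)) * e (qq (β • v) (b • u)) = 1 := by
    rw [← map_mul, sqE pq', map_one]
  generalize e (Tc (β * a * b) u) = z at *
  generalize e (qq (β • v) (b • u)) = k at *
  have c7 := c3 (a + b)
  have c8 := c3 a
  have c9 := c3 b
  have c11 := c4 (a + b)
  generalize τ ((a + b) • u) = S at *
  generalize τ (a • u) = Y at *
  generalize τ (b • u) = X at *
  generalize sg e τ β v (a • u) = s at *
  generalize sg e τ β (b • u) v = s' at *
  generalize τ v = V at *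
  have d1 : V * X = k * X * V := by
    rw [← mul_right_inj k, mul_assoc k X, ← mul_assoc k k, c6, ← e7, cm]; group
  have d2 : k * s * S * V = z * (s * Y * V) * X := by
    rw [← mul_right_inj s']
    simpa only [mul_assoc] using e4
  have d3 : k * S = z * Y * (k * X) := by
    rw [← mul_left_inj V, ← mul_right_inj s]
    calc _ = k * s * S * V := by rw [c2]; group
      _ = (z * s) * Y * (V * X) := by rw [d2]; group
      _ = _ := by rw [c1, d1]; group
  rw [c7, c9, ← mul_assoc, mul_left_inj] at d3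
  rw [← c11, d3, ← mul_assoc, ← mul_assoc, c5, one_mul]

theorem shift (a : F) (u : Vn n F) : sg e τ β u (a • u) = e (Tc (β * a) u) := by
  have := nadd h 1 a u
  rw [add_smul, one_smul] at this
  rw [H67.SP.sg, mul_assoc (τ _), this, ← mul_assoc, h.sq, show u + a • u = (1 + a) • u by module,
    ts, ts, ← map_mul, ← map_mul, ta, ta, ta]
  congr 2
  linear_combination (β + β * a + a ^ 2 * β) * two0 F

theorem phi2 {u v : Vn n F} (p : hf u v = 0) (a : F) :
    sg e τ β u (v + a • u) = sg e τ β u v * e (Tc (β * a) u) := by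
  have r := h.toR2.toR1.toR0
  obtain rfl | hu := eq_or_ne u 0
  · simp [sg0 r h.sq]
  by_cases l : Li u v
  · exact phi1 h p l a
  obtain ⟨c, rfl⟩ := nli hu l
  rw [← add_smul, shift h, shift h, ← map_mul, ta, mul_add]

theorem sadd (u v w : Vn n F) (p : P3 u v w) :
    sg e τ β u (v + w) = sg e τ β u v * sg e τ β u w := by
  have r := h.toR2.toR1.toR0
  obtain rfl | hu := eq_or_ne u 0
  · simp [sg0 r h.sq]
  by_cases l1 : Li u v
  swap
  · obtain ⟨c, rfl⟩ := nli hu l1
    rw [add_comm, phi2 h p.uw, shift h, sg_fix r (fT _ (hx u)) (fT _ (hf_symm p.uw))]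
  by_cases l2 : Li u w
  swap
  · obtain ⟨c, rfl⟩ := nli hu l2
    rw [phi2 h p.uv, shift h]
  by_cases l3 : Li u (v + w)
  · exact h.saddi u v w p l1 l2 l3
  obtain ⟨c, k⟩ := nli hu l3
  have k' : w = v + c • u := by rw [← k, ← add_assoc, v_add_self, zero_add]
  rw [k, shift h, k', phi2 h p.uv, ← mul_assoc, h.ssq _ _ p.uv, one_mul]

theorem sscal (a : F) (u v : Vn n F) (p : hf u v = 0) :
    sg e τ β (a • u) v = sg e τ β u (a • v) := by
  have r := h.toR2.toR1.toR0
  obtain rfl | hu := eq_or_ne u 0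
  · simp [sg0 r h.sq]
  obtain rfl | ha := eq_or_ne a 0
  · have := shift h 0 u
    simp only [zero_smul, mul_zero, Tc, EE_zero, map_one] at this ⊢
    rw [this, sg0 r h.sq]
  by_cases l : Li u v
  · exact h.sscali a u v p l ha
  obtain ⟨c, rfl⟩ := nli hu l
  have := shift h (c / a) (a • u)
  rw [smul_smul, div_mul_cancel₀ c ha, ts] at this
  rw [this, smul_smul, shift h]
  congr 2
  field_simp

end T4

theorem jobT4 : JobT4.{u} := by
  intro n F _ _ _ _ _ _ b G _ e τ β h
  exact ⟨h.toR2.toR1, h.sq, h.ssq, h.ssym, h.stau, nadd h, sadd h, sscal h, shift h⟩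

end H74.SP3
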