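import Cfsg.Agent.H67.P6.H67_SWDef
import Cfsg.Agent.H84.SfSW

namespace H76 end H76
open H76
namespace H98 end H98
open H98
namespace H85.P6 end H85.P6
open H85.P6
namespace H85.P6.H76 end H85.P6.H76
open H85.P6.H76
namespace H85.P6.H76.SPWSW end H85.P6.H76.SPWSW
open H85.P6.H76.SPWSW
namespace H85.P6.H98 end H85.P6.H98
open H85.P6.H98
namespace H67.P6


/-! STD-SP, wreath endgame: `JobSW`. -/

set_option autoImplicit false
set_option linter.unusedSectionVars false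

namespace H76.SPWSW

open H64.SG (O2 Syl Cz Cs Ns cjs Is2 Inv2 fx mem_Cs mem_Cz mem_fx)
open H59.SO Subgroup Function H98
open H67.SW (WG)
open H84.SfW (ab_card map_le_Cz)
open H86.WR (card_comap_e)

universe u

variable {X : Type} [Group X] [Finite X] {G : Type u} [Group G] [Finite G] {e e₁ e₂ : X →* G}
  {t : G} {U D A : Subgroup X} {β : MulAut X}

theorem card_le (wg : WG U D A) (hk : Injective e) {P : Subgroup G} (h2 : IsPGroup 2 P) :
    Nat.card ↥(P ⊓ e.range) ≤ Nat.card U := by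
  rw [← card_comap_e hk]
  exact (H64.SG.syl_iff.1 wg.syl).card_le (isP_comap hk h2) le_top

theorem inner_sz (wg : WG U D A) {a : X} (h : MulAut.conj a * MulAut.conj a = 1) :
    ∃ P ≤ fx (MulAut.conj a), IsPGroup 2 P ∧
      (2 * Nat.card (Cfsg.Out X)) ^ 2 * Nat.card U < Nat.card P ^ 2 := by
  rw [H64.SG.fx_conj]
  exact wg.sz a (wg.ns.cen _ (by rw [map_mul, h]))

theorem any_sz (wg : WG U D A) (h : β * β = 1) :
    ∃ P ≤ fx β, IsPGroup 2 P ∧ Nat.card U ≤ Nat.card P ^ 2 := by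
  by_cases k : ∃ a, β = MulAut.conj a
  · obtain ⟨a, rfl⟩ := k
    obtain ⟨P, p1, p2, p3⟩ := inner_sz wg h
    have : Finite (Cfsg.Out X) := Finite.of_surjective _ (QuotientGroup.mk'_surjective _)
    have h0 : 0 < Nat.card (Cfsg.Out X) := Nat.card_pos
    exact ⟨P, p1, p2, (Nat.le_mul_of_pos_left _ (by positivity)).trans p3.le⟩
  · exact (wg.ft β h (not_exists.1 k)).2

/-- Two commuting subgroups whose join is a large `2`-group. -/
theorem small (wg : WG U D A) {P Q : Subgroup X} (h2 : IsPGroup 2 ↥(P ⊔ Q))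
    (hc : Nat.card U ≤ Nat.card ↥(P ⊔ Q)) (h : P ≤ Cs Q) :
    Nat.card P ^ 2 < Nat.card U ∨ Nat.card Q ^ 2 < Nat.card U := by
  obtain ⟨g, -, hg⟩ := (H64.SG.syl_iff.1 wg.syl).exists_le_cj h2 le_top
  replace hg : cj g⁻¹ (P ⊔ Q) ≤ U := cj_le_iff.2 (by rwa [inv_inv])
  have e1 : cj g⁻¹ (P ⊔ Q) = U := eq_of_le_of_card_ge hg (by rwa [card_cj])
  rw [cj_sup] at e1
  have l1 : cj g⁻¹ P ≤ U := e1 ▸ le_sup_left
  have l2 : cj g⁻¹ Q ≤ U := e1 ▸ le_sup_right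
  have key : ∀ R : Subgroup X, cj g⁻¹ R ≤ U → cj g⁻¹ R ≤ Cs U → Nat.card R ^ 2 < Nat.card U :=
    fun R r1 r2 => lt_of_le_of_lt (Nat.pow_le_pow_left
      ((card_cj g⁻¹ R).ge.trans (card_le_of_le (le_inf r1 r2))) 2) wg.zc
  exact (wg.ind _ l1 _ l2 e1.ge ((cj_mono _ h).trans (cj_centralizer _ _).le)).imp (key P l1)
    (key Q l2)

section SW

variable (wg : WG U D A) (c : CW e t e₁ e₂) {e' : X →* G} {s : G} (h : CE e' s)
  {β₁ β₂ : MulAut X} (i1 : Ind e₁ s β₁) (i2 : Ind e₂ s β₂)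
include wg c h i1 i2

theorem sw_inner (a : X) : β₁ ≠ MulAut.conj a := by
  rintro rfl
  obtain ⟨P₁, p1, p2, p3⟩ := inner_sz wg (i1.sq c.inj h.inv.1)
  obtain ⟨P₂, r1, r2, r3⟩ := any_sz wg (i2.sq c.inj₂ h.inv.1)
  have k := (ab_card h wg.ns le_rfl (sup_le (map_le_Cz i1 p1) (map_le_Cz i2 r1))
    (c.isP_sup p2 r2)).trans (Nat.mul_le_mul_left _ (card_le wg h.inj (c.isP_sup p2 r2)))
  rw [c.card_sup wg.ns] at k
  have k2 := Nat.pow_le_pow_left k 2
  have u0 : 0 < Nat.card U := Nat.card_pos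
  have k3 := Nat.mul_lt_mul_of_lt_of_le p3 r3 (u0.trans_le r3)
  rw [mul_pow] at k2
  exact k3.not_ge (k2.trans (le_of_eq (by ring)))

theorem sw_outer (k1 : ∀ a, β₁ ≠ MulAut.conj a) (k2 : ∀ a, β₂ ≠ MulAut.conj a) : False := by
  obtain ⟨f1, P₁, p1, p2, p3⟩ := wg.ft _ (i1.sq c.inj h.inv.1) k1
  obtain ⟨f2, P₂, r1, r2, r3⟩ := wg.ft _ (i2.sq c.inj₂ h.inv.1) k2
  have a1 : P₁.map e₁ ≤ e'.range := (map_mono p1).trans (H4.SFAB.pf0 wg.a3 h.b0
    (map_le_Cz i1 le_rfl) (by rw [← map_commutator]; exact map_mono f1))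
  have a2 : P₂.map e₂ ≤ e'.range := (map_mono r1).trans (H4.SFAB.pf0 wg.a3 h.b0
    (map_le_Cz i2 le_rfl) (by rw [← map_commutator]; exact map_mono f2))
  have b1 : Nat.card ((P₁.map e₁).comap e') = Nat.card P₁ := by
    rw [card_comap_e h.inj, inf_eq_left.2 a1, card_map_e c.inj]
  have b2 : Nat.card ((P₂.map e₂).comap e') = Nat.card P₂ := by
    rw [card_comap_e h.inj, inf_eq_left.2 a2, card_map_e c.inj₂]
  have j : (P₁.map e₁).comap e' ⊔ (P₂.map e₂).comap e' = (P₁.map e₁ ⊔ P₂.map e₂).comap e' :=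
    comap_sup_eq_of_le_range e' a1 a2
  have := small wg (P := (P₁.map e₁).comap e') (Q := (P₂.map e₂).comap e')
    (j ▸ isP_comap h.inj (c.isP_sup p2 r2)) (by
      rw [j, card_comap_e h.inj, inf_eq_left.2 (sup_le a1 a2), c.card_sup wg.ns]
      refine (Nat.pow_le_pow_iff_left two_ne_zero).1 ?_
      rw [mul_pow, pow_two]
      exact Nat.mul_le_mul p3 r3)
    (fun a ha b hb => (e_comm_iff h.inj).1
      (c.le_Cs' (map_le_range _ _ ha) _ (map_le_range _ _ hb)))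
  rw [b1, b2] at this
  omega

end SW

theorem jobSW : H67.SW.JobSW.{u} := by
  intro X _ _ U D A wg G _ _ e t h e₁ e₂ c s hs hc
  refine (((H67.SW.w0 X U D A wg G e t h e₁ e₂ c).pm s hs).resolve_left fun k => ?_).1
  obtain ⟨g, rfl⟩ := isConj_iff.1 hc
  obtain ⟨β₁, i1⟩ := exists_ind c.inj k.1
  obtain ⟨β₂, i2⟩ := exists_ind c.inj₂ k.2
  exact sw_outer wg c (h.cje g) i1 i2 (sw_inner wg c (h.cje g) i1 i2)
    (sw_inner wg (c.symm h.inv.1) (h.cje g) i2 i1)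

end H76.SPWSW
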