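import Cfsg.Agent.H67.P6.H67_SWDef

namespace H67 end H67
open H67
namespace H77 end H77
open H77
namespace H85.P6 end H85.P6
open H85.P6
namespace H85.P6.H67 end H85.P6.H67
open H85.P6.H67
namespace H85.P6.H77 end H85.P6.H77
open H85.P6.H77
namespace H85.P6.H77.SWCZ end H85.P6.H77.SWCZ
open H85.P6.H77.SWCZ
namespace H67.P6


/-! Slot CZ of the blueprint `STDSPW.md`. -/

set_option autoImplicit false
set_option linter.unusedSectionVars false

namespace H77.SWCZ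
open H67 H67.SW H67.SP H67.UA Subgroup
open H64.SG (Cz Cs mem_Cz)

variable {n : ℕ} {F : Type} [Field F] [StarRing F] [TrivialStar F] [CharP F 2] [Finite F] [SP.Base n F]

theorem wk_ev {i : Fin (n + 1)} {j : ℕ} (h : i.val < j) (a : F) : Wk j (a • ev i : Vn n F) := fun k hk => by
  rw [Pi.smul_apply, ev_apply, if_neg (by rintro rfl; omega), smul_zero]

theorem hf0 {i j : Fin (n + 1)} (h : i.val + j.val ≠ n) : hf (ev i : Vn n F) (ev j) = 0 := by
  rw [hf_ev, if_neg]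
  rintro rfl
  rw [Fin.val_rev] at h; omega

theorem Q_le {j : ℕ} (hj : 2 * j ≤ n + 1) : SP.Qk n F j ≤ SP.UU n F := fun g hg => by
  obtain ⟨h1, h2⟩ := (FV.mem_Qk j hj g).1 hg
  refine (FV.mem_U g).2 fun i v hv k hk => ?_
  by_cases a : i + 1 ≤ j
  · rw [h1 v fun l hl => hv l (by omega), v_add_self]; rfl
  by_cases b : i + 1 ≤ n + 1 - j
  · exact h2 v (fun l hl => hv l (by omega)) k (by omega)
  refine (FV.wk_perp j (by omega) _).2 (fun w hw => ?_) k (by omega)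
  rw [hf_add_left, ← hf_ac g v w, h1 w hw, CharTwo.add_self_eq_zero]

/-- A transvection is not a square. -/
theorem nsq {v : Vn n F} {c : F} (hv : v ≠ 0) (hc : c ≠ 0) (g : XU n F) : g * g ≠ Tc c v := fun e => by
  have h1 : ac g v = v := by
    have : g ∈ Cz (Tc c v) := mem_Cz.2 (by rw [← e, mul_assoc])
    rwa [FR.cz v c hv hc] at this
  obtain ⟨i, hi⟩ := Function.ne_iff.1 hv
  obtain ⟨f, hf1⟩ : ∃ z, hf z v = 1 := ⟨(star (v i))⁻¹ • ev i.rev, by
    rw [hf_smul_left, hf_ev_left, Fin.rev_rev, inv_mul_cancel₀ (by simpa using hi)]⟩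
  have h2 : ac g (ac g f) = f + c • v := by
    rw [← ac_mul, e, ac_Tc (FV.iso v) (star_trivial c), hf1, mul_one]
  have h3 := hf_ac g (ac g f) f
  have h4 := hf_ac g v f
  have h5 : hf v f = 1 := by rw [← star_hf, hf1, star_one]
  rw [h1, h5] at h4
  rw [h2, hf_add_left, hf_smul_left, h4, ← star_hf, star_trivial, mul_one, add_eq_left] at h3
  exact hc h3

theorem sq_of {s : XU n F} (h2 : s * s = 1) (h0 : ac s (ev 0) = ev 0) {y : Vn n F} (hy : hf y (ev 0) = 0) :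
    EE (ev 0) y 0 * s * (EE (ev 0) y 0 * s) = EE (ev 0) (y + ac s y) (hf (ac s y) y) := by
  have o := FV.ok (ev 0) y 0 hy
  have e := EE_conj o s
  have o' := o.ac s
  rw [h0] at e o'
  rw [inv_eq_of_mul_eq_one_right h2] at e
  rw [mul_assoc, ← mul_assoc s, e, EE_mul o o', zero_add, zero_add]

/-- The other elements of the centre of `U` are squares. -/
theorem zu_sq [p : SP.Par n F] (a : F) {b : F} (hb : b ≠ 0) : ∃ w ∈ SP.UU n F, w * w = zu a b := by
  have n5 := p.five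
  have v0 : ((0 : Fin (n + 1)) : ℕ) = 0 := rfl
  have v1 : ((1 : Fin (n + 1)) : ℕ) = 1 := show 1 % (n + 1) = 1 from Nat.mod_eq_of_lt (by omega)
  have v2 : ((2 : Fin (n + 1)) : ℕ) = 2 := show 2 % (n + 1) = 2 from Nat.mod_eq_of_lt (by omega)
  have r1 : ((1 : Fin (n + 1)).rev : ℕ) = n - 1 := by rw [Fin.val_rev, v1]; omega
  have r2 : ((2 : Fin (n + 1)).rev : ℕ) = n - 2 := by rw [Fin.val_rev, v2]; omega
  have hz : zu a b = EE (ev 0 : Vn n F) (b • ev 1) a := by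
    rw [zu, EE_mul (FV.ok _ _ _ (by simp)) (FV.ok _ _ _ (by rw [hf_smul_left, hf0 (by omega), mul_zero]))]
    simp
  have key : ∀ (x : Vn n F) c β (i : Fin (n + 1)), Wk (n + 1 - 2) x → hf x (ev 1) = 0 → hf (ev 0) x = 0 →
      i.val < n → ac (EE (ev 1) x c) (β • ev i) = β • ev i + b • ev 1 → hf (b • ev 1) (β • ev i : Vn n F) = a →
      ∃ w ∈ SP.UU n F, w * w = zu a b := fun x c β i w1 h1 h0 hi e1 e2 => by
    have o := FV.ok (ev 1) x c h1
    refine ⟨EE (ev 0) (β • ev i) 0 * EE (ev 1) x c, mul_mem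
      (Q_le (j := 1) (by omega) (FV.EE_Q 1 (by omega) _ _ _ (one_smul F (ev 0 : Vn n F) ▸ wk_ev (by omega) 1)
        (wk_ev (by omega) _)))
      (Q_le (j := 2) (by omega) (FV.EE_Q 2 (by omega) _ _ _ (one_smul F (ev 1 : Vn n F) ▸ wk_ev (by omega) 1) w1)),
      ?_⟩
    rw [sq_of (by rw [EE_mul o o, v_add_self, FV.iso x, CharTwo.add_self_eq_zero, add_zero, EE_zero])
      (ac_EE_fix o (hf0 (by omega)) h0) (by rw [hf_smul_left, hf0 (by omega), mul_zero]), e1, ← add_assoc,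
      v_add_self, zero_add, hf_add_left, FV.iso, zero_add, e2, hz]
  rcases eq_or_ne a 0 with rfl | ha
  · refine key (ev 2) 0 b (2 : Fin (n + 1)).rev (one_smul F (ev 2 : Vn n F) ▸ wk_ev (by omega) 1) (hf0 (by omega))
      (hf0 (by omega)) (by omega) ?_ (by rw [hf_smul_left, hf_smul_right, hf0 (by omega)]; simp)
    rw [ac_EE_perp (FV.ok _ _ _ (hf0 (by omega))) (by rw [hf_smul_left, hf0 (by omega), mul_zero]), hf_smul_left,
      hf_ev, Fin.rev_rev, if_pos rfl, mul_one]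
  · refine key 0 (b * b / a) (a / b) (1 : Fin (n + 1)).rev (fun _ _ => rfl) (by simp) (by simp) (by omega) ?_ ?_
    · rw [ac_Tc (FV.iso _) (star_trivial _), hf_smul_left, hf_ev, Fin.rev_rev, if_pos rfl]
      congr 2; field_simp
    · rw [hf_smul_left, hf_smul_right, hf_ev, if_pos rfl, star_trivial]; field_simp

theorem jobCZ : JobCZ := fun n F _ _ _ _ _ p _ _ _ θ t u hu => by
  have zc : u ∈ Cs (SP.UU n F) := FR.zU (n := n) (F := F) ▸ mem_sup_left hu
  obtain ⟨c, rfl⟩ := (FV.mem_Zl _ _).1 hu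
  have n5 := p.five
  have uU : Tc c (ev 0) ∈ SP.UU n F := Q_le (j := 1) (by omega) (FV.EE_Q 1 (by omega) _ _ _
    (one_smul F (ev 0 : Vn n F) ▸ wk_ev Nat.zero_lt_one 1) fun _ _ => rfl)
  obtain ⟨a, b, e⟩ := (FV.mem_ZU (θ (Tc c (ev 0)))).1 (FR.zU (n := n) (F := F) ▸ fun x hx => by
    obtain ⟨y, hy, rfl⟩ := t.bij.surjOn hx
    rw [← t.mul _ hy _ uU, ← t.mul _ uU _ hy, zc y hy])
  rcases eq_or_ne b 0 with rfl | hb
  · exact (FV.mem_Zl _ _).2 ⟨a, by rw [e, zu, zero_smul, qq, EE_zero, mul_one]⟩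
  rcases eq_or_ne c 0 with rfl | hc
  · have := t.mul 1 (one_mem _) 1 (one_mem _)
    rw [mul_one, left_eq_mul] at this
    rw [Tc, EE_zero, this]
    exact one_mem _
  obtain ⟨w, hw, e'⟩ := zu_sq (n := n) a hb
  obtain ⟨y, hy, rfl⟩ := t.bij.surjOn hw
  exact absurd (t.bij.injOn (mul_mem hy hy) uU (by rw [t.mul _ hy _ hy, e', e])) (nsq (ev_ne 0) hc y)

end H77.SWCZ
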