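import Cfsg.Agent.H67.P6.H67_SPIII
import Cfsg.Agent.H78.S6Kit
import Cfsg.Agent.H85.P6.H72_SPFR

namespace H57 end H57
open H57
namespace H81 end H81
open H81
namespace H85.P6 end H85.P6
open H85.P6
namespace H85.P6.H57 end H85.P6.H57
open H85.P6.H57
namespace H85.P6.H81 end H85.P6.H81
open H85.P6.H81
namespace H85.P6.H81.SPW end H85.P6.H81.SPW
open H85.P6.H81.SPW
namespace H67.P6


/-! STD-SP (row S3129), chapter III, slot RW: the wreath case. -/

set_option autoImplicit false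
set_option linter.unusedSectionVars false

namespace H81.SPW
export H64.SG (cjs)

open H64.SG (Cz Cs Ns cjs mem_Cz mem_Cs Cs_le_Ns)
open Matrix H57 Subgroup H67.UA H67.SP H72.SPF
open H67.SA (la cm mem_cjs conj_mem_cjs cm_eq_one)
open H59.SO (CW)

universe u

section Split

variable {X : Type} [Group X] [Finite X] {G : Type u} [Group G] {e : X →* G} {t : G}

theorem conj2 (h : t * t = 1) (g : G) : t * (t * g * t⁻¹) * t⁻¹ = g := by
  rw [← mul_assoc, ← mul_assoc, h, mul_assoc, ← _root_.mul_inv_rev, h]; simp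

/-- `e X` is diagonal in a commuting product `L L^t`. -/
theorem split [Finite G] (perf : commutator X = ⊤) (mult : H21.multCard X ∣ 4)
    (inj : Function.Injective e)
    (tt : t * t = 1) (ce : ∀ g, t * e g = e g * t) {L : Subgroup G} (c : L ≤ Cs (cjs t L))
    (h1 : e.range ≤ L ⊔ cjs t L)
    (ck : ∀ g, g * t = t * g → (∀ p, g * e p = e p * g) → g = 1 ∨ g = t) (nt : ¬ L ≤ Cz t) :
    ∃ e₁ e₂, CW e t e₁ e₂ := by
  have sw : ∀ {g}, g ∈ cjs t L → t * g * t⁻¹ ∈ L := by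
    rintro _ ⟨g, hg, rfl⟩; exact (conj2 tt g).symm ▸ hg
  have n2 : L ⊔ cjs t L ≤ Ns (cjs t L) := sup_le (c.trans (Cs_le_Ns _)) le_normalizer
  have : ((cjs t L).subgroupOf (L ⊔ cjs t L)).Normal := ⟨fun a ha g =>
    mem_subgroupOf.2 (H98.conj_mem_of_mem_normalizer (n2 g.2) (mem_subgroupOf.1 ha))⟩
  let π := (QuotientGroup.mk' ((cjs t L).subgroupOf (L ⊔ cjs t L))).comp
    (inclusion (le_sup_left : L ≤ L ⊔ cjs t L))
  obtain ⟨φ, hφ⟩ := H78.S6.lift_odd perf mult
    ((QuotientGroup.mk' ((cjs t L).subgroupOf (L ⊔ cjs t L))).comp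
      (e.codRestrict _ fun a => h1 ⟨a, rfl⟩)) (π := π) (fun q => by
      obtain ⟨⟨g, hg⟩, rfl⟩ := QuotientGroup.mk_surjective q
      obtain ⟨l, hl, a, ha, h4⟩ := (H98.mem_sup_left_norm (c.trans (Cs_le_Ns _))).1 hg
      exact ⟨⟨l, hl⟩, QuotientGroup.eq.2 (by
        change l⁻¹ * g ∈ cjs t L
        rwa [h4, inv_mul_cancel_left])⟩)
    (fun l hl => mem_center_iff.2 fun g => Subtype.ext
      (c g.2 _ (mem_subgroupOf.1 ((QuotientGroup.eq_one_iff (inclusion le_sup_left l)).1 hl))).symm)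
    (fun l hl => by
      have zz : ∀ z, z ∈ L → z ∈ cjs t L → L ⊔ cjs t L ≤ Cz z := fun z m1 m2 => sup_le
        (fun g hg => mem_Cz.2 (c hg _ m2)) fun g hg => mem_Cz.2 (c m1 g hg).symm
      have z1 : ∀ z, z ∈ L → z ∈ cjs t L → z * t = t * z → z = 1 := fun z m1 m2 h =>
        (ck z h fun p => mem_Cz.1 (zz z m1 m2 (h1 ⟨p, rfl⟩))).resolve_right fun k =>
          nt (le_sup_left.trans (k ▸ zz z m1 m2))
      have m2 : (l : G) ∈ cjs t L :=
        mem_subgroupOf.1 ((QuotientGroup.eq_one_iff (inclusion le_sup_left l)).1 hl)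
      by_contra ho
      obtain ⟨k, hk⟩ := Nat.not_odd_iff_even.1 ho
      have k0 := orderOf_pos l
      have k1 : ((l : G) ^ k) * (l : G) ^ k = 1 := by
        rw [← pow_add, ← hk, ← coe_pow, pow_orderOf_eq_one, coe_one]
      have a1 := pow_mem l.2 k
      have a2 := pow_mem m2 k
      have a3 : t * (l : G) ^ k * t⁻¹ ∈ cjs t L := conj_mem_cjs.2 a1
      have a4 := z1 _ (mul_mem a1 (sw a2)) (mul_mem a2 a3) (by
        rw [eq_comm, ← mul_inv_eq_iff_eq_mul, ← conj_mul, conj2 tt, c a1 _ a3])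
      have a5 := z1 _ a1 a2 (by
        rw [← k1, mul_right_inj, mul_inv_eq_iff_eq_mul] at a4; exact a4.symm)
      rw [← coe_pow, OneMemClass.coe_eq_one] at a5
      have := Nat.le_of_dvd (by omega) (orderOf_dvd_of_pow_eq_one a5)
      omega)
  have h4 : ∀ a, ((φ a : L) : G)⁻¹ * e a ∈ cjs t L := fun a =>
    mem_subgroupOf.1 (QuotientGroup.eq (s := (cjs t L).subgroupOf (L ⊔ cjs t L)).1 (hφ a))
  have cc : ∀ a a', ((φ a : L) : G) * (t * φ a' * t⁻¹) = t * φ a' * t⁻¹ * φ a := fun a a' =>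
    (c (φ a).2 _ (conj_mem_cjs.2 (φ a').2)).symm
  let f : X →* G := MonoidHom.mk' (fun a => (φ a : G) * (t * φ a * t⁻¹)) fun a a' => by
    simp only [map_mul, coe_mul, ← conj_mul]
    rw [mul_assoc, ← mul_assoc (φ a' : G), cc a' a]; group
  have cen : ∀ a, ∀ g ∈ L ⊔ cjs t L, Commute (e a * (f a)⁻¹) g := fun a => by
    have h5 := sw (h4 a)
    rw [← conj_mul, ce a, mul_inv_cancel_right] at h5
    have p2 : t * φ a * t⁻¹ ∈ cjs t L := conj_mem_cjs.2 (φ a).2
    have m1 : e a * (f a)⁻¹ ∈ L := by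
      have : e a * (f a)⁻¹ = t * (φ a : G)⁻¹ * t⁻¹ * e a * (φ a : G)⁻¹ := by
        calc e a * ((φ a : G) * (t * φ a * t⁻¹))⁻¹ = t * φ a * t⁻¹ * (t * (φ a : G)⁻¹ * t⁻¹ * e a) *
              ((φ a : G) * (t * φ a * t⁻¹))⁻¹ := by group
          _ = _ := by rw [c h5 _ p2]; group
      exact this ▸ mul_mem h5 (inv_mem (φ a).2)
    have m2 : e a * (f a)⁻¹ ∈ cjs t L := by
      have : e a * (f a)⁻¹ = (φ a : G)⁻¹ * e a * (t * φ a * t⁻¹)⁻¹ := by
        calc e a * ((φ a : G) * (t * φ a * t⁻¹))⁻¹ = φ a * ((φ a : G)⁻¹ * e a) *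
              ((φ a : G) * (t * φ a * t⁻¹))⁻¹ := by group
          _ = _ := by rw [← c (φ a).2 _ (h4 a), cc]; group
      exact this ▸ mul_mem (h4 a) (inv_mem p2)
    have k : L ⊔ cjs t L ≤ Cz (e a * (f a)⁻¹) := sup_le
      (fun g hg => mem_Cz.2 (c hg _ m2)) fun g hg => mem_Cz.2 (c m1 g hg).symm
    exact fun g hg => mem_Cz.1 (k hg)
  have ef : e = f := H67.GA.hom_eq_of_central' perf e f
    (fun a a' => cen a _ (mul_mem_sup (φ a').2 (conj_mem_cjs.2 (φ a').2)))
    fun a a' => cen a _ (h1 ⟨a', rfl⟩)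
  refine ⟨L.subtype.comp φ, (MulAut.conj t).toMonoidHom.comp (L.subtype.comp φ),
    (injective_iff_map_eq_one _).2 fun a ha => (injective_iff_map_eq_one _).1 inj a ?_, cc,
    fun a => congrArg (fun g : X →* G => g a) ef, fun _ => rfl⟩
  have ha : (φ a : G) = 1 := ha
  rw [ef]
  change (φ a : G) * (t * φ a * t⁻¹) = 1
  rw [ha]; simp

end Split

variable {n : ℕ} {F : Type} [Field F] [StarRing F] [TrivialStar F] [CharP F 2] [Finite F] [FV n F]
  {G : Type u} [Group G] {e : XU n F →* G} {τ : Vn n F → G} {δ : F}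

variable (e τ) in
/-- the general element of `Q*_u` -/
noncomputable def NN (u y : Vn n F) (d : F) (v : Vn n F) (a : F) : G :=
  e (EE u y d) * sg e τ 0 u v * τ (a • u)

theorem rt_one : rt (1 : F) = 1 := sq_inj (by rw [rt_sq, one_pow])
theorem rt_zero : rt (0 : F) = 0 := sq_inj (by rw [rt_sq]; simp)
theorem su (a : F) (u : Vn n F) : hf (a • u) u = 0 := by rw [hf_smul_left, hx, mul_zero]
theorem us (a : F) (u : Vn n F) : hf u (a • u) = 0 := by rw [hr, hx, mul_zero]

section P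

variable (h : RD e τ δ)
include h

theorem tt (v : Vn n F) : τ v * τ v = 1 := by rw [h.sq, Tc, EE_zero, map_one]

theorem tc {u v : Vn n F} (p : hf u v = 0) : Commute (τ u) (τ v) :=
  cm_eq_one.1 (by rw [h.cmp u v p, zero_smul, qq, EE_zero, map_one])

theorem sa (a : F) (u : Vn n F) : sg e τ 0 u (a • u) = 1 := by
  rw [h.shift, zero_mul, Tc, EE_zero, map_one]

theorem s0 (u : Vn n F) : sg e τ 0 u 0 = 1 := by simpa using sa h 0 u

theorem As {u y v : Vn n F} (p : hf y u = 0) (q : hf u v = 0) (d : F) :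
    Commute (e (EE u y d)) (sg e τ 0 u v) := by
  have k := h.toRA.toR1.toR0.sg_eqv 0 (EE u y d) u v
  rwa [ac_EE_self (FV.ok u y d p), ac_EE_perp (FV.ok u y d p) (hf_symm q),
    h.sadd u v _ ⟨q, us _ _, by rw [hr, hf_symm q, mul_zero]⟩, sa h, mul_one,
    mul_inv_eq_iff_eq_mul] at k

theorem Az {u y : Vn n F} (p : hf y u = 0) (d a : F) : Commute (e (EE u y d)) (τ (a • u)) :=
  h.toRA.toR1.toR0.fix (by rw [ac_smul, ac_EE_self (FV.ok u y d p)])

theorem zs {u v : Vn n F} (q : hf u v = 0) (a : F) : Commute (τ (a • u)) (sg e τ 0 u v) :=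
  h.stau u v _ ⟨q, us _ _, by rw [hr, hf_symm q, mul_zero]⟩

theorem zz (u : Vn n F) (a b : F) : τ (a • u) * τ (b • u) = τ ((a + b) • u) := by
  rw [h.nadd, zero_mul, zero_mul, Tc, EE_zero, map_one, mul_one]

theorem N_mul {u y y' v v' : Vn n F} (p : hf y u = 0) (p' : hf y' u = 0) (q : hf u v = 0)
    (q' : hf u v' = 0) (d d' a a' : F) : NN e τ u y d v a * NN e τ u y' d' v' a' =
      NN e τ u (y + y') (d + d' + hf y' y + δ * hf v v') (v + v') (rt (hf v v') + (a + a')) := by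
  have p2 : hf (y + y') u = 0 := by rw [hf_add_left, p, p', add_zero]
  have q2 : hf u (v + v') = 0 := by rw [hf_add_right, q, q', add_zero]
  have k := h.mul u v v' q q'
  rw [add_zero, one_mul, mul_assoc, ← (Az h (hf_zero_left u) _ _).eq, ← mul_assoc,
    ← (As h (hf_zero_left u) q2 _).eq] at k
  have k2 := mE' p2 (hf_zero_left u) (d + d' + hf y' y) (δ * hf v v')
  rw [add_zero, hf_zero_left, add_zero] at k2
  calc _ = e (EE u y d) * (sg e τ 0 u v * (τ (a • u) * e (EE u y' d'))) * sg e τ 0 u v' *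
        τ (a' • u) := by simp only [NN, mul_assoc]
    _ = e (EE u y d) * e (EE u y' d') * (sg e τ 0 u v * (τ (a • u) * sg e τ 0 u v')) *
        τ (a' • u) := by
      rw [← (Az h p' d' a).eq, ← mul_assoc (sg e τ 0 u v), ← (As h p' q d').eq]
      simp only [mul_assoc]
    _ = _ := by
      rw [(zs h q' a).eq, ← mul_assoc (sg e τ 0 u v), k, NN, ← k2, ← mE' p p', ← zz h, ← zz h]
      simp only [map_mul, mul_assoc]

theorem N_e (g : XU n F) {u y : Vn n F} (p : hf y u = 0) (d : F) (v : Vn n F) (a : F) :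
    e g * NN e τ u y d v a * (e g)⁻¹ = NN e τ (ac g u) (ac g y) d (ac g v) a := by
  rw [NN, NN, ← conj_mul, ← conj_mul, h.toRA.toR1.toR0.sg_eqv, h.eqv, ac_smul, ← jE p, map_mul,
    map_mul, map_inv]

theorem cE {u y x : Vn n F} (p : hf y u = 0) (q : hf u x = 0) (d : F) :
    τ x * e (EE u y d) * (τ x)⁻¹ = NN e τ u y d (hf x y • x) (hf x y) := by
  have k := h.eqv (EE u y d) x
  rw [ac_EE_perp (FV.ok u y d p) (hf_symm q), ← map_inv, inE p] at k
  have r : hf (hf x y • u) x = 0 := by rw [hf_smul_left, q, mul_zero]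
  have k1 : e (EE u y d) * e (EE u y d) = 1 := by rw [← map_mul, sqE p, map_one]
  rw [NN, ← h.sscal _ _ _ q, H67.SP.sg, add_comm _ x, ← k, Tc, Tc, EE_zero, EE_zero, mul_one, map_one, mul_one,
    inv_eq_of_mul_eq_one_right (tt h x), mul_assoc, mul_assoc, mul_assoc, mul_assoc (e _ * _ * _),
    ← (tc h r).eq, ← mul_assoc (τ (_ • u)), tt h, one_mul, ← mul_assoc, ← mul_assoc, ← mul_assoc,
    ← mul_assoc, k1, one_mul]

end P

variable (e τ) in
/-- `1 + (c + η) v v*` -/
noncomputable def TT' (c : F) (v : Vn n F) : G := e (Tc c v) * τ v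
variable (e τ) in
/-- `1 + (c + η)(y u* + u y*)` -/
noncomputable def YY (c : F) (y u : Vn n F) : G := e (qq (c • y) u) * sg e τ 0 u y

section Q

variable (h : RD e τ δ) {c : F} (hc : c ^ 2 + c = δ)
include h

theorem Y_N (c : F) (y u : Vn n F) : YY e τ c y u = NN e τ u (c • y) 0 y 0 := by
  rw [NN, zero_smul, h.zero, mul_one, YY]

theorem T_N (c : F) (u : Vn n F) : TT' e τ c u = NN e τ u 0 c 0 1 := by
  rw [NN, s0 h, mul_one, one_smul, TT']

theorem Y_sym (c : F) {y u : Vn n F} (p : hf u y = 0) : YY e τ c y u = YY e τ c u y := by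
  rw [YY, YY, h.ssym u y p, zero_smul, show qq 0 u = 1 from EE_zero u, map_one, mul_one, qq_smul,
    star_trivial, qq_comm]

include hc

theorem T_Y {x y u : Vn n F} (p : hf u y = 0) (q : hf u x = 0) :
    Commute (TT' e τ (c + 1) x) (YY e τ c y u) := by
  have p1 : ∀ {z : Vn n F} (a : F), hf u z = 0 → hf (a • z) u = 0 := fun a hz => by
    rw [hf_smul_left, hf_symm hz, mul_zero]
  have k : τ x * YY e τ c y u * (τ x)⁻¹ =
      NN e τ u (c • y + (δ * hf y x) • x) 0 (y + ((c + 1) * hf y x) • x) 0 := by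
    rw [YY, ← conj_mul, cE h (p1 c p) q, h.cS u y x p q, ← NN, N_mul h (p1 c p) (p1 _ q)
      (hf_symm (p1 _ q)) (by rw [hf_add_right, p, hr, q, mul_zero, add_zero])]
    simp only [hf_smul_left, hr, hf_add_right, hx, hs x y, mul_zero, add_zero, zero_add]
    congr 1
    · linear_combination (δ * c * hf y x ^ 2) * two0 F
    · ext i
      simp only [Pi.add_apply, Pi.smul_apply, smul_eq_mul]
      ring
    · refine sq_inj ?_
      rw [CharTwo.add_sq, CharTwo.add_sq, rt_sq, mul_pow, mul_pow, rt_sq]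
      linear_combination (hf y x ^ 2) * hc + (δ * hf y x ^ 2) * two0 F
  rw [Commute, SemiconjBy, ← mul_inv_eq_iff_eq_mul]
  calc _ = e (Tc (c + 1) x) * (τ x * YY e τ c y u * (τ x)⁻¹) * (e (Tc (c + 1) x))⁻¹ := by
        rw [TT']; group
    _ = _ := by
      rw [k, N_e h _ (by rw [hf_add_left, p1 c p, p1 _ q, add_zero]), Y_N h]
      simp only [aT, hf_add_left, hf_smul_left, hx, q, mul_zero, add_zero, zero_smul]
      congr 1
      · ext i
        simp only [Pi.add_apply, Pi.smul_apply, smul_eq_mul]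
        linear_combination (hf y x * x i) * hc + (δ * hf y x * x i) * two0 F
      · rw [add_assoc, v_add_self, add_zero]

theorem Y_Y {y y' u : Vn n F} (p : hf u y = 0) (p' : hf u y' = 0) (q : hf y y' = 1) :
    YY e τ c y u * YY e τ c y' u = YY e τ c (y + y') u * TT' e τ c u := by
  have p1 : ∀ {z : Vn n F} (a : F), hf u z = 0 → hf (a • z) u = 0 := fun a hz => by
    rw [hf_smul_left, hf_symm hz, mul_zero]
  have p2 : hf u (y + y') = 0 := by rw [hf_add_right, p, p', add_zero]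
  rw [Y_N h, Y_N h, Y_N h, T_N h, N_mul h (p1 c p) (p1 c p') p p',
    N_mul h (p1 c p2) (hf_zero_left u) p2 (hf_zero_right u)]
  simp only [hf_smul_left, hr, hs y' y, q, hf_zero_left, hf_zero_right, rt_one, rt_zero, mul_zero,
    add_zero, zero_add, smul_add]
  congr 1
  linear_combination hc + (δ - c) * two0 F

theorem T_T [hp : H67.SP.Par n F] [FW n F] (v w : Vn n F) : Commute (TT' e τ (c + 1) v) (TT' e τ c w) := by
  by_cases h0 : hf v w = 0
  · have f : ∀ (a : F) {x y : Vn n F}, hf y x = 0 → ac (Tc a x) y = y := fun a x y r => by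
      rw [aT, r, mul_zero, zero_smul, add_zero]
    refine Commute.mul_left (Commute.mul_right (Commute.map ?_ e)
      (h.toRA.toR1.toR0.fix (f _ (hf_symm h0))))
      (Commute.mul_right (h.toRA.toR1.toR0.fix (f _ h0)).symm (tc h h0))
    have := jT c w (Tc (c + 1) v)
    rwa [f _ (hf_symm h0), mul_inv_eq_iff_eq_mul] at this
  obtain ⟨g, g1, g2⟩ := FW.wh v ((hf v w)⁻¹ • w) (by rw [hr, inv_mul_cancel₀ h0])
  have g3 : w = hf v w • ac g (ev (la n)) := by rw [g2, smul_smul, mul_inv_cancel₀ h0, one_smul]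
  have h5 := hp.five
  have e1 := v1 (n := n) (F := F)
  have k : ∀ i : Fin (n + 1), i.val ≠ 0 → i.val ≠ n →
      hf (ac g (ev i)) v = 0 ∧ hf (ac g (ev i)) w = 0 := fun i i0 i1 => by
    rw [g3, hr, ← g1, hf_ac, hf_ac, hfe i, hfe i, if_neg (by simpa using i1),
      if_neg (by simpa [la] using i0), mul_zero]
    exact ⟨rfl, rfl⟩
  obtain ⟨a1, a2⟩ := k 1 (by omega) (by omega)
  obtain ⟨b1, b2⟩ := k (1 : Fin (n + 1)).rev (by rw [Fin.val_rev]; omega) (by rw [Fin.val_rev]; omega)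
  have k1 : ∀ {y : Vn n F}, hf y v = 0 → hf y w = 0 → Commute (TT' e τ (c + 1) v) (YY e τ c y w) :=
    fun r1 r2 => by rw [Y_sym h c (hf_symm r2)]; exact T_Y h hc r2 r1
  rw [← inv_mul_cancel_left (YY e τ c (ac g (ev 1) + ac g (ev (1 : Fin (n + 1)).rev)) w)
    (TT' e τ c w), ← Y_Y h hc (hf_symm a2) (hf_symm b2) (by rw [hf_ac, hf_ev, if_pos rfl])]
  exact (k1 (by rw [hf_add_left, a1, b1, add_zero])
    (by rw [hf_add_left, a2, b2, add_zero])).inv_right.mul_right ((k1 a1 a2).mul_right (k1 b1 b2))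

end Q

theorem jobRW : JobRW.{u} := by
  intro n F _ _ _ _ _ _ G _ _ e t b _ mu w τ δ ε h ht hε
  have tc : ∀ v, t * TT' e τ (ε + 1) v * t⁻¹ = TT' e τ ε v := fun v => by
    have k := ht v
    have k1 : ac (TT v) v = v := by rw [aT, hx, mul_zero, zero_smul, add_zero]
    rw [mul_inv_eq_iff_eq_mul] at k
    have k2 : t * τ v = e (TT v) * τ v * t := by
      rw [mul_assoc, k, ← mul_assoc, ← mul_assoc, ← w.cen, mul_assoc t, ← map_mul,
        sqE (hf_zero_left v), map_one, mul_one]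
    rw [TT', TT', ← mul_assoc, w.cen, mul_assoc (e _), k2, ← mul_assoc, ← mul_assoc,
      mul_inv_cancel_right, ← map_mul, mE' (hf_zero_left v) (hf_zero_left v), add_zero, add_assoc ε,
      cc, hf_zero_left, add_zero, add_zero]
  let L := closure {g | ∃ v, g = TT' e τ (ε + 1) v}
  have mem : ∀ v, TT' e τ (ε + 1) v ∈ L := fun v => subset_closure ⟨v, rfl⟩
  refine split (eq_top_iff.2 FA.ns.perfect) mu w.inj w.tt w.cen (L := L)
    ((closure_le _).2 ?_) ?_ w.ck fun k => ?_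
  rotate_left 2
  · have k1 := tc (ev 0)
    rw [mem_Cz.1 (k (mem _)), mul_inv_cancel_right, TT', TT', mul_left_inj] at k1
    obtain ⟨a, -, k2⟩ := EE_inj (ev_ne 0) (FV.ok _ _ _ (hf_zero_left _)) (FV.ok _ _ _ (hf_zero_left _))
      (w.inj k1)
    rw [tr_eq_zero.2 (star_trivial a), add_zero] at k2
    simp at k2
  · rintro _ ⟨v, rfl⟩ _ ⟨g, hg, rfl⟩
    refine (mem_Cz.1 ((closure_le ((Cz (TT' e τ (ε + 1) v)).comap (MulAut.conj t).toMonoidHom)).2
      ?_ hg)).symm
    rintro _ ⟨w, rfl⟩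
    refine mem_Cz.2 ?_
    change _ * (t * _ * t⁻¹) = t * _ * t⁻¹ * _
    rw [tc w]
    exact T_T h hε v w
  · rw [MonoidHom.range_eq_map, map_le_iff_le_comap, top_le_iff]
    refine FW.genT _ fun v => ?_
    have := N_mul h (hf_zero_left v) (hf_zero_left v) (hf_zero_right v) (hf_zero_right v) (ε + 1) ε 1 1
    rw [← T_N h, ← T_N h, ← tc v, NN, add_zero, hf_zero_left, rt_zero, cc, add_zero (0 : F), zero_smul,
      h.zero, s0 h, mul_one, mul_one, mul_zero, add_zero, add_zero, add_right_comm, cc, zero_add] at this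
    change e (Tc 1 v) ∈ L ⊔ cjs t L
    rw [← this]
    exact mul_mem_sup (mem v) (conj_mem_cjs.2 (mem v))

end H81.SPW
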