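import Cfsg.Agent.H67.P6.H67_SWDef

namespace H82 end H82
open H82
namespace H85.P6 end H85.P6
open H85.P6
namespace H85.P6.H82 end H85.P6.H82
open H85.P6.H82
namespace H85.P6.H82.SWZ end H85.P6.H82.SWZ
open H85.P6.H82.SWZ
namespace H67.P6


/-! STD-SP (row S3129), wreath endgame: the slot `SZ`. -/

set_option autoImplicit false
set_option linter.all false

namespace H82.SWZ
export H64.SG (cjs)

open H64.SG (Cz Cs mem_Cz cjs)
open H67.SP H67.UA Subgroup Matrix

variable {n : ℕ} {F : Type} [Field F] [StarRing F] [TrivialStar F] [CharP F 2] [Finite F]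

theorem kk2 [p : H67.SP.Par n F] : n + 1 = 2 * kk n ∧ 3 ≤ kk n := by
  obtain ⟨a, ha⟩ := p.odd
  have := p.five
  unfold kk; omega

section
variable [p : H67.SP.Par n F] [FV n F]

theorem perp {v : Vn n F} : Wk (kk n) v ↔ ∀ w, Wk (kk n) w → hf v w = 0 := by
  have h := kk2 (n := n) (F := F)
  have := FV.wk_perp (n := n) (F := F) (kk n) (by omega) v
  rwa [show n + 1 - kk n = kk n by omega] at this

theorem fixM {g : XU n F} (hg : g ∈ Mk n F (kk n)) {w : Vn n F} (hw : Wk (kk n) w) :
    ac g w = w := by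
  have h := (FV.mem_M _ g).1 hg
  have h1 : Wk (kk n) (ac g w) := fun i hi => by
    have := h w i hi
    rwa [Pi.add_apply, hw i hi, add_zero] at this
  refine eq_of_hf fun v => ?_
  have h2 := perp.1 h1 _ (h v)
  rw [hf_add_right, hf_ac] at h2
  linear_combination h2 - hf w v * two0 F

theorem acM {a b : XU n F} (ha : a ∈ Mk n F (kk n)) (hb : b ∈ Mk n F (kk n)) (v : Vn n F) :
    ac (a * b) v = ac a v + ac b v + v := by
  have h := fixM ha ((FV.mem_M _ b).1 hb v)
  rw [ac_add] at h
  rw [ac_mul, add_assoc, ← h, add_comm (ac a v), add_assoc, v_add_self, add_zero]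

theorem commM {a b : XU n F} (ha : a ∈ Mk n F (kk n)) (hb : b ∈ Mk n F (kk n)) : a * b = b * a :=
  ac_ext fun v => by rw [acM ha hb, acM hb ha, add_comm (ac a v)]

theorem sqM {a : XU n F} (ha : a ∈ Mk n F (kk n)) : a * a = 1 :=
  ac_ext fun v => by rw [acM ha ha, v_add_self, zero_add, ac_one]

theorem pM : IsPGroup 2 (Mk n F (kk n)) := fun a => ⟨1, Subtype.ext (by
  simpa [pow_two] using sqM a.2)⟩

/-- The index of `M_k` in `U`. -/
theorem relM [Finite (XU n F)] :
    (Mk n F (kk n)).relIndex (UU n F) ≤ Nat.card F ^ (kk n).choose 2 := by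
  classical
  have h := kk2 (n := n) (F := F)
  let T := {x : Fin (kk n) × Fin (kk n) // x.1 < x.2}
  have hT : Nat.card T = (kk n).choose 2 := by
    have := Finset.card_product_filter_lt (s := (Finset.univ : Finset (Fin (kk n))))
    rw [Finset.card_univ, Fintype.card_fin, Finset.univ_product_univ] at this
    rw [Nat.card_eq_fintype_card, Fintype.card_subtype, this]
  let c : Fin (kk n) → Fin (n + 1) := Fin.castLE (by omega)
  let f : UU n F → (T → F) := fun a x => mt a.1 (c x.1.1) (c x.1.2)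
  have key : ∀ a b : UU n F, f a = f b → (a : XU n F)⁻¹ * b ∈ Mk n F (kk n) := by
    intro a b e
    have k1 : ∀ i j : Fin (n + 1), j.val < kk n → mt a.1 i j = mt b.1 i j := by
      intro i j hj
      by_cases hij : i.val < j.val
      · exact congrFun e ⟨(⟨i, by omega⟩, ⟨j, hj⟩), hij⟩
      · have hw : Wk (j.val + 1) (ev j : Vn n F) := fun l hl => by
          rw [ev_apply, if_neg (by rintro rfl; omega)]
        have h1 := (FV.mem_U _).1 a.2 j _ hw i (by omega)
        have h2 := (FV.mem_U _).1 b.2 j _ hw i (by omega)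
        rw [Pi.add_apply, ac_ev] at h1 h2
        linear_combination h1 - h2
    have k2 : ∀ w, Wk (kk n) w → ac a.1 w = ac b.1 w := fun w hw => funext fun i => by
      simp only [ac, mulVec, dotProduct]
      refine Finset.sum_congr rfl fun j _ => ?_
      by_cases hj : j.val < kk n
      · rw [k1 i j hj]
      · rw [hw j (by omega), mul_zero, mul_zero]
    refine (FV.mem_M _ _).2 fun v => perp.2 fun w hw => ?_
    rw [hf_add_left, ac_mul, hf_ac_left, inv_inv, k2 w hw, hf_ac]
    exact CharTwo.add_self_eq_zero _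
  have : Nat.card (T → F) = Nat.card F ^ (kk n).choose 2 := by rw [Nat.card_fun, hT]
  rw [← this]
  exact Nat.card_le_card_of_injective
    (fun q : UU n F ⧸ (Mk n F (kk n)).subgroupOf (UU n F) => f q.out) fun p q e => by
      rw [← p.out_eq, ← q.out_eq, QuotientGroup.eq, mem_subgroupOf]
      exact key _ _ e

theorem cardM [Finite (XU n F)] [FW n F] :
    Nat.card F ^ (kk n ^ 2 + kk n) ≤ Nat.card (Mk n F (kk n)) ^ 2 := by
  have h1 := relM (n := n) (F := F)
  have h2 := (Mk n F (kk n)).subgroupOf (UU n F) |>.card_mul_index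
  have h3 : Nat.card ((Mk n F (kk n)).subgroupOf (UU n F)) ≤ Nat.card (Mk n F (kk n)) :=
    Nat.card_le_card_of_injective (fun a => ⟨a.1.1, a.2⟩) fun a b e =>
      Subtype.ext (Subtype.ext (congrArg (fun z : Mk n F (kk n) => z.1) e))
  rw [FW.cardU] at h2
  have h4 : Nat.card F ^ (kk n ^ 2) ≤ Nat.card (Mk n F (kk n)) * Nat.card F ^ (kk n).choose 2 :=
    h2 ▸ Nat.mul_le_mul h3 h1
  have h5 : 2 * (kk n).choose 2 + kk n = kk n ^ 2 := by
    generalize kk n = k
    induction k with
    | zero => rfl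
    | succ k ih => rw [Nat.choose_succ_succ', Nat.choose_one_right]; nlinarith
  have h6 : 0 < Nat.card F ^ (2 * (kk n).choose 2) := pow_pos Nat.card_pos _
  refine Nat.le_of_mul_le_mul_right ?_ h6
  calc _ = (Nat.card F ^ (kk n ^ 2)) ^ 2 := by rw [← pow_add, ← pow_mul]; congr 1; omega
    _ ≤ _ := Nat.pow_le_pow_left h4 2
    _ = _ := by rw [mul_pow, ← pow_mul, mul_comm _ 2]

/-- Involutions are conjugate into `M_k`. -/
theorem intoM [FW n F] {g : XU n F} (hg : g * g = 1) :
    ∃ h : XU n F, h * g * h⁻¹ ∈ Mk n F (kk n) := by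
  have h := kk2 (n := n) (F := F)
  have hi : g⁻¹ = g := inv_eq_of_mul_eq_one_right hg
  let N : Vn n F →ₗ[F] Vn n F := (mt g).mulVecLin + LinearMap.id
  have hN : ∀ x, N x = ac g x + x := fun _ => rfl
  have h1 : LinearMap.range N ≤ LinearMap.ker N := by
    rintro _ ⟨x, rfl⟩
    rw [LinearMap.mem_ker, hN, hN, ac_add, ← ac_mul, hg, ac_one, add_comm x, v_add_self]
  have h2 := Submodule.finrank_mono h1
  have h3 := N.finrank_range_add_finrank_ker
  rw [Module.finrank_fin_fun] at h3
  let b := Module.finBasis F (LinearMap.range N)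
  let c : Fin (Module.finrank F (LinearMap.range N)) → Fin (n + 1) := Fin.castLE (by omega)
  have hc : ∀ i, (c i).val < kk n := fun i => by
    have := i.2
    change i.val < _
    omega
  obtain ⟨s, hs⟩ := FW.witt (n := n) (F := F) _ (fun i => (b i : Vn n F)) (fun i => ev (c i))
    (b.linearIndependent.map' (LinearMap.range N).subtype (Submodule.ker_subtype _))
    (by
      have := (Pi.basisFun F (Fin (n + 1))).linearIndependent.comp c (Fin.castLE_injective _)
      convert this using 1
      funext i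
      simp [ev])
    (fun i j => by
      obtain ⟨x, hx⟩ := (b i).2
      obtain ⟨y, hy⟩ := (b j).2
      have := hc i
      have := hc j
      rw [← hx, ← hy, hN, hN, hf_ev, if_neg (fun e => by
        have := congrArg Fin.val e
        rw [Fin.val_rev] at this
        omega), hf_add_left, hf_add_right, hf_add_right, hf_ac, hf_ac_left, hi]
      linear_combination (hf x y + hf x (ac g y)) * two0 F)
  refine ⟨s, (FV.mem_M _ _).2 fun v => ?_⟩
  have h4 : ac (s * g * s⁻¹) v + v = ac s (N (ac s⁻¹ v)) := by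
    rw [hN, ac_add, ac_mul, ac_mul, ac_ac_inv]
  have h5 := congrArg Subtype.val (b.sum_repr ⟨N (ac s⁻¹ v), _, rfl⟩)
  simp only [AddSubmonoidClass.coe_finset_sum, SetLike.val_smul] at h5
  rw [h4, ← h5]
  intro i hi
  change (mt s).mulVecLin _ i = 0
  rw [map_sum, Finset.sum_apply]
  refine Finset.sum_eq_zero fun j _ => ?_
  rw [map_smul]
  change _ * ac s (b j) i = 0
  have := hc j
  rw [hs, ev_apply, if_neg (by rintro rfl; omega), mul_zero]

end

theorem outle [FA n F] : 2 * Nat.card (Cfsg.Out (XU n F)) ≤ Nat.card F := by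
  have := Fintype.ofFinite F
  obtain ⟨m, -, hm⟩ := FiniteField.card F 2
  rw [← Nat.card_eq_fintype_card] at hm
  have h1 : Nat.card (RingAut F) = m := H63.card_ringAut 2 m hm
  have : Finite (RingAut F) := Finite.of_injective _ DFunLike.coe_injective
  have h2 : Nat.card (Cfsg.Out (XU n F)) ≤ Nat.card (RingAut F) :=
    Nat.card_le_card_of_surjective (fun σ => (fs n F σ : Cfsg.Out (XU n F))) fun o => by
      obtain ⟨α, rfl⟩ := QuotientGroup.mk_surjective o
      obtain ⟨g, σ, rfl⟩ := FA.semi α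
      refine ⟨σ, ?_⟩
      rw [QuotientGroup.mk_mul, (QuotientGroup.eq_one_iff (N := Cfsg.Inn (XU n F))
        (MulAut.conj g)).2 ⟨g, rfl⟩, one_mul]
  have h3 : ∀ k : ℕ, 2 * (k + 1) ≤ 2 ^ (k + 1) := fun k => by
    have := Nat.lt_two_pow_self (n := k)
    rw [pow_succ]; omega
  obtain ⟨k, hk⟩ : ∃ k, (m : ℕ) = k + 1 := ⟨m - 1, by have := m.pos; omega⟩
  have := h3 k
  rw [hm, hk]
  omega

theorem jobSZ : H67.SW.JobSZ := by
  intro n F _ _ _ _ _ p b c o g hg
  have : Finite (XU n F) := inferInstance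
  have h := kk2 (n := n) (F := F)
  obtain ⟨s, hs⟩ := intoM hg
  refine ⟨cjs s⁻¹ (Mk n F (kk n)), ?_, pM.map _, ?_⟩
  · rintro _ ⟨a, ha, rfl⟩
    have := commM hs ha
    rw [mem_Cz]
    change g * (s⁻¹ * a * s⁻¹⁻¹) = s⁻¹ * a * s⁻¹⁻¹ * g
    calc _ = s⁻¹ * (s * g * s⁻¹ * a) * s := by group
      _ = _ := by rw [this]; group
  · rw [card_map_of_injective (MulAut.conj s⁻¹).injective, FW.cardU]
    refine lt_of_lt_of_le ?_ cardM
    have h1 := Nat.pow_le_pow_left (outle (n := n) (F := F)) 2
    have h2 : 1 < Nat.card F := Finite.one_lt_card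
    rw [pow_add, mul_comm]
    exact Nat.mul_lt_mul_of_pos_left (h1.trans_lt (Nat.pow_lt_pow_right h2 (by omega)))
      (pow_pos (by omega) _)

end H82.SWZ
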