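import Cfsg.Agent.H67.P6.H67_SPIII
import Cfsg.Agent.H85.P6.H72_SPFR

namespace H83 end H83
open H83
namespace H85.P6 end H85.P6
open H85.P6
namespace H85.P6.H83 end H85.P6.H83
open H85.P6.H83
namespace H85.P6.H83.SP3TD end H85.P6.H83.SP3TD
open H85.P6.H83.SP3TD
namespace H67.P6


/-! STD-SP chapter III, slot TD: the relation `cS` for `β = 0`. -/

set_option autoImplicit false
set_option linter.unusedSectionVars false

namespace H83.SP3TD

open H67.UA H67.SP H72.SPF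
open H81.SU (rt rt_sq rt_mul)

universe u

variable {n : ℕ} {F : Type} [Field F] [StarRing F] [TrivialStar F] [CharP F 2] [Finite F] [FV n F]
  {G : Type u} [Group G] {e : XU n F →* G} {τ : Vn n F → G} {δ : F} {t : G}

theorem rt_ss (a : F) : rt (a * a) = a := by
  rw [rt_mul, ← sq, rt_sq]

theorem T0 (u : Vn n F) : Tc 0 u = 1 := EE_zero u

theorem q00 (u : Vn n F) : qq 0 u = 1 := EE_zero u

theorem sg0 (u v : Vn n F) : sg e τ 0 u v = τ (u + v) * τ u * τ v := by
  simp only [H67.SP.sg, T0, mul_one, map_one]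

theorem tt (h : RA e τ 0) (v : Vn n F) : τ v * τ v = 1 := by
  rw [h.sq v, T0, map_one]

theorem ti (h : RA e τ 0) (v : Vn n F) : (τ v)⁻¹ = τ v := inv_eq_of_mul_eq_one_right (tt h v)

theorem ct (h : RA e τ 0) {u v : Vn n F} (p : hf u v = 0) : Commute (τ u) (τ v) := by
  have := h.cmp u v p
  rw [zero_smul, q00, map_one] at this
  exact (commutatorElement_eq_one_iff_commute).1 this

theorem fixs (h : RA e τ 0) {g : XU n F} {u v : Vn n F} (hu : ac g u = u) (hv : ac g v = v) :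
    Commute (e g) (sg e τ 0 u v) := by
  have := h.toR0.sg_eqv 0 g u v
  rwa [hu, hv, mul_inv_eq_iff_eq_mul] at this

theorem fixt (h : RA e τ 0) {g : XU n F} {v : Vn n F} (hv : ac g v = v) : Commute (e g) (τ v) :=
  h.toR0.fix hv

theorem sym (h : RA e τ 0) {u v : Vn n F} (p : hf u v = 0) : sg e τ 0 v u = sg e τ 0 u v := by
  rw [h.ssym u v p, zero_smul, q00, map_one, mul_one]

theorem shf (h : RA e τ 0) {u v : Vn n F} (p : hf u v = 0) (a : F) :
    sg e τ 0 u (v + a • u) = sg e τ 0 u v := by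
  rw [h.sadd u v (a • u) ⟨p, by rw [hr, hx, mul_zero], by rw [hr, hs v u, p, mul_zero]⟩, h.shift,
    zero_mul, T0, map_one, mul_one]

theorem cst (h : RA e τ 0) {u v w : Vn n F} (p : hf u v = 0) (q : hf u w = 0) (r : hf v w = 0) :
    Commute (τ w) (sg e τ 0 u v) := h.stau u v w ⟨p, q, r⟩

theorem cQs (h : RA e τ 0) {u v y : Vn n F} (p : hf u v = 0) (q : hf y u = 0) (c : F) :
    Commute (e (EE u y c)) (sg e τ 0 u v) := by
  have := h.toR0.sg_eqv 0 (EE u y c) u v
  rw [aE q, aE q, hx, hs u y, q, hs v u, p] at this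
  simp only [zero_smul, add_zero, mul_zero] at this
  rwa [shf h p, mul_inv_eq_iff_eq_mul] at this

theorem cQt (h : RA e τ 0) {u y : Vn n F} (q : hf y u = 0) (c a : F) :
    Commute (e (EE u y c)) (τ (a • u)) :=
  fixt h (by rw [ac_smul, ac_EE_self (FV.ok u y c q)])

theorem mul (b : RB e τ 0 δ) {u v w : Vn n F} (p : hf u v = 0) (q : hf u w = 0) :
    sg e τ 0 u v * sg e τ 0 u w =
      sg e τ 0 u (v + w) * (τ (rt (hf v w) • u) * e (Tc (δ * hf v w) u)) := by
  rw [b u v w p q, add_zero, one_mul, mul_assoc]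

theorem css (b : RB e τ 0 δ) {u v w : Vn n F} (p : hf u v = 0) (q : hf u w = 0) :
    Commute (sg e τ 0 u v) (sg e τ 0 u w) := by
  show _ = _
  rw [mul b p q, mul b q p, add_comm w v, hs w v]

theorem tadd (h : RA e τ 0) (u v : Vn n F) : τ (u + v) = sg e τ 0 u v * τ v * τ u := by
  rw [sg0, mul_assoc _ (τ v) (τ v), tt h, mul_one, mul_assoc, tt h, mul_one]

theorem cE (h : RA e τ 0) {u x y : Vn n F} (p : hf u x = 0) (q : hf y u = 0) (c : F) :
    τ x * e (EE u y c) * (τ x)⁻¹ = e (EE u y c) * (sg e τ 0 u (hf x y • x) * τ (hf x y • u)) := by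
  have h1 := h.eqv (EE u y c)⁻¹ x
  rw [inE q, aE q, hs x u, p] at h1
  simp only [zero_smul, add_zero, mul_zero] at h1
  have h2 : e (EE u y c) * e (EE u y c) = 1 := by rw [← map_mul, sqE q, map_one]
  have h3 : τ x * e (EE u y c) = e (EE u y c) * τ (x + hf x y • u) := by
    rw [← h1, inv_eq_of_mul_eq_one_right h2, ← mul_assoc, ← mul_assoc, h2, one_mul]
  have h4 : hf x (hf x y • u) = 0 := by rw [hr, hs x u, p, mul_zero]
  rw [h3, tadd h, sym h (hf_symm h4), h.sscal _ _ _ p, ti h]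
  simp only [mul_assoc, tt h, mul_one]

variable (e τ δ) in
/-- The relation `cS` up to the factor `p`. -/
def Dk (u v x : Vn n F) (p : XU n F) : Prop := τ x * sg e τ 0 u v * (τ x)⁻¹ =
  e p * (sg e τ 0 u (v + hf v x • x) * τ ((rt δ * hf v x) • u))

theorem kt (a : AW e t) (h : RA e τ 0) (ht : Tt e τ t) (b : RB e τ 0 δ) {u v x : Vn n F}
    (uv : hf u v = 0) (ux : hf u x = 0) :
    τ x * sg e τ 0 u v * (τ x)⁻¹ * t * (τ x * sg e τ 0 u v * (τ x)⁻¹)⁻¹ =
      t * e (qq (v + hf v x • x) u * Tc (δ * (hf v x * hf v x)) u) := by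
  have xu := hf_symm ux
  have c : ∀ a b g : G, g * (a * b) * g⁻¹ = g * a * g⁻¹ * (g * b * g⁻¹) := fun a b g => by group
  have uv' : hf u (v + hf v x • x) = 0 := by rw [hf_add_right, hr, uv, ux, mul_zero, add_zero]
  have ugx : hf u (hf v x • x) = 0 := by rw [hr, ux, mul_zero]
  have Tu : ac (TT x) u = u := by rw [aT, ux, mul_zero, zero_smul, add_zero]
  have Tx : ac (TT x) x = x := by rw [aT, hx, mul_zero, zero_smul, add_zero]
  have Tv : ac (TT x) v = v + hf v x • x := by rw [aT, one_mul]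
  have T2 : e (TT x) * e (TT x) = 1 := by rw [← map_mul, sqE (hf_zero_left x), map_one]
  have h1 : (τ x)⁻¹ * t * τ x = t * e (TT x) := by
    have := ht x
    rwa [ti h, ← ti h x, ti h, show τ x * t * τ x = (τ x)⁻¹ * t * τ x by rw [ti h]] at this
  have h2 : sg e τ 0 u v * e (TT x) * (sg e τ 0 u v)⁻¹ = e (TT x) * (sg e τ 0 u (hf v x • x) *
      (τ (hf v x • u) * e (Tc (δ * (hf v x * hf v x)) u))) := by
    have := h.toR0.sg_eqv 0 (TT x) u v
    rw [Tu, Tv, inv_eq_of_mul_eq_one_right T2] at this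
    have h3 := mul b uv' uv
    rw [hf_add_left, hx, zero_add, hf_smul_left, hs x v, rt_ss, add_right_comm, v_add_self,
      zero_add] at h3
    rw [← h3, ← this, inv_eq_of_mul_eq_one_right (h.ssq u v uv), ← mul_assoc, ← mul_assoc,
      ← mul_assoc, T2, one_mul]
  have h4 := h.toR0.sv a.cen ht 0 u v uv
  have h5 := cE h ux (hf_symm uv) 0
  have c1 : Commute (τ x) (e (TT x) * (sg e τ 0 u (hf v x • x) *
      (τ (hf v x • u) * e (Tc (δ * (hf v x * hf v x)) u)))) :=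
    (fixt h Tx).symm.mul_right ((cst h ugx ux (by rw [hf_smul_left, hx, mul_zero])).mul_right
      ((ct h (by rw [hr, xu, mul_zero])).mul_right
        (fixt h (by rw [aT, xu, mul_zero, zero_smul, add_zero])).symm))
  have c2 : Commute (e (TT x)) (sg e τ 0 u (hf v x • x) * τ (hf v x • u)) :=
    (fixs h Tu (by rw [ac_smul, Tx])).mul_right (fixt h (by rw [ac_smul, Tu]))
  have c3 : Commute (τ (hf v x • u)) (sg e τ 0 u (hf v x • x)) :=
    cst h ugx (by rw [hr, hx, mul_zero]) (by rw [hf_smul_left, hr, xu, mul_zero, mul_zero])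
  have h6 := jE (hf_symm uv) 0 (TT x)
  rw [Tu, Tv, inE (hf_zero_left x)] at h6
  calc _ = τ x * (sg e τ 0 u v * ((τ x)⁻¹ * t * τ x) * (sg e τ 0 u v)⁻¹) * (τ x)⁻¹ := by group
    _ = t * e (TT x) * (e (qq v u) * (sg e τ 0 u (hf v x • x) * τ (hf v x • u) * e (TT x))) *
        (sg e τ 0 u (hf v x • x) * τ (hf v x • u)) * e (Tc (δ * (hf v x * hf v x)) u) := by
      rw [h1, c t, h4, h2, c (t * _), c t, ht, h5, hs x v, c1.eq, mul_inv_cancel_right]
      simp only [mul_assoc]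
    _ = t * (e (TT x) * e (qq v u) * e (TT x)) * (sg e τ 0 u (hf v x • x) *
        (τ (hf v x • u) * sg e τ 0 u (hf v x • x)) * τ (hf v x • u)) *
          e (Tc (δ * (hf v x * hf v x)) u) := by
      rw [← c2.eq]; simp only [mul_assoc]
    _ = _ := by
      rw [c3.eq, ← mul_assoc (sg e τ 0 u _), h.ssq _ _ ugx, one_mul, tt h, mul_one, ← map_mul,
        ← map_mul, h6, map_mul, mul_assoc]

theorem exD (a : AW e t) (h : RA e τ 0) (ht : Tt e τ t) (b : RB e τ 0 δ) {u v x : Vn n F}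
    (hu : u ≠ 0) (uv : hf u v = 0) (ux : hf u x = 0) :
    ∃ y c, hf y u = 0 ∧ Dk e τ δ u v x (EE u y c) := by
  have uv' : hf u (v + hf v x • x) = 0 := by rw [hf_add_right, hr, uv, ux, mul_zero, add_zero]
  have c : ∀ a b g : G, g * (a * b) * g⁻¹ = g * a * g⁻¹ * (g * b * g⁻¹) := fun a b g => by group
  have hk := kt a h ht b uv ux
  have hm : sg e τ 0 u (v + hf v x • x) * τ ((rt δ * hf v x) • u) * t *
      (sg e τ 0 u (v + hf v x • x) * τ ((rt δ * hf v x) • u))⁻¹ =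
      t * e (qq (v + hf v x • x) u * Tc (δ * (hf v x * hf v x)) u) := by
    have e1 : TT ((rt δ * hf v x) • u) = Tc (δ * (hf v x * hf v x)) u := by
      rw [TT, Tc_smul, mul_one, nm, star_trivial, mul_mul_mul_comm, ← sq, rt_sq]
    calc _ = sg e τ 0 u (v + hf v x • x) * (τ ((rt δ * hf v x) • u) * t *
          (τ ((rt δ * hf v x) • u))⁻¹) * (sg e τ 0 u (v + hf v x • x))⁻¹ := by group
      _ = _ := by
        rw [ht, e1, c t, h.toR0.sv a.cen ht 0 u _ uv', ← (cQs h uv' (hf_zero_left u) _).eq,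
          mul_inv_cancel_right, map_mul, mul_assoc]
  have qk : ∀ y c, hf y u = 0 → Commute (e (EE u y c)) (τ x * sg e τ 0 u v * (τ x)⁻¹) := by
    intro y c q
    have h1 := cE h ux q c
    have h2 : Commute (τ x * e (EE u y c) * (τ x)⁻¹) (sg e τ 0 u v) := by
      rw [h1]
      exact (cQs h uv q c).mul_left ((css b (by rw [hr, ux, mul_zero]) uv).mul_left
        (cst h uv (by rw [hr, hx, mul_zero]) (by rw [hr, hs v u, uv, mul_zero])))
    have h3 := h2.eq
    rw [ti h] at h3 ⊢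
    show _ = _
    calc _ = τ x * (τ x * e (EE u y c) * τ x * sg e τ 0 u v) * τ x := by
          simp only [← mul_assoc, tt h, one_mul]
      _ = _ := by rw [h3]; simp only [mul_assoc, tt h, mul_one]
  have qm : ∀ y c, hf y u = 0 → Commute (e (EE u y c))
      (sg e τ 0 u (v + hf v x • x) * τ ((rt δ * hf v x) • u)) := fun y c q =>
    (cQs h uv' q c).mul_right (cQt h q c _)
  have uk : Commute (τ u) (τ x * sg e τ 0 u v * (τ x)⁻¹) :=
    ((ct h ux).mul_right (cst h uv (hx u) (hf_symm uv))).mul_right (ct h ux).inv_right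
  have um : Commute (τ u) (sg e τ 0 u (v + hf v x • x) * τ ((rt δ * hf v x) • u)) :=
    (cst h uv' (hx u) (hf_symm uv')).mul_right (ct h (by rw [hr, hx, mul_zero]))
  unfold Dk
  generalize τ x * sg e τ 0 u v * (τ x)⁻¹ = k at *
  generalize sg e τ 0 u (v + hf v x • x) * τ ((rt δ * hf v x) • u) = m at *
  obtain ⟨y, d, q, hy⟩ := a.vQ (m⁻¹ * k) u hu (by
    have : k * t * k⁻¹ = m * t * m⁻¹ := hk.trans hm.symm
    calc _ = m⁻¹ * (k * t * k⁻¹) * k := by group
      _ = _ := by rw [this]; group) fun y c q => ((qm y c q).inv_right.mul_right (qk y c q)).eq.symm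
  refine ⟨y, d, q, ?_⟩
  rcases hy with hy | hy
  · rw [(qm y d q).eq, ← hy, mul_inv_cancel_left]
  · exfalso
    have h1 : Commute (τ u) (t * e (EE u y d)) := hy ▸ um.inv_right.mul_right uk
    have h2 : Commute (e (EE u y d)) (τ u) := by simpa using cQt h q d 1
    have h3 : τ u * t * (τ u)⁻¹ = t := by
      have := h1.eq
      rw [mul_assoc, h2.eq, ← mul_assoc, ← mul_assoc] at this
      rw [mul_right_cancel this, mul_inv_cancel_right]
    rw [ht, mul_eq_left, ← map_one e] at h3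
    exact one_ne_zero (Tc_eq_one hu (FV.iso u) (star_trivial _) (a.inj h3))

theorem Dk.add (h : RA e τ 0) (b : RB e τ 0 δ) {u v x z : Vn n F} {p : XU n F}
    (d : Dk e τ δ u v x p) (uv : hf u v = 0) (ux : hf u x = 0) (uz : hf u z = 0) (zx : hf z x = 0) :
    Dk e τ δ u (v + z) x p := by
  have xu := hf_symm ux
  have uv' : hf u (v + hf v x • x) = 0 := by rw [hf_add_right, hr, uv, ux, mul_zero, add_zero]
  have h1 := mul b uv uz
  have h2 := mul b uv' uz
  rw [hf_add_left, hf_smul_left, hs x z, zx, mul_zero, add_zero, add_right_comm] at h2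
  have c : ∀ (y : Vn n F), hf u y = 0 → hf z y = 0 →
      Commute (τ y) (sg e τ 0 u z * (τ (rt (hf v z) • u) * e (Tc (δ * hf v z) u))⁻¹) :=
    fun y h1 h2 => (cst h uz h1 h2).mul_right ((ct h (by rw [hr, hs y u, h1, mul_zero])).mul_right
      (fixt h (by rw [aT, hs y u, h1, mul_zero, zero_smul, add_zero])).symm).inv_right
  have c1 := c x ux zx
  have c2 := c ((rt δ * hf v x) • u) (by rw [hr, hx, mul_zero]) (by rw [hr, hs z u, uz, mul_zero])
  unfold Dk at d ⊢
  rw [hf_add_left, zx, add_zero, ← mul_inv_eq_iff_eq_mul.2 h1, ← mul_inv_eq_iff_eq_mul.2 h2,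
    mul_assoc (sg e τ 0 u v), mul_assoc (sg e τ 0 u (v + _))]
  generalize sg e τ 0 u z * (τ (rt (hf v z) • u) * e (Tc (δ * hf v z) u))⁻¹ = W at *
  calc _ = τ x * sg e τ 0 u v * (τ x)⁻¹ * W := by
        rw [mul_assoc, mul_assoc, ← c1.inv_left.eq]; simp only [mul_assoc]
    _ = _ := by rw [d, mul_assoc _ W, ← c2.eq]; simp only [mul_assoc]

theorem Dk.conj (h : RA e τ 0) {u v x : Vn n F} {p : XU n F} (d : Dk e τ δ u v x p) (g : XU n F) :
    Dk e τ δ (ac g u) (ac g v) (ac g x) (g * p * g⁻¹) := by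
  unfold Dk at d ⊢
  rw [hf_ac, ← ac_smul, ← ac_smul, ← ac_add, ← h.toR0.sg_eqv, ← h.toR0.sg_eqv, ← h.eqv, ← h.eqv,
    map_mul, map_mul, map_inv]
  calc _ = e g * (τ x * sg e τ 0 u v * (τ x)⁻¹) * (e g)⁻¹ := by group
    _ = _ := by rw [d]; group

theorem Dk.uq (a : AW e t) {u v x : Vn n F} {p p' : XU n F} (d : Dk e τ δ u v x p)
    (d' : Dk e τ δ u v x p') : p = p' := a.inj (mul_right_cancel (d.symm.trans d'))

theorem exD2 [FW n F] (a : AW e t) (h : RA e τ 0) (ht : Tt e τ t) (b : RB e τ 0 δ)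
    {u v x : Vn n F} (hu : u ≠ 0) (uv : hf u v = 0) (ux : hf u x = 0) (g0 : hf v x ≠ 0) :
    ∃ r c : F, Dk e τ δ u v x (EE u (r • x) c) := by
  obtain ⟨y, c, q, d⟩ := exD a h ht b hu uv ux
  have h1 : ∀ z, hf u z = 0 → hf z x = 0 → hf y z = 0 := by
    intro z uz zx
    have d1 := d.conj h (TT z)
    rw [jE q, aT, aT, aT, aT, uz, hs x z, zx] at d1
    simp only [mul_zero, zero_smul, add_zero, one_mul] at d1
    have d2 := d.add h b (z := hf v z • z) uv ux (by rw [hr, uz, mul_zero])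
      (by rw [hf_smul_left, zx, mul_zero])
    obtain ⟨r, hr'⟩ := iE hu q (by rw [hf_add_left, hf_smul_left, q, hs z u, uz, mul_zero, add_zero])
      (d2.uq a d1)
    rw [← add_assoc, v_add_self, zero_add] at hr'
    have := congrArg (hf y) hr'
    rw [hr, hr, q, mul_zero] at this
    exact mul_self_eq_zero.1 this
  obtain ⟨r, hr'⟩ := FW.dual u (y + (hf y v * (hf v x)⁻¹) • x) hu fun z zu => by
    have := h1 (z + (hf z x * (hf v x)⁻¹) • v) (by
      rw [hf_add_right, hr, uv, hs u z, zu, mul_zero, add_zero]) (by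
      rw [hf_add_left, hf_smul_left, inv_mul_cancel_right₀ g0, cc])
    rw [hf_add_right, hr] at this
    rw [hf_add_right, hr, hs z y, ← this]
    ring
  refine ⟨hf y v * (hf v x)⁻¹, c, ?_⟩
  rw [← sh r, ← hr', add_comm y, ← add_assoc, v_add_self, zero_add]
  exact d

theorem key (h : RA e τ 0) {u u' v x : Vn n F} {p p' : XU n F} {r c : F}
    (uu : hf u u' = 0) (uv : hf u v = 0) (ux : hf u x = 0) (uv2 : hf u' v = 0) (ux2 : hf u' x = 0)
    (d : Dk e τ δ u v x p) (d2 : Dk e τ δ u' v x (EE u' (r • x) c)) (d3 : Dk e τ δ (u + u') v x p') :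
    e p' * sg e τ 0 u ((δ * (hf v x * hf v x)) • u') =
      e (p * EE u' (r • x) c) * sg e τ 0 u ((r * hf v x) • u') := by
  have ladd : ∀ w, hf u w = 0 → hf u' w = 0 →
      sg e τ 0 (u + u') w = sg e τ 0 u w * sg e τ 0 u' w := fun w h1 h2 => by
    rw [← sym h (u := u + u') (by rw [hf_add_left, h1, h2, add_zero]),
      h.sadd w u u' ⟨hf_symm h1, hf_symm h2, uu⟩, sym h h1, sym h h2]
  have w1 : hf u (v + hf v x • x) = 0 := by rw [hf_add_right, hr, uv, ux, mul_zero, add_zero]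
  have w2 : hf u' (v + hf v x • x) = 0 := by rw [hf_add_right, hr, uv2, ux2, mul_zero, add_zero]
  have wx : hf (v + hf v x • x) x = hf v x := by
    rw [hf_add_left, hf_smul_left, hx, mul_zero, add_zero]
  have q : hf (r • x) u' = 0 := by rw [hf_smul_left, hs x u', ux2, mul_zero]
  have e1 : rt δ * hf v x * (rt δ * hf v x) = δ * (hf v x * hf v x) := by
    rw [mul_mul_mul_comm, ← sq, rt_sq]
  unfold Dk at d d2 d3
  rw [ladd v uv uv2, ladd _ w1 w2, smul_add, tadd h, h.sscal _ _ _ (by rw [hr, uu, mul_zero]),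
    smul_smul, e1] at d3
  generalize v + hf v x • x = w at *
  generalize rt δ * hf v x = ρ at *
  have Eu : ac (EE u' (r • x) c) u = u :=
    ac_EE_fix (FV.ok _ _ _ q) uu (by rw [hr, ux, mul_zero])
  have h1 := h.toR0.sg_eqv 0 (EE u' (r • x) c)⁻¹ u w
  rw [inE q, Eu, ac_EE_perp (FV.ok _ _ _ q) (hf_symm w2), hr, wx] at h1
  have pu : ∀ a : F, hf u (a • u') = 0 := fun a => by rw [hr, uu, mul_zero]
  have pw : ∀ a : F, hf w (a • u') = 0 := fun a => by rw [hr, hs w u', w2, mul_zero]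
  rw [h.sadd u w _ ⟨w1, pu _, pw _⟩] at h1
  have h2 : e (EE u' (r • x) c) * e (EE u' (r • x) c) = 1 := by rw [← map_mul, sqE q, map_one]
  have h3 : sg e τ 0 u w * e (EE u' (r • x) c) =
      e (EE u' (r • x) c) * (sg e τ 0 u w * sg e τ 0 u ((r * hf v x) • u')) := by
    rw [← h1, inv_eq_of_mul_eq_one_right h2, ← mul_assoc, ← mul_assoc, h2, one_mul]
  have c1 : Commute (e (EE u' (r • x) c)) (τ (ρ • u)) := fixt h (by rw [ac_smul, Eu])
  have c2 : ∀ a : F, Commute (sg e τ 0 u w) (sg e τ 0 u (a • u')) := fun a => by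
    show _ = _
    rw [← h.sadd u w _ ⟨w1, pu _, pw _⟩, ← h.sadd u _ w ⟨pu _, w1, hf_symm (pw _)⟩, add_comm]
  have c3 : ∀ a : F, Commute (sg e τ 0 u' w) (sg e τ 0 u (a • u')) := fun a => by
    have au : hf u' (a • u) = 0 := by rw [hr, hs u' u, uu, mul_zero]
    have aw : hf w (a • u) = 0 := by rw [hr, hs w u, w1, mul_zero]
    rw [← h.sscal _ _ _ uu, sym h au]
    show _ = _
    rw [← h.sadd u' w _ ⟨w2, au, aw⟩, ← h.sadd u' _ w ⟨au, w2, hf_symm aw⟩, add_comm]
  have c4 : Commute (τ (ρ • u)) (sg e τ 0 u' w * τ (ρ • u')) :=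
    (cst h w2 (by rw [hr, hs u' u, uu, mul_zero]) (by rw [hr, hs w u, w1, mul_zero])).mul_right
      (ct h (by rw [hf_smul_left, pu, mul_zero]))
  apply mul_right_cancel (b := sg e τ 0 u w * sg e τ 0 u' w * τ (ρ • u') * τ (ρ • u))
  calc _ = e p' * (sg e τ 0 u ((δ * (hf v x * hf v x)) • u') * (sg e τ 0 u w * sg e τ 0 u' w) *
        τ (ρ • u') * τ (ρ • u)) := by simp only [mul_assoc]
    _ = τ x * (sg e τ 0 u v * sg e τ 0 u' v) * (τ x)⁻¹ := by
      rw [d3, ← ((c2 _).mul_left (c3 _)).eq]; simp only [mul_assoc]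
    _ = τ x * sg e τ 0 u v * (τ x)⁻¹ * (τ x * sg e τ 0 u' v * (τ x)⁻¹) := by group
    _ = e p * (sg e τ 0 u w * (τ (ρ • u) * e (EE u' (r • x) c))) * (sg e τ 0 u' w * τ (ρ • u')) := by
      rw [d, d2]; simp only [mul_assoc]
    _ = e p * (sg e τ 0 u w * e (EE u' (r • x) c)) * (τ (ρ • u) * (sg e τ 0 u' w * τ (ρ • u'))) := by
      rw [← c1.eq]; simp only [mul_assoc]
    _ = _ := by rw [h3, c4.eq, (c2 _).eq, map_mul]; simp only [mul_assoc]

theorem key2 (a : AW e t) (h : RA e τ 0) (ht : Tt e τ t) {u u' v x w : Vn n F} {p p' : XU n F}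
    {r c : F} (uu : hf u u' = 0) (uv : hf u v = 0) (ux : hf u x = 0) (uv2 : hf u' v = 0)
    (ux2 : hf u' x = 0) (g0 : hf v x ≠ 0) (h0 : u' ≠ 0) (wu : hf w u = 1) (wu' : hf w u' = 0)
    (d : Dk e τ δ u v x p) (d2 : Dk e τ δ u' v x (EE u' (r • x) c)) (d3 : Dk e τ δ (u + u') v x p') :
    r = δ * hf v x ∧ p' = p * EE u' (r • x) c := by
  have k := key h uu uv ux uv2 ux2 d d2 d3
  have pu : ∀ a : F, hf u (a • u') = 0 := fun a => by rw [hr, uu, mul_zero]
  have cj : ∀ (g : XU n F) (l : F), e g * sg e τ 0 u (l • u') * t * (e g * sg e τ 0 u (l • u'))⁻¹ =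
      t * e (g * qq (l • u') u * g⁻¹) := fun g l => by
    calc _ = e g * (sg e τ 0 u (l • u') * t * (sg e τ 0 u (l • u'))⁻¹) * (e g)⁻¹ := by group
      _ = _ := by
        rw [h.toR0.sv a.cen ht 0 u _ (pu l), ← mul_assoc, ← a.cen, map_mul, map_mul, map_inv]
        simp only [mul_assoc]
  have k2 : sg e τ 0 u ((δ * (hf v x * hf v x) + r * hf v x) • u') =
      e (p'⁻¹ * (p * EE u' (r • x) c)) := by
    rw [add_smul, h.sadd u _ _ ⟨pu _, pu _, by rw [hf_smul_left, hr, hx, mul_zero, mul_zero]⟩,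
      map_mul, map_inv, eq_inv_mul_iff_mul_eq, ← mul_assoc, k, mul_assoc, h.ssq _ _ (pu _), mul_one]
  have k3 := h.toR0.sv a.cen ht 0 u _ (pu (δ * (hf v x * hf v x) + r * hf v x))
  rw [k2, ← a.cen, mul_inv_cancel_right, left_eq_mul, ← map_one e] at k3
  have k4 := congrArg (fun g => ac g w) (a.inj k3)
  simp only [ac_one] at k4
  rw [aE (hf_symm (pu _)), hr, wu, wu', mul_zero, zero_mul, zero_smul, add_zero, add_zero,
    one_smul, add_eq_left, smul_eq_zero] at k4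
  have k5 : r * hf v x = δ * (hf v x * hf v x) := by
    have := k4.resolve_right h0
    rw [← add_zero (r * _), ← this, add_left_comm, cc, add_zero]
  refine ⟨mul_right_cancel₀ g0 (by rw [k5, mul_assoc]), a.inj ?_⟩
  rw [k5] at k
  exact mul_right_cancel k

theorem frm [FW n F] [hp : H67.SP.Par n F] {u v x : Vn n F} (hu : u ≠ 0) (uv : hf u v = 0)
    (ux : hf u x = 0) (g0 : hf v x ≠ 0) : ∃ u' w w' : Vn n F, hf u u' = 0 ∧ hf u' v = 0 ∧
      hf u' x = 0 ∧ hf w u = 1 ∧ hf w u' = 0 ∧ hf w x = 0 ∧ hf w' u = 0 ∧ hf w' x = 0 ∧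
        hf w' u' = 1 := by
  have h5 := hp.five
  obtain ⟨g, g1, g2, g3⟩ := FW.wh1 u ((hf v x)⁻¹ • v) x (by rw [hr, uv, mul_zero]) ux hu
    (by rw [hf_smul_left, inv_mul_cancel₀ g0])
  have hv : v = hf v x • ac g (ev 1) := by rw [g2, smul_smul, mul_inv_cancel₀ g0, one_smul]
  have o1 := v1 (n := n) (F := F)
  refine ⟨ac g (ev ⟨2, by omega⟩), ac g (ev ⟨n, by omega⟩), ac g (ev ⟨n - 2, by omega⟩), ?_, ?_, ?_,
    ?_, ?_, ?_, ?_, ?_, ?_⟩
  · rw [← g1, hf_ac, hfe, if_neg (by simp; omega)]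
  · rw [hv, hr, hf_ac, hfe, if_neg (by simp only [o1]; omega), mul_zero]
  · rw [← g3, hf_ac, hfe, if_neg (by simp only [Fin.val_rev, o1]; omega)]
  · rw [← g1, hf_ac, hfe, if_pos (by simp)]
  · rw [hf_ac, hfe, if_neg (by simp)]
  · rw [← g3, hf_ac, hfe, if_neg (by simp only [Fin.val_rev, o1]; omega)]
  · rw [← g1, hf_ac, hfe, if_neg (by simp; omega)]
  · rw [← g3, hf_ac, hfe, if_neg (by simp only [Fin.val_rev, o1]; omega)]
  · rw [hf_ac, hfe, if_pos (by simp only; omega)]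

theorem cS [FW n F] [hp : H67.SP.Par n F] (a : AW e t) (h : RA e τ 0) (ht : Tt e τ t)
    (b : RB e τ 0 δ) (u v x : Vn n F) (uv : hf u v = 0) (ux : hf u x = 0) :
    τ x * sg e τ 0 u v * (τ x)⁻¹ = e (qq ((δ * hf v x) • x) u) * sg e τ 0 u (v + hf v x • x) *
      τ ((rt δ * hf v x) • u) := by
  by_cases g0 : hf v x = 0
  · rw [g0, mul_zero, mul_zero, zero_smul, zero_smul, add_zero, q00, map_one, one_mul, h.zero,
      mul_one, (cst h uv ux g0).eq, mul_inv_cancel_right]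
  by_cases hu : u = 0
  · have z : ∀ w, sg e τ 0 0 w = 1 := fun w => by rw [sg0, zero_add, h.zero, mul_one, tt h]
    rw [hu, z, z, smul_zero, h.zero, qq, EE_zero_left, map_one, mul_one, mul_one, mul_one,
      mul_inv_cancel]
  obtain ⟨u', w, w', uu, uv2, ux2, wu, wu', wx, w'u, w'x, w'u'⟩ := frm hu uv ux g0
  have h0 : u' ≠ 0 := fun h => by rw [h, hf_zero_right] at w'u'; exact zero_ne_one w'u'
  have h1 : u + u' ≠ 0 := fun h => by
    have := hf_add_right w u u'
    rw [h, hf_zero_right, wu, wu', add_zero] at this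
    exact zero_ne_one this
  have s1 : hf (u + u') x = 0 := by rw [hf_add_left, ux, ux2, add_zero]
  obtain ⟨r1, c1, d1⟩ := exD2 a h ht b hu uv ux g0
  obtain ⟨r2, c2, d2⟩ := exD2 a h ht b h0 uv2 ux2 g0
  obtain ⟨r3, c3, d3⟩ := exD2 a h ht b h1 (by rw [hf_add_left, uv, uv2, add_zero]) s1 g0
  have k1 := (key2 a h ht uu uv ux uv2 ux2 g0 h0 wu wu' d1 d2 d3).2
  have k2 := (key2 a h ht (hf_symm uu) uv2 ux2 uv ux g0 hu w'u' w'u d2 d1
    (by rw [add_comm u' u]; exact d3)).1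
  have q : ∀ (r : F) (y : Vn n F), hf y x = 0 → hf (r • x) y = 0 := fun r y hy => by
    rw [hf_smul_left, hs x y, hy, mul_zero]
  have k3 := congrArg (fun g => ac g w) k1
  simp only [ac_mul] at k3
  rw [ac_EE_fix (FV.ok _ _ _ (q r2 u' ux2)) wu' (by rw [hr, wx, mul_zero]), aE (q _ _ s1),
    aE (q _ _ ux)] at k3
  have k4 := congrArg (hf w) k3
  have k5 := congrArg (hf w') k3
  simp only [hf_add_right, hr, wu, wu', wx, w'u, w'x, w'u', mul_zero, add_zero, mul_one, zero_add,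
    hx, add_eq_left] at k4 k5
  rw [← k4, k5, k2] at d1
  exact d1.trans (mul_assoc _ _ _).symm

theorem jobTD : JobTD.{u} := fun _ _ _ _ _ _ _ _ _ _ _ _ _ _ _ a _ _ h ht b =>
  ⟨h, b, cS a h ht b⟩

end H83.SP3TD
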