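import Cfsg.Agent.H67.P6.H67_SPIII
import Cfsg.Agent.H85.P6.H72_SPFR

namespace H57 end H57
open H57
namespace H94 end H94
open H94
namespace H85.P6 end H85.P6
open H85.P6
namespace H85.P6.H57 end H85.P6.H57
open H85.P6.H57
namespace H85.P6.H94 end H85.P6.H94
open H85.P6.H94
namespace H85.P6.H94.SP3 end H85.P6.H94.SP3
open H85.P6.H94.SP3
namespace H67.P6


/-! STD-SP (row S3129), chapter III, slot `TB`: the product in `Q*_u`. -/

set_option autoImplicit false
set_option linter.unusedSectionVars false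

namespace H94.SP3

open Matrix H57 Subgroup H67.UA H67.SP H72.SPF

universe u

variable {n : ℕ} {F : Type} [Field F] [StarRing F] [TrivialStar F] [CharP F 2] [Finite F] [FV n F]
  {G : Type u} [Group G] {e : XU n F →* G} {t : G} {τ : Vn n F → G} {β : F} {u v w x y z : Vn n F}
  {m m' : XU n F}

theorem p3 (huv : hf u v = 0) (a : F) : P3 u v (a • u) :=
  ⟨huv, by rw [hr, hx, mul_zero], by rw [hr, hf_symm huv, mul_zero]⟩

theorem T_smul (a c : F) (u : Vn n F) : Tc c (a • u) = Tc (a ^ 2 * c) u := by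
  rw [Tc_smul, nm, star_trivial, pow_two]

theorem T_add (a b : F) (u : Vn n F) : Tc a u * Tc b u = Tc (a + b) u :=
  (Tc_add (hx u) (star_trivial a) (star_trivial b)).symm

theorem T_inj (hu : u ≠ 0) {a b : F} (h : Tc a u = Tc b u) : a = b := by
  have := Tc_eq_one hu (hx u) (star_trivial (a + b)) (by rw [← T_add, h, T_add, cc, Tc, EE_zero])
  rwa [CharTwo.add_eq_zero] at this

variable (e τ β) in
/-- The defect of additivity. -/
def Rl (u v w : Vn n F) (m : XU n F) : Prop :=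
  sg e τ β u v * sg e τ β u w * sg e τ β u (v + w) = τ (rt ((1 + β) * hf v w) • u) * e m

theorem Rl.uniq (i : Function.Injective e) (a : Rl e τ β u v w m) (b : Rl e τ β u v w m') : m = m' :=
  i (mul_left_cancel (a.symm.trans b))

variable (h : RA e τ β)
include h

theorem cjE (huv : hf u v = 0) (hx' : hf x u = 0) (c : F) :
    e (EE u x c) * sg e τ β u v = sg e τ β u v * e (Tc (β * hf v x) u) * e (EE u x c) := by
  rw [← mul_inv_eq_iff_eq_mul, h.toR1.toR0.sg_eqv, ac_EE_self (FV.ok _ _ _ hx'),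
    ac_EE_perp (FV.ok _ _ _ hx') (hf_symm huv), h.sadd _ _ _ (p3 huv _), h.shift]

theorem cT (huv : hf u v = 0) (c : F) : e (Tc c u) * sg e τ β u v = sg e τ β u v * e (Tc c u) := by
  simpa using cjE h huv (hf_zero_left u) c

theorem act (hc : ∀ g, t * e g = e g * t) (ht : Tt e τ t) (huw : hf u w = 0) (hy : hf y u = 0) (c : F) :
    sg e τ β u w * (t * e (EE u y c)) * (sg e τ β u w)⁻¹ =
      t * e (EE u (w + y) (c + (1 + β) * hf w y)) := by
  have k : sg e τ β u w * e (EE u y c) * (sg e τ β u w)⁻¹ = e (Tc (β * hf w y) u * EE u y c) := by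
    rw [inv_eq_of_mul_eq_one_right (h.ssq _ _ huw), mul_assoc, cjE h huw hy, ← mul_assoc,
      ← mul_assoc, h.ssq _ _ huw, one_mul, map_mul]
  rw [← conj_mul, h.toR1.toR0.sv hc ht β u w huw, k, mul_assoc, ← map_mul,
    mE' (hf_zero_left u) hy, mE' (hf_symm huw) (by rwa [zero_add]), zero_add y, hf_zero_right, hs y w]
  congr 3; ring

theorem ex (a : AW e t) (ht : Tt e τ t) (hu : u ≠ 0) (huv : hf u v = 0) (huw : hf u w = 0) :
    ∃ x c, hf x u = 0 ∧ Rl e τ β u v w (EE u x c) := by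
  have hvw : hf u (v + w) = 0 := by rw [hf_add_right, huv, huw, add_zero]
  have f : ∀ (r : F) x c, hf x u = 0 → Commute (τ (r • u)) (e (EE u x c)) := fun r x c k =>
    (h.toR1.toR0.fix (by rw [ac_smul, ac_EE_self (FV.ok _ _ _ k)])).symm
  have l : ∀ {v}, hf u v = 0 → Commute (τ u) (sg e τ β u v) := fun k => by
    simpa [Commute, SemiconjBy] using h.stau _ _ _ (p3 k 1)
  have g : ∀ x c, hf x u = 0 →
      Commute (sg e τ β u v * sg e τ β u w * sg e τ β u (v + w)) (e (EE u x c)) := fun x c k => by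
    have q : ∀ {v}, hf u v = 0 → ∀ d, e (EE u x c) * e (Tc d u) * sg e τ β u v =
        sg e τ β u v * (e (EE u x c) * e (Tc (d + β * hf v x) u)) := fun {v} r d => by
      rw [mul_assoc, cT h r, ← mul_assoc, cjE h r k, mul_assoc, mul_assoc, ← map_mul, ← map_mul,
        ← map_mul, mE' k (hf_zero_left u), mE' k (hf_zero_left u), mE' (hf_zero_left u) (by
          rwa [add_zero])]
      simp [add_comm, add_assoc]
    have := q huv 0
    rw [Tc, EE_zero, map_one, mul_one] at this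
    rw [Commute, SemiconjBy, eq_comm, ← mul_assoc, ← mul_assoc, this, mul_assoc _ _ (sg e τ β u w),
      q huw, mul_assoc _ _ (sg e τ β u (v + w)), mul_assoc _ _ (sg e τ β u (v + w)), q hvw,
      hf_add_left, zero_add, ← mul_add, cc, Tc, EE_zero, map_one, mul_one, mul_assoc, mul_assoc]
  obtain ⟨x, c, k1, k2⟩ := a.vQ ((τ (rt ((1 + β) * hf v w) • u))⁻¹ *
      (sg e τ β u v * sg e τ β u w * sg e τ β u (v + w))) u hu (by
    have k : ∀ a b c t : G, a * b * c * t * (a * b * c)⁻¹ = a * (b * (c * t * c⁻¹) * b⁻¹) * a⁻¹ :=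
      fun a b c t => by group
    rw [← mul_inv_eq_iff_eq_mul, _root_.mul_inv_rev, inv_inv, mul_assoc _ _ t, ← mul_assoc,
      mul_assoc _⁻¹, k, h.toR1.toR0.sv a.cen ht β u _ hvw, act h a.cen ht huw (hf_symm hvw),
      add_comm v w, ← add_assoc, v_add_self, zero_add, act h a.cen ht huv (hf_symm huv), v_add_self,
      hf_add_right, hx, hx, hs w v, mul_zero, add_zero, zero_add, zero_add, mul_assoc,
      inv_mul_eq_iff_eq_mul, ← eq_mul_inv_iff_mul_eq, ht, TT, T_smul, rt_sq, mul_one])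
    fun x c k => ((f _ x c k).inv_left.mul_left (g x c k)).eq
  refine ⟨x, c, k1, k2.elim (fun k => inv_mul_eq_iff_eq_mul.1 k) fun k => ?_⟩
  have c1 : Commute (τ u) (τ (rt ((1 + β) * hf v w) • u)) := by
    have h1 := h.nadd 1 (rt ((1 + β) * hf v w)) u
    have h2 := h.nadd (rt ((1 + β) * hf v w)) 1 u
    rw [one_smul] at h1 h2
    rw [Commute, SemiconjBy, h1, h2, add_comm (1 : F), mul_right_comm β]
  have c2 := c1.inv_right.mul_right (((l huv).mul_right (l huw)).mul_right (l hvw))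
  have c3 := f 1 x c k1
  rw [one_smul] at c3
  rw [k, Commute, SemiconjBy, mul_assoc, ← c3.eq, ← mul_assoc, ← mul_assoc, mul_left_inj,
    ← mul_inv_eq_iff_eq_mul, ht, mul_eq_left, map_eq_one_iff _ a.inj] at c2
  exact absurd (Tc_eq_one hu (hx u) (star_one F) c2) one_ne_zero

theorem Rl.eqv (a : Rl e τ β u v w m) (g : XU n F) :
    Rl e τ β (ac g u) (ac g v) (ac g w) (g * m * g⁻¹) := by
  rw [Rl, ← ac_add, ← h.toR1.toR0.sg_eqv, ← h.toR1.toR0.sg_eqv, ← h.toR1.toR0.sg_eqv, conj_mul,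
    conj_mul, a, hf_ac, ← ac_smul, ← h.eqv, map_mul, map_mul, map_inv, conj_mul]

theorem Rl.add (a : Rl e τ β u v w m) (huv : hf u v = 0) (huw : hf u w = 0) (h1 : hf u z = 0)
    (h2 : hf v z = 0) (h3 : hf w z = 0) : Rl e τ β u (v + z) w m ∧ Rl e τ β u v (w + z) m := by
  have hvw : hf u (v + w) = 0 := by rw [hf_add_right, huv, huw, add_zero]
  have k : sg e τ β u (v + w + z) = sg e τ β u z * sg e τ β u (v + w) := by
    rw [add_comm, h.sadd _ _ _ ⟨h1, hvw, by rw [hf_add_right, hf_symm h2, hf_symm h3, add_zero]⟩]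
  have k' : sg e τ β u z * sg e τ β u w = sg e τ β u w * sg e τ β u z := by
    rw [← h.sadd _ _ _ ⟨h1, huw, hf_symm h3⟩, add_comm, h.sadd _ _ _ ⟨huw, h1, h3⟩]
  have q : ∀ g, sg e τ β u z * (sg e τ β u z * g) = g := fun g => by
    rw [← mul_assoc, h.ssq _ _ h1, one_mul]
  constructor
  · rw [Rl, add_right_comm, k, h.sadd _ _ _ ⟨huv, h1, h2⟩, hf_add_left, hf_symm h3, add_zero, ← a,
      mul_assoc _ (sg e τ β u z), k', mul_assoc, mul_assoc, q, mul_assoc]
  · rw [Rl, ← add_assoc, k, h.sadd _ _ _ ⟨huw, h1, h3⟩, hf_add_right, h2, add_zero, ← a,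
      mul_assoc, mul_assoc, q, mul_assoc]

theorem Rl.zero (huv : hf u v = 0) (huw : hf u w = 0) (hvw : hf v w = 0) :
    Rl e τ β u v w (Tc 0 u) := by
  rw [Rl, ← h.sadd _ _ _ ⟨huv, huw, hvw⟩, h.ssq _ _ (by rw [hf_add_right, huv, huw, add_zero]), hvw,
    mul_zero, show rt (0 : F) = 0 from sq_inj (by rw [rt_sq]; simp), zero_smul, h.zero, Tc, EE_zero,
    map_one, mul_one]

variable [FW n F] [hp : H67.SP.Par n F]

omit h in
include hp in
theorem exz (hu : u ≠ 0) (huv : hf u v = 0) (huw : hf u w = 0) (hvw : hf v w ≠ 0) :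
    ∃ z, hf u z = 0 ∧ hf v z = 0 ∧ hf w z = 0 ∧ ∀ a b : F, a • z = b • u → a = 0 := by
  have := hp.five
  obtain ⟨g, rfl, rfl, g3⟩ := FW.wh1 u v ((hf v w)⁻¹ • w) huv (by rw [hr, huw, mul_zero]) hu
    (by rw [hr, inv_mul_cancel₀ hvw])
  refine ⟨ac g (ev ⟨2, by omega⟩), ?_, ?_, ?_, fun a b k => ?_⟩
  · rw [hf_ac, hfe, if_neg (by simp; omega)]
  · rw [hf_ac, hfe, v1 (F := F), if_neg (by simp; omega)]
  · refine (mul_eq_zero.1 ?_).resolve_left (inv_ne_zero hvw)
    rw [← hf_smul_left, ← g3, hf_ac, hfe, Fin.val_rev, v1 (F := F), if_neg (by simp; omega)]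
  · rw [← ac_smul, ← ac_smul] at k
    simpa [ev_apply, Fin.ext_iff] using congrFun (ac_inj g k) ⟨2, by omega⟩

theorem exT (a : AW e t) (ht : Tt e τ t) (hu : u ≠ 0) (huv : hf u v = 0) (huw : hf u w = 0) :
    ∃ c, Rl e τ β u v w (Tc c u) := by
  by_cases hvw : hf v w = 0
  · exact ⟨0, Rl.zero h huv huw hvw⟩
  obtain ⟨x, c, k, r⟩ := ex h a ht hu huv huw
  have key : ∀ g, ac g u = u → Rl e τ β u (ac g v) (ac g w) (EE u x c) →
      ∃ b : F, ac g x + x = b • u := fun g g1 g2 => by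
    have := r.eqv h g
    rw [jE k, g1] at this
    exact iE hu (by rw [← g1, hf_ac, k]) k (this.uniq a.inj g2)
  have k1 : ∀ z, hf u z = 0 → hf v z = 0 → hf w z = 0 → hf x z = 0 := fun z h1 h2 h3 => by
    obtain ⟨b, hb⟩ := key (TT z) (by simp [aT, h1]) (by simpa [aT, h2, h3] using r)
    rw [aT, add_right_comm, v_add_self, zero_add, one_mul] at hb
    have := congrArg (hf x) hb
    rwa [hr, hr, k, mul_zero, mul_self_eq_zero] at this
  obtain ⟨z, h1, h2, h3, h4⟩ := exz hu huv huw hvw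
  have s : ∀ {y}, hf y z = 0 → ∀ c : F, hf y (c • z) = 0 := fun k c => by rw [hr, k, mul_zero]
  have k2 : hf x w = 0 := by
    obtain ⟨b, hb⟩ := key (EE w z 0) (by simp [aE (hf_symm h3), h1, huw]) (by
      simpa [aE (hf_symm h3), h2, h3, hx] using (r.add h huv huw (s h1 _) (s h2 _) (s h3 _)).1)
    exact h4 _ b (by simpa [aE (hf_symm h3), k1 z h1 h2 h3, add_right_comm x] using hb)
  have k3 : hf x v = 0 := by
    obtain ⟨b, hb⟩ := key (EE v z 0) (by simp [aE (hf_symm h2), h1, huv]) (by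
      simpa [aE (hf_symm h2), h2, h3, hx] using (r.add h huv huw (s h1 _) (s h2 _) (s h3 _)).2)
    exact h4 _ b (by simpa [aE (hf_symm h2), k1 z h1 h2 h3, add_right_comm x] using hb)
  obtain ⟨b, rfl⟩ := FW.dual u x hu fun y hy => by
    have := k1 (y + (hf y w / hf v w) • v + (hf y v / hf v w) • w)
      (by simp [hf_add_right, hr, hf_symm hy, huv, huw])
      (by simp [hf_add_right, hr, hx, hvw, hs v y, cc])
      (by simp [hf_add_right, hr, hx, hvw, hs w y, hs w v, cc])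
    simpa [hf_add_right, hr, k2, k3, hs x y] using this
  exact ⟨c, sh0 b u c ▸ r⟩

theorem exD (a : AW e t) (ht : Tt e τ t) : ∃ δ, ∀ u v w : Vn n F, u ≠ 0 → hf u v = 0 → hf u w = 0 →
    Rl e τ β u v w (Tc (δ * hf v w) u) := by
  have := hp.five
  have o1 : hf (ev 0 : Vn n F) (ev 1) = 0 := by rw [hfe, v1 (F := F), if_neg (by simp; omega)]
  have o2 : ∀ c : F, hf (ev 0 : Vn n F) (c • ev (1 : Fin (n + 1)).rev) = 0 := fun c => by
    rw [hr, hfe, Fin.val_rev, v1 (F := F), if_neg (by simp; omega), mul_zero]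
  choose f hf' using fun c : F => exT h a ht (ev_ne 0) o1 (o2 c)
  have key : ∀ u v w : Vn n F, u ≠ 0 → hf u v = 0 → hf u w = 0 → hf v w ≠ 0 →
      Rl e τ β u v w (Tc (f (hf v w)) u) := fun u v w hu huv huw hvw => by
    obtain ⟨g, g1, g2, g3⟩ := FW.wh1 u v ((hf v w)⁻¹ • w) huv (by rw [hr, huw, mul_zero]) hu
      (by rw [hr, inv_mul_cancel₀ hvw])
    have := (hf' (hf v w)).eqv h g
    rwa [jT, ac_smul, g1, g2, g3, smul_smul, mul_inv_cancel₀ hvw, one_smul] at this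
  refine ⟨f 1, fun u v w hu huv huw => ?_⟩
  by_cases hvw : hf v w = 0
  · rw [hvw, mul_zero]; exact Rl.zero h huv huw hvw
  obtain ⟨l, hl⟩ : ∃ l, l ^ 2 = hf v w := ⟨_, rt_sq _⟩
  have l0 : l ≠ 0 := by rintro rfl; exact hvw (by rw [← hl]; simp)
  have e1 : hf (l⁻¹ • v) (l⁻¹ • w) = 1 := by rw [hr, hf_smul_left, ← hl]; field_simp
  have q : ∀ {v}, hf u v = 0 → hf u (l⁻¹ • v) = 0 := fun k => by rw [hr, k, mul_zero]
  have := key (l • u) (l⁻¹ • v) (l⁻¹ • w) (smul_ne_zero l0 hu) (by rw [hf_smul_left, q huv, mul_zero])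
    (by rw [hf_smul_left, q huw, mul_zero]) (e1 ▸ one_ne_zero)
  rw [Rl, ← smul_add, h.sscal _ _ _ (q huv), h.sscal _ _ _ (q huw), h.sscal _ _ _ (q (by
    rw [hf_add_right, huv, huw, add_zero])), smul_inv_smul₀ l0, smul_inv_smul₀ l0, smul_inv_smul₀ l0,
    e1, T_smul, smul_smul, hl, mul_comm (hf v w)] at this
  rwa [Rl, show rt ((1 + β) * hf v w) = rt ((1 + β) * 1) * l from sq_inj (by
    rw [mul_pow, rt_sq, rt_sq, hl, mul_one])]

theorem rb (a : AW e t) (ht : Tt e τ t) : ∃ δ, RB e τ β δ := by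
  obtain ⟨δ, k⟩ := exD h a ht
  refine ⟨δ, fun u v w huv huw => ?_⟩
  have hvw : hf u (v + w) = 0 := by rw [hf_add_right, huv, huw, add_zero]
  by_cases hu : u = 0
  · have z : ∀ v, sg e τ β u v = 1 := fun v => by
      have h1 := h.sscal 0 0 v (hf_zero_left v)
      have h2 := h.shift 0 0
      simp only [zero_smul, mul_zero, EE_zero, map_one] at h1 h2
      rw [hu, h1, h2]
    have := T_smul 0 (δ * hf v w) u
    rw [z, z, z, hu, smul_zero, h.zero, ← zero_smul F u, this]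
    simp
  rw [eq_mul_inv_of_mul_eq (k u v w hu huv huw), inv_eq_of_mul_eq_one_right (h.ssq _ _ hvw),
    mul_assoc, cT h hvw, ← mul_assoc, h.stau _ _ _ (p3 hvw _)]

end H94.SP3

namespace H94.SP3

open Matrix H57 Subgroup H67.UA H67.SP H72.SPF

universe u

theorem jobTB : JobTB.{u} := by
  intro n F _ _ _ _ _ hp G _ _ e t b _ a τ β h ht
  obtain ⟨δ, k⟩ := rb h a ht
  refine ⟨?_, δ, k⟩
  obtain ⟨v, w, -, -, h1, h2, -, -, h3, -⟩ := frame (ev_ne (0 : Fin (n + 1)) : (ev 0 : Vn n F) ≠ 0)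
  replace h1 := hf_symm h1
  replace h2 := hf_symm h2
  have h4 : hf (ev 0) (v + w) = 0 := by rw [hf_add_right, h1, h2, add_zero]
  have k1 := k _ _ _ h1 h2
  have k2 := k _ _ _ h4 h2
  rw [hf_add_left, hx, add_zero, add_assoc, v_add_self, add_zero] at k2
  rw [h3, mul_one, mul_one] at k1 k2
  have k3 := congrArg (· * sg e τ β (ev 0) w) k1
  simp only [mul_assoc] at k3 k2
  rw [h.ssq _ _ h2, cT h h2, ← mul_assoc (τ _), h.stau _ _ _ (p3 h2 _), mul_assoc, ← mul_assoc (sg _ _ _ _ _),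
    k2, mul_assoc, mul_right_inj, mul_assoc, ← mul_assoc (e _), h.toR1.toR0.fix (by
      rw [aT, hf_smul_left, hx]; simp), mul_assoc, ← map_mul, T_add, cc, Tc, EE_zero, map_one, mul_one,
    h.sq, eq_comm, map_eq_one_iff _ a.inj, T_smul, rt_sq] at k3
  rcases mul_eq_zero.1 (Tc_eq_one (ev_ne 0) (hx _) (star_trivial _) k3) with r | r
  exacts [.inr (CharTwo.add_eq_zero.1 r).symm, .inl r]

end H94.SP3
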