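/- S3129, wreath endgame: the slots WU, W3, WE (ports of `H86/WRWU`, `H86/WRWE`). -/
import Cfsg.Agent.H67.P6.H67_SWDef
import Cfsg.Agent.H86.SAWE
import Cfsg.Agent.H81.W2O

namespace H95 end H95
open H95
namespace H98 end H98
open H98
namespace H85.P6 end H85.P6
open H85.P6
namespace H85.P6.H95 end H85.P6.H95
open H85.P6.H95
namespace H85.P6.H95.SW end H85.P6.H95.SW
open H85.P6.H95.SW
namespace H85.P6.H98 end H85.P6.H98
open H85.P6.H98
namespace H67.P6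


set_option autoImplicit false
set_option linter.unusedSectionVars false

namespace H95.SW
export H64.SG (cjs)
export H67.SA (mem_cjs)
export H98 (conj_mem_of_mem_normalizer)

open H64.SG (O2 Syl Cz Cs Ns cjs Is2 Inv2 UF IsO2 fx mem_Cs mem_Cz mem_fx is2_of_sq)
open H67.SA (St cI cm mem_cjs conj_mem_cjs cm_eq_one)
open H86.SAWE (exists_step nor_of)
open H67.SW (JobSW JobWU JobW1 JobN2 JobNK JobNU JobW3 JobWE)
open H86.WR hiding JobSW JobWU JobW1 JobNU JobW3 JobWE jobWU jobW3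
open H59.SO hiding JobWU JobW3 JobWE
open Subgroup Function H98
open scoped commutatorElement

universe u

theorem jobWU : JobWU.{u} := by
  intro hSW X _ _ U D A w G _ _ e t h e₁ e₂ c
  have w0 := H67.SW.w0 X U D A w G e t h e₁ e₂ c
  have sw := hSW X U D A w G e t h e₁ e₂ c
  have uf : UF (Ns (G12 e₁ e₂)) t := ⟨h.inv, t_mem c h.inv.1, fun g hg =>
    w0.ufs g (sw _ hg (isConj_iff.2 ⟨g, rfl⟩))⟩
  have tx : ∀ g, g * g = 1 → IsConj t (t * e g) := fun g hg =>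
    isConj_iff.2 ⟨e₁ g, by rw [c.conj_t hg, h.comm]⟩
  let V : Fin 3 → Subgroup X := ![U, D, A]
  have v1 : ∀ j, V j ≤ U ∧ U ≤ Ns (V j) := fun j => by
    fin_cases j
    exacts [⟨le_rfl, le_normalizer⟩, ⟨w.leU (.inl rfl), le_normalizer.trans (w.nor (.inl rfl))⟩,
      ⟨w.leU (.inr rfl), le_normalizer.trans (w.nor (.inr rfl))⟩]
  let S : Fin 3 → Set G := fun j => e '' {v | v * v = 1 ∧ v ∈ Ns (V j)}
  have s1 : ∀ j, ∀ p ∈ Ns (V j), ∀ u ∈ U, e (p * u * p⁻¹) ∈ closure (S j) := fun j p hp u hu => by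
    have : closure {x | x * x = 1 ∧ ∃ N ≤ U, x ∈ N ∧ St U ≤ St N ∧ ⁅⁅N, N⁆, N⁆ = ⊥} ≤
        (closure (S j)).comap (e.comp (MulAut.conj p).toMonoidHom) :=
      (closure_le _).2 fun x ⟨h1, N, h2, h3, _⟩ =>
        subset_closure ⟨p * x * p⁻¹, ⟨by rw [conj_mul, h1]; simp,
          mul_mem (mul_mem hp ((v1 j).2 (h2 h3))) (inv_mem hp)⟩, rfl⟩
    exact this (w.cl hu)
  obtain ⟨z, -, z0, z1⟩ := w.exZ
  have key := H64.SG.jobK9 uf (Cs (G12 e₁ e₂)) e.range 0 (fun j => (V j).map e) S w0.odd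
    (H64.SG.Cs_le_Ns _) (c.range_le.trans le_normalizer) h.range_le
    (c.range_le.trans fun a ha b hb => (hb a ha).symm) (fun j => map_mono (v1 j).1)
    (map_le_range _ _) (w.syl.2.1.map e) (by
      rintro j _ ⟨v, hv, rfl⟩
      exact ⟨⟨v, rfl⟩, by rw [← map_mul, hv.1, map_one], map_mem_Ns hv.2, tx v hv.1⟩)
    (by rintro j _ ⟨u, hu, rfl⟩; simpa using s1 j 1 (one_mem _) u hu) (by
      rintro _ ⟨a, rfl⟩
      have : closure {g | ∃ u ∈ U, ∃ p, (p ∈ Ns D ∨ p ∈ Ns A) ∧ g = p * u * p⁻¹} ≤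
          (closure (⋃ j, S j)).comap e := (closure_le _).2 (by
        rintro _ ⟨u, hu, p, hp | hp, rfl⟩
        · exact closure_mono (Set.subset_iUnion S 1) (s1 1 p hp u hu)
        · exact closure_mono (Set.subset_iUnion S 2) (s1 2 p hp u hu))
      exact this (w.top.ge (mem_top a)))
    (fun j m m1 m2 => by
      fin_cases j
      · have := cM w.ns c h.toB1 w0 le_rfl (w.ct D (.inl rfl)) m1
          (centralizer_le (map_mono (w.leU (.inl rfl))) m2)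
        exact ⟨fun k => map_mono (w.leU (.inl rfl)) (this.1 k), this.2⟩
      · exact cM w.ns c h.toB1 w0 le_rfl (w.ct D (.inl rfl)) m1 m2
      · exact cM w.ns c h.toB1 w0 le_rfl (w.ct A (.inr rfl)) m1 m2)
    fun o o1 o2 => H64.SG.Cs_le_Ns _ (gen w.ns c z0 z1 o1 o2)
  exact ⟨⟨uf, c.range_le, w0.odd, tx⟩, w0.ne, w0.pm, w0.chg, w0.ufs, key 1, key 2, sw⟩

theorem jobW3 : JobW3.{u} := by
  intro X _ _ U D A w G _ _ e t b e₁ e₂ c g y y1 y0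
  have tt := b.inv.1
  have ti := b.inv_eq
  have yy := w.sq y y1
  have e1 : e₁ y * e₁ y = 1 := by rw [← map_mul, yy, map_one]
  have dd : e₁ y * t * (e₁ y * t) = e₁ y * e₂ y := by rw [← c.sw, ti]; group
  have d4 : Is2 (e₁ y * t) := H64.SG.Is2.of_pow (k := 1) (by
    rw [pow_one, pow_two, dd]
    exact is2_of_sq (by rw [c.mul_mul, yy, map_one, map_one, mul_one]))
  have di : t * (e₁ y * t) * t⁻¹ = (e₁ y * t)⁻¹ := by
    rw [mul_inv_rev, ti, inv_eq_of_mul_eq_one_right e1, mul_assoc, mul_assoc, tt, mul_one]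
  have dM : e₁ y * t ∈ Ns (G12 e₁ e₂) :=
    mul_mem (le_normalizer (mem_sup_left ⟨y, rfl⟩)) g.uf.mem
  have nsw : ∀ m ∈ Cz (e₁ y * t), m ∈ Ns e₁.range → m ∈ Ns e₂.range → cm m t = 1 ∧
      m * e₁ y * m⁻¹ = e₁ y ∧ m * e₂ y * m⁻¹ = e₂ y := fun m hm n1 n2 => by
    have h1 : m * (e₁ y * t) * m⁻¹ = e₁ y * t := by rw [← mem_Cz.1 hm, mul_inv_cancel_right]
    have h2 := fix_both w.ns c n1 n2 (a := y) (b := y) (by rw [← dd, ← conj_mul, h1])
    refine ⟨?_, h2⟩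
    rw [← conj_mul, h2.1, mul_right_inj] at h1
    rw [cm, h1, mul_inv_cancel]
  have s1 : cjs (e₁ y * t) e₁.range = e₂.range := (cj_cj _ _ _).symm.trans
    ((congrArg _ c.cjs_range).trans (cj_eq_self (c.G12_le_Ns' (mem_sup_left ⟨y, rfl⟩))))
  have s2 : cjs (e₁ y * t) e₂.range = e₁.range := (cj_cj _ _ _).symm.trans
    ((congrArg _ (c.symm tt).cjs_range).trans (cj_eq_self (le_normalizer ⟨y, rfl⟩)))
  have ec : ∀ u ∈ Cz y, e u ∈ Cz (e₁ y * t) := fun u hu => mem_Cz.2 (by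
    rw [mul_assoc, b.comm u, ← mul_assoc, ← mul_assoc, c.diag, ← mul_assoc, ← map_mul, mem_Cz.1 hu,
      map_mul, mul_assoc (e₁ u), c.comm y u, ← mul_assoc])
  generalize e₁ y * t = d at d4 di dM nsw s1 s2 ec
  have tN : t ∈ Ns (zpowers d) := mem_normalizer_of_cj_le (by
    rintro _ ⟨a, ha, rfl⟩
    obtain ⟨j, rfl⟩ := mem_zpowers_iff.1 ha
    change t * _ * t⁻¹ ∈ _
    rw [← conj_zpow, di]
    exact zpow_mem (inv_mem (mem_zpowers _)) j)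
  have cz : Cs (zpowers d) = Cz d := by
    ext m; rw [H64.SG.mem_Cs_zpowers, mem_Cz]
  have cN : Cz d ≤ Ns (zpowers d) := cz ▸ H64.SG.Cs_le_Ns _
  have tC : t ∈ Ns (Cz d) := cz ▸ normalizer_le_normalizer_centralizer _ tN
  have dec : ∀ h ∈ Cz d ⊔ zpowers t, h ∈ Cz d ∨ h * t ∈ Cz d := fun h hh =>
    (H67.SA.mem_sup_zp tC tt).1 hh
  have hodd : ∀ h ∈ Cz d ⊔ zpowers t, Odd (orderOf h) → h ∈ Cz d := fun h hh ho => by
    refine H64.SG.mem_of_sq_mem ?_ ho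
    rcases dec h hh with k | k
    · exact mul_mem k k
    · have := mul_mem k (conj_mem_of_mem_normalizer tC k)
      rwa [show h * t * (t * (h * t) * t⁻¹) = h * (t * t) * h by group, tt, mul_one] at this
  have hc : ∀ m ∈ Cz d, m ∈ Ns (G12 e₁ e₂) → cm m t ∈ zpowers d := fun m hm mM => by
    rcases g.pm m mM with h1 | h1
    · rw [(nsw m hm h1.1 h1.2).1]; exact one_mem _
    · have h2 := (nsw (m * d) (mul_mem hm (mem_Cz.2 rfl))
        (cj_eq_self_iff.1 (by rw [← cj_cj]; exact (congrArg (cjs m) s1).trans h1.2))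
        (cj_eq_self_iff.1 (by rw [← cj_cj]; exact (congrArg (cjs m) s2).trans h1.1))).1
      have h3 : cm d t ∈ zpowers d := by
        rw [show cm d t = d * (t * d * t⁻¹)⁻¹ by unfold cm; group, di]
        exact mul_mem (mem_zpowers _) (inv_mem (inv_mem (mem_zpowers _)))
      rw [show cm (m * d) t = m * cm d t * m⁻¹ * cm m t by unfold cm; group,
        mul_eq_one_iff_inv_eq] at h2
      rw [← h2]
      exact inv_mem (conj_mem_of_mem_normalizer (cN hm) h3)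
  have eM : ∀ u, e u ∈ Ns (G12 e₁ e₂) := fun u => le_normalizer (g.le ⟨u, rfl⟩)
  have eH : ∀ u ∈ Cz y, e u ∈ Ns (Cz d ⊔ zpowers t) := fun u hu =>
    le_normalizer (mem_sup_left (ec u hu))
  have Dy : D ≤ Cz y := fun u hu => mem_Cz.2 (w.abD hu y y1)
  refine le_trans le_sup_left (H67.SA.jobK10 g.uf (IsConj.refl t) g.uf.mem (Cz d ⊔ zpowers t)
    (zpowers d) (mem_sup_right (mem_zpowers t)) (le_sup_of_le_left (zpowers_le.2 (mem_Cz.2 rfl)))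
    (sup_le cN (zpowers_le.2 tN)) d4.zpowers (fun h h1 h2 => cz ▸ hodd h h1 h2)
    (fun m hm mM => ?_) (D.map e) ?_ (by rw [closure_eq]; exact g.cuD) fun O o1 o2 o3 v hv o ho => ?_)
  · rcases dec m hm with k | k
    · exact hc m k mM
    · exact H67.SA.cm_mul_t (t := t) m ▸ hc _ k (mul_mem mM g.uf.mem)
  · rintro _ ⟨u, hu, rfl⟩
    exact ⟨by rw [← map_mul, w.sq u hu, map_one], eM u, eH u (Dy hu), b.comm u, g.tx u (w.sq u hu)⟩
  · obtain ⟨u, hu, rfl⟩ := hv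
    have od := fun a (ha : a ∈ O) => H64.SG.odd_orderOf_of_mem o2 ha
    have fx : ∀ a ∈ O, a * e₁ y * a⁻¹ = e₁ y ∧ a * e₂ y * a⁻¹ = e₂ y := fun a ha =>
      (nsw a (hodd a (o1 ha).1 (od a ha)) (odd_nor g.toW0 (o1 ha).2 (od a ha)).1
        (odd_nor g.toW0 (o1 ha).2 (od a ha)).2).2
    have key : ∀ f₁ f₂ : X →* G, CW e t f₁ f₂ → (∀ a ∈ O, a * f₁ y * a⁻¹ = f₁ y) →
        ∀ a b, f₁ a * f₂ b ∈ O → a = 1 := fun f₁ f₂ c' hf a b hab => by
      let O₁ : Subgroup X :=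
        { carrier := {a | ∃ b, f₁ a * f₂ b ∈ O}
          one_mem' := ⟨1, by simp⟩
          mul_mem' := fun ⟨b, h1⟩ ⟨b', h2⟩ => ⟨b * b', c'.mul_mul _ _ _ _ ▸ mul_mem h1 h2⟩
          inv_mem' := fun {a} ⟨b, h1⟩ => ⟨b⁻¹, by
            rw [map_inv, map_inv, ← mul_inv_rev, ← c'.comm]; exact inv_mem h1⟩ }
      refine mem_bot.1 ((w.oc y ⟨yy, y0⟩ O₁ (fun a ⟨b, h1⟩ => mem_Cz.2 ?_)
        (H64.SG.odd_card_of_forall fun a ⟨b, h1⟩ => ?_) fun p hp => mem_normalizer_of_cj_le ?_).le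
        ⟨b, hab⟩)
      · exact (mul_inv_eq_iff_eq_mul.1 (((c'.ind₁ a b).eq_iff c'.inj).1 (hf _ h1))).symm
      · exact H64.SG.odd_orderOf_of_pow (od _ h1) (w.ns.cen _ (by
          rw [map_pow]; exact (c'.ind₁ a b).pow_eq_one c'.inj (pow_orderOf_eq_one _)))
      · rintro _ ⟨a, ⟨b, h1⟩, rfl⟩
        refine ⟨p * b * p⁻¹, ?_⟩
        have := conj_mem_of_mem_normalizer (o3 ⟨eH p hp, eM p⟩) h1
        rwa [← conj_mul, ind_e₁ c', ind_e₂ c'] at this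
    have h1 : cm o (e u) ∈ O := by
      rw [show cm o (e u) = o * (e u * o⁻¹ * (e u)⁻¹) by unfold cm; group]
      exact mul_mem ho (conj_mem_of_mem_normalizer (o3 ⟨eH u (Dy hu), eM u⟩) (inv_mem ho))
    obtain ⟨a, a', h2⟩ := c.mem_G12.1 (mul_mem (conj_mem_of_mem_normalizer (o1 ho).2
      (g.le ⟨u, rfl⟩)) (inv_mem (g.le ⟨u, rfl⟩)) : cm o (e u) ∈ G12 e₁ e₂)
    rw [cm, h2] at h1
    rw [key e₁ e₂ c (fun a ha => (fx a ha).1) a a' h1, key e₂ e₁ (c.symm tt)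
      (fun a ha => (fx a ha).2) a' a (c.comm a a' ▸ h1), map_one, map_one, mul_one] at h2
    exact mem_Cz.2 (cm_eq_one.1 h2).symm

theorem jobWE : JobWE.{u} := by
  intro hSW hWU hW1 hN2 hNK hNU hW3 X _ _ U D A f G _ _ e t b e₁ e₂ c
  replace hWU := hWU hSW
  have g := hWU X U D A f G e t b e₁ e₂ c
  by_contra hM
  have hU := H64.SG.syl_iff.1 (c.syl_two f.syl)
  obtain ⟨S, hS, hUS⟩ := exists_isSyl_le hU.isPGroup (hU.le.trans le_normalizer)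
  have SU : S ≤ Ns (two e₁ e₂ U) := by
    rw [← hU.eq_of_le (hS.isPGroup.to_inf_left (K := G12 e₁ e₂)) (le_inf hUS hU.le) inf_le_right]
    exact le_normalizer_inf le_normalizer hS.le
  obtain ⟨W, a, b', WS, aS, ta, tb, aW, bW, bM, ⟨k, ko, kW⟩, WT, -, hi, -⟩ :=
    H9.UF.jobK4 g.uf hM S (H64.SG.syl_iff.2 hS)
  have WM := WS.trans hS.le
  have hW := hS.isPGroup.to_le WS
  have hi' : ∀ i ∈ Ns W, i ∉ W → i * i ∈ W → ∃ w ∈ W, IsConj t (i * w) := fun i i1 i2 i3 => by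
    obtain ⟨w, w1, m, -, w2⟩ := hi i i1 i2 i3
    exact ⟨w, w1, w2 ▸ ta.trans (H9.UF.conj_cj m a)⟩
  have nsw : ∀ s ∈ Ns (G12 e₁ e₂), IsConj t s → s ∉ Ns e₁.range := fun s s1 s2 s3 =>
    g.ne (cj_eq_self_iff.1 (c.cjs_range.trans ((g.sw s s1 s2).symm.trans (cj_eq_self_iff.2 s3))))
  have hUW : ¬ two e₁ e₂ U ≤ W := fun h => bM (hNU X U D A f G e t b e₁ e₂ c g
    (hNK X U D A f G e t b e₁ e₂ c g (hN2 X U D A f G e t b e₁ e₂ c g))
    (hW1 X U D A f G e t b e₁ e₂ c g W hW WM h bW))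
  by_cases hW1 : W ≤ Ns e₁.range
  · obtain ⟨i, i1, i2, i3, i4⟩ := exists_step hS.isPGroup WS hUS (WS.trans SU) hUW
    obtain ⟨w, w1, w2⟩ := hi' i i3 i2 i4
    exact nsw _ (hS.le (mul_mem (hUS i1) (WS w1))) w2 (mul_mem (c.G12_le_Ns (hU.le i1)) (hW1 w1))
  obtain ⟨w₀, w1, w2⟩ := SetLike.not_le_iff_exists.1 hW1
  have sw0 := (g.pm w₀ (WM w1)).resolve_left fun h => w2 h.1
  have sw : ∀ w ∈ W, w ∉ Ns e₁.range → w * w₀⁻¹ ∈ Ns e₁.range := fun w h1 h2 => by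
    have h3 := (g.pm w (WM h1)).resolve_left fun h => h2 h.1
    refine cj_eq_self_iff.1 ?_
    rw [← cj_cj]
    have : H98.cj w₀⁻¹ e₁.range = e₂.range := by
      rw [← show H98.cj w₀ e₂.range = e₁.range from sw0.2, cj_cj, inv_mul_cancel, cj_one]
    rw [this]; exact h3.2
  have U1 : U.map e₁ ≤ S := le_sup_left.trans hUS
  have beta : ∀ B ≤ U, St U ≤ St B → ¬ B.map e₁ ≤ W →
      ∃ y ∈ B, e₁ y ∉ W ∧ e₁ y ∈ Ns W ∧ e₁ y * e₁ y ∈ W := fun B hB hSt hBW => by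
    have h1 : W ⊓ Ns e₁.range ≤ Ns (B.map e₁) := fun m hm => by
      obtain ⟨β, hβ⟩ := exists_ind c.inj hm.2
      refine hβ.mem_Ns_map (hSt (hβ.st c.inj (mem_normalizer_of_cj_le ?_)))
      rintro _ ⟨x, hx, rfl⟩
      exact inf_left f.ns c (conj_mem_of_mem_normalizer (SU (WS hm.1)) (mem_sup_left hx))
        (conj_mem_of_mem_normalizer hm.2 (map_le_range _ _ hx))
    obtain ⟨_, ⟨y, y1, rfl⟩, y2, y3, y4⟩ := exists_step hS.isPGroup (inf_le_left.trans WS)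
      ((map_mono hB).trans U1) h1 fun h => hBW (h.trans inf_le_left)
    have y5 : e₁ y ∈ Ns e₁.range := le_normalizer ⟨y, rfl⟩
    have y6 : w₀ * (e₁ y)⁻¹ * w₀⁻¹ ∈ e₂.range := by
      rw [← sw0.1]; exact conj_mem_cjs.2 (inv_mem ⟨y, rfl⟩)
    refine ⟨y, y1, fun h => y2 ⟨h, y5⟩, nor_of (t := t) inf_le_left w1 ⟨mul_mem w1 w1, ?_⟩ ?_
      (fun w h => ?_) y3 y4 (c.le_Cs y6 _ ⟨y, rfl⟩) WT hi' fun w h h' => ?_, y4.1⟩
    · refine cj_eq_self_iff.1 ?_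
      rw [← cj_cj]; exact (congrArg (cjs w₀) sw0.1).trans sw0.2
    · refine mem_normalizer_of_cj_le ?_
      rintro _ ⟨w, h, rfl⟩
      refine ⟨conj_mem_of_mem_normalizer (le_normalizer w1) h.1, ?_⟩
      have h2 := ((g.pm w (WM h.1)).resolve_right fun k => g.ne (cj_eq_self_iff.1
        (c.cjs_range.trans (k.1.symm.trans (cj_eq_self_iff.2 h.2))))).2
      rw [← sw0.2, ← H64.SG.cj_Ns]
      exact conj_mem_cjs.2 h2
    · by_cases k : w ∈ Ns e₁.range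
      exacts [Or.inl ⟨h, k⟩, Or.inr (mem_inf.2 ⟨mul_mem h (inv_mem w1), sw w h k⟩)]
    · have h2 : cm (e₁ y) w₀ ∈ G12 e₁ e₂ := by
        rw [show cm (e₁ y) w₀ = e₁ y * (w₀ * (e₁ y)⁻¹ * w₀⁻¹) by unfold cm; group]
        exact mul_mem (mem_sup_left ⟨y, rfl⟩) (mem_sup_right y6)
      exact nsw _ (mul_mem (le_normalizer h2) (WM h.1)) h' (mul_mem (c.G12_le_Ns h2) h.2)
  have fin : ∀ y ∈ U, e₁ y ∉ W → e₁ y ∈ Ns W → e₁ y * e₁ y ∈ W →
      (y * y = 1 ∨ 2 < Nat.card ↥(W ⊓ e₁.range)) →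
      (∀ s e', s ∈ Ns W → (e₁ y)⁻¹ * s ∈ W → CE e' s → CW e' s e₁ (cje s e₁) →
        GW D A e' s e₁ (cje s e₁) → Cs W ≤ Ns (G12 e₁ (cje s e₁))) → False := by
    intro y y1 y2 y3 y4 y5 hC
    obtain ⟨w, h1, m, m1, h2⟩ := hi _ y3 y2 y4
    have sM : e₁ y * w ∈ Ns (G12 e₁ e₂) := hS.le (mul_mem (U1 ⟨y, y1, rfl⟩) (WS h1))
    have mM := (H9.UF.jobK1 g.uf ta (hS.le aS)).1 m (h2 ▸ sM)
    have ts : IsConj t (e₁ y * w) := h2 ▸ ta.trans (H9.UF.conj_cj m a)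
    have h3 := g.sw _ sM ts
    obtain ⟨e', c1, c2⟩ := g.chg _ ts h3
    have g' := hWU X U D A f G e' _ c1 e₁ _ c2
    have hG : G12 e₁ (cje (e₁ y * w) e₁) = G12 e₁ e₂ := by rw [G12, range_cje, h3]
    have sW : e₁ y * w ∈ Ns W := mul_mem y3 (le_normalizer h1)
    have sW' : (e₁ y)⁻¹ * (e₁ y * w) ∈ W := by rwa [inv_mul_cancel_left]
    have kW' : (e₁ y * w * (m * b' * m⁻¹)) ^ k ∈ W := by
      rw [h2, conj_mul, conj_pow]; exact conj_mem_of_mem_normalizer m1 kW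
    have h4 := H81.W2.jobW2O G e₁.range e₂.range W (e₁ y * w) (m * b' * m⁻¹) (e₁ y) k c.le_Cs' g.odd
      c1.inv.1 h3 (nsw _ sM ts) hW (fun m hm => g.pm m (WM hm)) sW
      (mul_mem (mul_mem m1 bW) (inv_mem m1))
      (H9.UF.inv2_conj g.uf.inv (tb.trans (H9.UF.conj_cj m b'))).1 ko kW' ⟨y, rfl⟩ y4 y2 sW'
      (y5.imp_left fun h => by rw [← map_mul, h, map_one])
    obtain ⟨i, j, e1, e2, e3⟩ := H64.SG.exists_two_odd (e₁ y * w * (m * b' * m⁻¹))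
    have h5 := hG ▸ hC _ e' sW sW' c1 c2 g' (h4 _ (pow_mem (mem_zpowers _) j) e3)
    obtain ⟨r, hr⟩ := e2.exists_pow ko
    have h6 : (e₁ y * w * (m * b' * m⁻¹)) ^ i ∈ W := by
      rw [← hr, ← pow_mul _ i k, mul_comm i k, pow_mul]; exact pow_mem (pow_mem kW' i) r
    have h7 := mul_mem (WM h6) h5
    rw [← e1] at h7
    have h8 := mul_mem (mul_mem (inv_mem mM) (mul_mem (inv_mem sM) h7)) mM
    exact bM (by simpa [mul_assoc] using h8)
  have DU := f.leU (.inl rfl)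
  by_cases ca : D.map e₁ ≤ W
  swap
  · obtain ⟨y, y1, y2, y3, y4⟩ := beta _ DU (f.st (.inl rfl)) ca
    have yy := f.sq y y1
    refine fin y (DU y1) y2 y3 y4 (Or.inl yy) fun s e' _ s2 c1 c2 g' m hm => ?_
    refine hW3 X U D A f G e' s c1 e₁ _ c2 g' y y1
      (fun h => y2 (by rw [h, map_one]; exact one_mem _)) (mem_Cz.2 (hm _ ?_))
    rwa [← map_inv, inv_eq_of_mul_eq_one_right yy] at s2
  have big : 2 < Nat.card ↥(W ⊓ e₁.range) :=
    (f.big.trans_eq (card_map_e c.inj).symm).trans_le (card_le_of_le (le_inf ca (map_le_range _ _)))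
  have cc : ¬ U.map e₁ ≤ W := fun h => hUW (sup_le h (by
    rintro _ ⟨u, hu, rfl⟩
    have h1 : w₀⁻¹ * e₂ u * w₀ ∈ W := h (inf_left f.ns c
      (conj_mem_of_mem_normalizer' (SU (WS w1)) (mem_sup_right ⟨u, hu, rfl⟩))
      (mem_cjs.1 (sw0.1 ▸ ⟨u, rfl⟩)))
    simpa [mul_assoc] using mul_mem (mul_mem w1 h1) (inv_mem w1)))
  obtain ⟨y, y1, y2, y3, y4⟩ := beta _ le_rfl le_rfl cc
  refine fin y y1 y2 y3 y4 (Or.inr big) fun s e' s1 _ _ c2 g' => le_trans (centralizer_le ?_) g'.cuD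
  rintro _ ⟨u, hu, rfl⟩
  have h1 := ca ⟨u, hu, rfl⟩
  rw [c2.diag]
  exact mul_mem h1 (conj_mem_of_mem_normalizer s1 h1)

end H95.SW
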