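import Cfsg.Agent.H67.P6.H67_SWDef
import Cfsg.Agent.H67.SAJA

namespace H96 end H96
open H96
namespace H98 end H98
open H98
namespace H85.P6 end H85.P6
open H85.P6
namespace H85.P6.H96 end H85.P6.H96
open H85.P6.H96
namespace H85.P6.H96.SW end H85.P6.H96.SW
open H85.P6.H96.SW
namespace H85.P6.H98 end H85.P6.H98
open H85.P6.H98
namespace H67.P6


/-! STD-SP (row S3129), wreath endgame: slot `N2`. -/

set_option autoImplicit false

namespace H96.SW
export H98 (conj_mem_of_mem_normalizer)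

open H64.SG (Cs Ns Is2 UF)
open H67.SA (cm)
open H59.SO Subgroup H98

universe u

variable {G : Type u} [Group G]

/-- The stabiliser of the chain `S > Z > 1`. -/
def ch (S Z : Subgroup G) : Subgroup G where
  carrier := {g | (∀ x ∈ S, cm g x ∈ Z) ∧ g ∈ Cs Z}
  one_mem' := ⟨fun x _ => by simp [cm], one_mem _⟩
  mul_mem' := fun {g h} a b => ⟨fun x hx => by
    rw [show cm (g * h) x = g * cm h x * g⁻¹ * cm g x by unfold cm; group,
      ← a.2 _ (b.1 x hx), mul_inv_cancel_right]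
    exact mul_mem (b.1 x hx) (a.1 x hx), mul_mem a.2 b.2⟩
  inv_mem' := fun {g} a => ⟨fun x hx => by
    rw [show cm g⁻¹ x = g⁻¹ * ((cm g x)⁻¹ * g) by unfold cm; group,
      a.2 _ (inv_mem (a.1 x hx)), inv_mul_cancel_left]
    exact inv_mem (a.1 x hx), inv_mem a.2⟩

theorem ch_odd {S Z : Subgroup G} (hZ : IsPGroup 2 Z) {g : G} (h : g ∈ ch S Z)
    (ho : Odd (orderOf g)) : g ∈ Cs S := fun x hx => by
  have c := h.1 x hx
  have k : ∀ j : ℕ, g ^ j * x = cm g x ^ j * x * g ^ j := fun j => by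
    induction j with
    | zero => simp
    | succ j ih =>
      have e : g * cm g x ^ j = cm g x ^ j * g := (h.2 _ (pow_mem c j)).symm
      rw [pow_succ', mul_assoc, ih, ← mul_assoc, ← mul_assoc, e, pow_succ (cm g x)]
      generalize cm g x ^ j = y
      generalize g ^ j = z
      unfold cm
      group
  have h1 := k (orderOf g)
  rw [pow_orderOf_eq_one, one_mul, mul_one, eq_comm, mul_eq_right] at h1
  obtain ⟨j, hj⟩ := hZ ⟨_, c⟩
  have h2 : cm g x = 1 := H64.SG.Is2.eq_one ⟨j, congrArg Subtype.val hj⟩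
    (ho.of_dvd_nat (orderOf_dvd_of_pow_eq_one h1))
  exact (mul_inv_eq_iff_eq_mul.1 (mul_inv_eq_one.1 h2)).symm

theorem ch_nor [Finite G] {S Z : Subgroup G} {t : G} (h1 : t ∈ Ns S) (h2 : t ∈ Ns Z) :
    t ∈ Ns (ch S Z) := mem_normalizer_of_cj_le (by
  rintro _ ⟨g, a, rfl⟩
  change t * g * t⁻¹ ∈ _
  refine ⟨fun x hx => ?_,
    conj_mem_of_mem_normalizer (normalizer_le_normalizer_centralizer _ h2) a.2⟩
  rw [show cm (t * g * t⁻¹) x = t * cm g (t⁻¹ * x * t) * t⁻¹ by unfold cm; group]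
  exact conj_mem_of_mem_normalizer h2 (a.1 _ (conj_mem_of_mem_normalizer' h1 hx)))

theorem jobN2 : H67.SW.JobN2.{u} := by
  intro X _ _ U D A w G _ _ e t b e₁ e₂ c g x x1 x2
  have tt := b.inv.1
  have hU : IsPGroup 2 U := w.syl.2.1
  have hZ := c.isP_two (hU.to_le (inf_le_left : U ⊓ Cs U ≤ U))
  have tN := ch_nor (c.t_mem_Ns tt U) (c.t_mem_Ns tt (U ⊓ Cs U))
  refine ⟨H67.SA.jobK11 g.uf (IsConj.refl t) g.uf.mem (ch _ _ ⊔ zpowers t)
    (mem_sup_right (mem_zpowers t)) (fun h hh ho => ?_) (mem_sup_left ⟨x1, x2⟩),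
    ch_odd hZ ⟨x1, x2⟩⟩
  refine g.cuD (centralizer_le (t := (two e₁ e₂ U : Set G))
    ((map_mono w.le.1).trans (c.map_le U)) (ch_odd hZ (H64.SG.mem_of_sq_mem ?_ ho) ho))
  rcases (H67.SA.mem_sup_zp tN tt).1 hh with k | k
  · exact mul_mem k k
  · have := mul_mem k (conj_mem_of_mem_normalizer tN k)
    rwa [show h * t * (t * (h * t) * t⁻¹) = h * (t * t) * h by group, tt, mul_one] at this

end H96.SW
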