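import Cfsg.Agent.H67.P6.H1_SP3RS
import Cfsg.Agent.H67.P6.H13_SPTL
import Cfsg.Agent.H67.P6.H15_SWCM
import Cfsg.Agent.H67.P6.H17_SP3CU
import Cfsg.Agent.H67.P6.H18_SWFT
import Cfsg.Agent.H67.P6.H21_SPPP
import Cfsg.Agent.H67.P6.H23_SP3T2
import Cfsg.Agent.H67.P6.H25_SP3SD
import Cfsg.Agent.H67.P6.H26_SWTP
import Cfsg.Agent.H67.P6.H3_SwNO
import Cfsg.Agent.H67.P6.H35_S3GK
import Cfsg.Agent.H67.P6.H35_S3MS
import Cfsg.Agent.H67.P6.H35_S3MU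
import Cfsg.Agent.H67.P6.H37_SPPR
import Cfsg.Agent.H67.P6.H4_SP3TE
import Cfsg.Agent.H67.P6.H4_SWFD
import Cfsg.Agent.H67.P6.H45_SWW1
import Cfsg.Agent.H67.P6.H49_SWCA
import Cfsg.Agent.H67.P6.H5_SPWOC
import Cfsg.Agent.H67.P6.H59_S3MU1
import Cfsg.Agent.H67.P6.H6_Sp3T1a
import Cfsg.Agent.H67.P6.H61_SP3CL
import Cfsg.Agent.H67.P6.H62_SP3PN
import Cfsg.Agent.H67.P6.H62_SP3ML
import Cfsg.Agent.H67.P6.H63_S3AW
import Cfsg.Agent.H67.P6.H69_SP3Q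
import Cfsg.Agent.H67.P6.H69_SP3GX
import Cfsg.Agent.H67.P6.H69_SWWA
import Cfsg.Agent.H67.P6.H7_SP3T3
import Cfsg.Agent.H67.P6.H73_SwNK
import Cfsg.Agent.H67.P6.H74_SP3T1
import Cfsg.Agent.H67.P6.H74_SP3T4
import Cfsg.Agent.H67.P6.H76_SPWSW
import Cfsg.Agent.H67.P6.H77_SWCZ
import Cfsg.Agent.H67.P6.H78_S3B
import Cfsg.Agent.H67.P6.H81_SP3RW
import Cfsg.Agent.H67.P6.H82_SWSZ
import Cfsg.Agent.H67.P6.H83_SP3TD
import Cfsg.Agent.H67.P6.H83_SWNU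
import Cfsg.Agent.H67.P6.H94_SWCL
import Cfsg.Agent.H67.P6.H94_SP3TB
import Cfsg.Agent.H67.P6.H95_SWWU
import Cfsg.Agent.H67.P6.H96_SWN2
import Cfsg.Agent.H67.P6.H98_SwUB
import Cfsg.Agent.H67.P6.H99_SWC2
import Cfsg.Agent.H73.P6PC
import Cfsg.Agent.S2093

/-! STD-SP (row S3129): chapter III and the wreath endgame from their slots. -/

set_option autoImplicit false

namespace H67.P6.Fin

open H85.P6 H85.P6.H67.SP H67.SP
open H85.P6.H78.S2 (base fc_of)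

universe u

/-- The multiplier of `Sp₆(2)` has order `2`. -/
theorem mult2 (n : ℕ) (F : Type) [Field F] [StarRing F] [TrivialStar F] [CharP F 2] [Finite F]
    [p : H85.P6.H67.SP.Par n F] (q : Nat.card F = 2) : H21.multCard (H85.P6.H67.UA.XU n F) = 2 := by
  obtain rfl := p.six
  have := Fintype.ofFinite F
  obtain ⟨ε⟩ := (base 5 F).psp
  have h := H21.multCard_eq (H21.multiplier_congr_left
    (Cfsg.Agent.S2093.result (F := F) (Nat.card_eq_fintype_card.symm.trans q)) ε.symm)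
  simpa using h

theorem mult (n : ℕ) (F : Type) [Field F] [StarRing F] [TrivialStar F] [CharP F 2] [Finite F]
    [H85.P6.H67.SP.Par n F] (q : Nat.card F = 2) : H21.multCard (H85.P6.H67.UA.XU n F) ∣ 4 := by
  rw [mult2 n F q]; norm_num

theorem c2 : H67.SW.JobC2 := fun n F _ _ _ _ _ p b c o =>
  @H99.SWC2.jobC2 n F _ _ _ _ _ b p n F _ _ _ _ _ p b c o

theorem jobWR : H67.SW.JobWR.{u} :=
  H67.SW.Sl.jobWR
    { sw := H76.SPWSW.jobSW, wu := H95.SW.jobWU, w1 := H45.SW.jobW1, n2 := H96.SW.jobN2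
      nk := H73.SwNK.jobNK, nu := H83.SWNU.jobNU, w3 := H95.SW.jobW3, we := H95.SW.jobWE
      wa := H69.SWA.jobWA, cl := H94.SW.jobCL, ub := H98.SwUB.jobUB, tp := H26.SWTP.jobTP
      sz := H82.SWZ.jobSZ, ft := H18.SWFT.jobFT, fd := H4.SWFD.jobFD, oc := H5.SPWOC.jobOC
      cz := H77.SWCZ.jobCZ, c2 := c2, cm := H15.SW.jobCM, ca := H49.SWCA.jobCA
      no := H3.SwNO.jobNO, tr := fun _ _ _ _ _ _ _ _ _ c _ _ h => absurd c.two h }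

theorem jobIII : JobIII.{u} := by
  intro n F _ _ _ _ _ _ G _ _ e t h0 h1
  have b := base n F
  have c := fc_of n F H73.P6PC.jobPC h0.q2
  have w := H63.S3.jobAW n F G e t b c h0
  obtain ⟨τ, β, ρ, a1, a2, a3⟩ := H6.Sp3T1a.jobT1a n F G e t b c w h1
  have a4 := H74.SP3.jobT4 n F b G e τ β (H7.SP3.jobT3 n F G e t b c w τ β
    (H23.SP3T2.jobT2 n F G e t b c w τ β ρ (H74.SP3.jobT1b n F G e t b c w τ β ρ a1 a2 a3) a2 a3) a2)
  obtain ⟨rfl | rfl, δ, a5⟩ := H94.SP3.jobTB n F G e t b c w τ β a4 a2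
  · have a6 := H83.SP3TD.jobTD n F G e t b c w τ δ a4 a2 a5
    by_cases h : ∃ ε, ε ^ 2 + ε = δ
    · obtain ⟨ε, h⟩ := h
      exact Or.inr (Or.inl (H81.SPW.jobRW n F G e t b c (mult n F h0.q2) w τ δ ε a6 a2 h))
    · obtain ⟨K, _, _, _, x, η, h5, ⟨st, h6⟩, -⟩ := H35.S3GK.jobK F δ (not_exists.1 h)
      exact Or.inl (H1.SP3RS.jobRS H35.S3GK.jobGR H37.SPPR.jobPR H69.SP3.jobGX H25.SP3.jobSD
        H35.S3MS.jobMS H69.SP3.jobQS base n F b K x δ η h5 h6 G e t τ w a6 a2)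
  · have a6 := H4.SP3TE.jobTE n F G e t b c w τ δ a4 a2 a5
    have a7 := a4.toR1.toR0.sv w.cen a2 1
    by_cases h : ∃ ε, ε ^ 2 + ε = δ
    · obtain ⟨ε, h⟩ := h
      obtain ⟨Φ, h5, h6⟩ := H78.S3.bL n F G e t b c _ δ ε h w.inj w.cen a6 a7
      obtain ⟨j, hj⟩ := H62.SP3W.jobML1 n F b ε
      exact Or.inr (Or.inr (Or.inl (H61.SP3CL.jobCL H13.SPTL.jobTL H21.SPP.jobPP H69.SP3.jobQL
        n F G e t b c ε j hj τ Φ w.inj a4 a2 h5 h6)))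
    · obtain ⟨K, _, _, _, x, η, h5, -, st, h6⟩ := H35.S3GK.jobK F δ (not_exists.1 h)
      obtain ⟨Φ, h7, h8⟩ := H78.S3.bU n F b K x δ η h5 c h6 G e t _ w.inj w.cen a6 a7
      have m := H35.S3MU.jobMU n F b K x δ η h5 h6
      exact Or.inr (Or.inr (Or.inr (H17.SP3CU.jobCU H13.SPTL.jobTL H62.SP3PN.jobPN H69.SP3.jobQU
        n F b K x δ η h5 h6 m (H59.S3MU1.jobMU1 H62.SP3PN.jobPN n F b K x δ η h5 h6 m)
        G e t τ Φ w.inj a4 a2 h7 h8)))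

end H67.P6.Fin
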