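import Cfsg.Agent.H85.P6.Asm
import Cfsg.Agent.H78.P6.Z_YEMod
import Cfsg.Agent.H78.P6.H78_S2Fin
import Cfsg.Agent.H54.P6.H86_SPGFin
import Cfsg.Agent.H1.P6.H92_SpP2a
import Cfsg.Agent.H78.S6Kit
import Cfsg.Agent.H67.P6.Fin
import Cfsg.Agent.H98.SfH
import Cfsg.Agent.H60.SpHB
import Cfsg.Agent.H59.SOFM

/-! P6 port (row S3133): the core of the assembly for `Sp₆(2)`. -/

set_option autoImplicit false
set_option linter.unusedSectionVars false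

namespace H67.P6.Core

open Cfsg Subgroup Function
open H85.P6.H67.SP
open H85.P6.H67.UA (XU Hf qK ev ev_ne Stab EE TT hf_zero_left Wk Vn ev_apply)
open H64.SG (O2 Cz Cs Ns Is2 Inv2 IsO2 Cov Cfg Qt mem_Cz Cs_le_Ns is2_of_sq odd_orderOf_of_mem)
open _root_.H67.SA (SLn)
open H59.SO (NS Ind B0 B1 CE CW G12 Om cfg_facts exists_ind)
open H64.SF (Bl0)
open H78.P6.H64.YE (JobFin)
open H85.P6.H86.SPI (QD iO tO)
open H85.P6.H78.S2 (base fo)
open H85.P6.Asm (fc rt_a rt_b head)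
open H67.P6.H67.SP (QY)
open scoped commutatorElement

universe u

/-- The multipliers of the models. -/
structure Mu : Prop where
  l : ∀ (m : ℕ) (F : Type) [Field F] [CharP F 2] [Finite F], 5 ≤ m → H21.multCard (SLn m F) ∣ 4
  u : ∀ (m : ℕ) (K : Type) [Field K] [StarRing K] [CharP K 2] [Finite K] [H85.P6.H67.UA.Par m K],
    m = 5 ∨ m = 6 → qK K = 2 → H21.multCard (XU m K) ∣ 4
  o : ∀ (n : ℕ) (F : Type) [Field F] [StarRing F] [TrivialStar F] [CharP F 2] [Finite F] [Par n F]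
    (δ : F), H21.multCard (Om (QD n F δ)) ∣ 4

section Cover

variable {X Y : Type} [Group X] [Group Y] [Finite Y] {G : Type u} [Group G] [Finite G]
  {ι : X →* Y} {τ : MulAut Y} {e : X →* G} {t : G}

theorem hb {Φ : Y →* G} (hp : commutator Y = ⊤) (ho : Odd (Nat.card (center Y)))
    (h : Hm ι τ e t Φ) : ∃ c : Cov (Y ⧸ center Y) Φ.range,
      Bl0 ((QuotientGroup.mk' _).comp ι) (qa τ) e t Φ.range c :=
  let ⟨c, b, _⟩ := H60.SPH.jobHB X Y G ι τ e t Φ hp ho ⟨h.ker, h.res, h.act⟩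
  ⟨c, b⟩

theorem hl {L : Subgroup G} {c : Cov (Y ⧸ center Y) L} (hX : commutator X = ⊤)
    (hY : commutator Y = ⊤) (hm : H21.multCard Y ∣ 4)
    (h : Bl0 ((QuotientGroup.mk' _).comp ι) (qa τ) e t L c) : ∃ Φ, Hm ι τ e t Φ := by
  obtain ⟨φ, hφ⟩ := H78.S6.lift_odd hY hm (QuotientGroup.mk' (center Y))
    c.piH_surjective (fun l hl => mem_center_iff.2 fun m => Subtype.ext (c.ker_cen l l.2 hl m m.2))
    fun l hl => by simpa using c.ker_odd l l.2 hl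
  have hc : ∀ y, c.pi (φ y) = (y : Y ⧸ center Y) := hφ
  have k : ∀ a ∈ L, ∀ b ∈ L, c.pi a = c.pi b → a⁻¹ * b ∈ Cs L := fun a ha b hb h1 =>
    c.ker_cen _ (mul_mem (inv_mem ha) hb) (by
      rw [c.pi_mul _ (inv_mem ha) _ hb, c.pi_inv ha, h1, inv_mul_cancel])
  have hn : ∀ y, t * φ y * t⁻¹ ∈ L := fun y => _root_.H98.conj_mem_of_mem_normalizer h.tn (φ y).2
  refine ⟨L.subtype.comp φ, fun y hy => (QuotientGroup.eq_one_iff y).1 ?_,
    H60.SPH.hom_eq L hX ((L.subtype.comp φ).comp ι) e (fun a => (φ _).2) (fun a => h.le ⟨a, rfl⟩)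
      fun a => k _ (φ _).2 _ (h.le ⟨a, rfl⟩) ((hc _).trans (h.pi a).symm),
    H60.SPH.hom_eq L hY ((MulAut.conj t).toMonoidHom.comp (L.subtype.comp φ))
      ((L.subtype.comp φ).comp τ.toMonoidHom) hn (fun a => (φ _).2)
      fun a => k _ (hn a) _ (φ _).2 ?_⟩
  · rw [← hc, show (φ y : G) = 1 from hy, c.pi_one]
  · change c.pi (t * φ a * t⁻¹) = c.pi (φ (τ a))
    rw [c.ac_pi _ h.tn _ (φ a).2, h.act, hc, hc, qa_mk]

end Cover

section

variable (n : ℕ) (F : Type) [Field F] [StarRing F] [TrivialStar F] [CharP F 2] [Fintype F]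

/-- The list of the statement. -/
def Cc (H : Type u) [Group H] : Prop :=
  Nonempty (H ≃* Matrix.ProjectiveSpecialLinearGroup (Fin (n + 1)) F) ∨
    Nonempty (H ≃* Matrix.ProjectiveSpecialLinearGroup (Fin (n + 1 + 1)) F) ∨
    (∃ (K : Type) (_ : Field K) (_ : Fintype K), Fintype.card K = Nat.card F ^ 2 ∧
      (Nonempty (H ≃* PSU (n + 1) K (Nat.card F)) ∨ Nonempty (H ≃* PSU (n + 1 + 1) K (Nat.card F)) ∨
        Nonempty (H ≃* PSp (kk n) K))) ∨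
    Nonempty (H ≃* POmega F (quadFormPlus (kk n + 1) F)) ∨
    ∃ a b : F, (∀ z₁ z₂ : F, z₁ ^ 2 + a * z₁ * z₂ + b * z₂ ^ 2 = 0 → z₁ = 0 ∧ z₂ = 0) ∧
      Nonempty (H ≃* POmega F (quadFormMinus (kk n) F a b))

/-- The list of models. -/
def PM (Y : Type) [Group Y] (ι : XU n F →* Y) (τ : MulAut Y) (T : XU n F → Prop) : Prop :=
  NS Y ∧ ∀ (G : Type u) [Group G] [Finite G] (e : XU n F →* G) (t : G) (G₁ F₀ : Subgroup G)
    (c : Cov Y G₁), (∀ z, Lr z ∨ Sr z → Fu e t z → T z) → CE e t → Bl0 ι τ e t G₁ c →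
      Cfg F₀ e.range t → Cc n F F₀

variable {n F} [p : Par n F] [Base n F] {G : Type u} [Group G] [Finite G] {e : XU n F →* G} {t : G}

variable (e t) in
/-- A result of the chapters. -/
def Rs : Prop :=
  RW e t ∨ ∃ (Y : Type) (_ : Group Y) (ι : XU n F →* Y) (τ : MulAut Y), PM.{u} n F Y ι τ (Fu e t) ∧
    ∃ (G₁ : Subgroup G) (c : Cov Y G₁), Bl0 ι τ e t G₁ c

omit p in
theorem ls_b : Lr (xb n F) ∨ Sr (xb n F) := Or.inl ((FR.lr _).2 (IsConj.refl _))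
omit p in
theorem ls_a : Lr (xa n F) ∨ Sr (xa n F) := Or.inr ((FR.sr _).2 (IsConj.refl _))

omit p in
theorem rt_of {z : XU n F} (h : Lr z ∨ Sr z) : Rt z := h.imp_right Or.inl

omit p in
theorem sq_of {z : XU n F} (hz : Lr z ∨ Sr z) : Inv2 z := by
  obtain ⟨h1, h2, -⟩ := FR.rk z
  rcases hz with k | k
  exacts [(h1.1 k).1, (h2.1 k).1]

theorem wk_ev {j : ℕ} {i : Fin (n + 1)} (h : i.val < j) (c : F) : Wk j (c • ev i : Vn n F) :=
  fun k hk => by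
    rw [Pi.smul_apply, ev_apply, if_neg (fun e => by subst e; omega), smul_zero]

theorem M2_le : Mk n F 2 ≤ Qk n F 2 := fun g hg => by
  obtain ⟨a, b, c, rfl⟩ := (FV.mem_M2 g).1 hg
  have h5 := p.five
  have v1 : ((1 : Fin (n + 1)) : ℕ) = 1 := by
    rw [Fin.val_one', Nat.mod_eq_of_lt (by omega)]
  have w0 : Wk 2 (ev 0 : Vn n F) := by simpa using wk_ev (n := n) (i := 0) (j := 2) (by simp) (1 : F)
  have w1 : Wk 2 (ev 1 : Vn n F) := by simpa using wk_ev (n := n) (i := 1) (j := 2) (by omega) (1 : F)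
  exact mul_mem (mul_mem (FV.EE_Q 2 (by omega) _ _ _ w0 fun _ _ => rfl)
    (FV.EE_Q 2 (by omega) _ _ _ w0 (wk_ev (by omega) b))) (FV.EE_Q 2 (by omega) _ _ _ w1 fun _ _ => rfl)

/-- An automorphism of odd order that fixes `Pc (C z)` pointwise is trivial. -/
theorem cta [FC n F] {z : XU n F} (hz : Lr z ∨ Sr z) (β : MulAut (XU n F)) (ho : Odd (orderOf β))
    (hβ : ∀ a ∈ Pc (Cz z), β a = a) : β = 1 := by
  have key : ∀ (x : XU n F) (Q Z : Subgroup (XU n F)), IsConj x z → Q ≤ Pc (Cz x) → IsPGroup 2 Z →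
      (∀ α : MulAut (XU n F), (∀ u ∈ Q, α u = u) → ∃ ζ ∈ Z, α = MulAut.conj ζ) → β = 1 := by
    intro x Q Z c h1 h2 h3
    obtain ⟨m, rfl⟩ := isConj_iff.1 c
    have h4 : (Pc (Cz x)).map (MulAut.conj m).toMonoidHom ≤ Pc (Cz (m * x * m⁻¹)) :=
      (map_Pc_le' _ _).trans (Pc_mono (by
        rintro _ ⟨a, ha, rfl⟩
        refine mem_Cz.2 ?_
        change m * x * m⁻¹ * (m * a * m⁻¹) = m * a * m⁻¹ * (m * x * m⁻¹)
        rw [conj_mul, conj_mul, mem_Cz.1 ha]))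
    obtain ⟨ζ, h5, h6⟩ := h3 ((MulAut.conj m)⁻¹ * β * MulAut.conj m) fun u hu => by
      rw [MulAut.mul_apply, MulAut.mul_apply, hβ (MulAut.conj m u) (h4 ⟨u, h1 hu, rfl⟩)]
      exact MulAut.inv_apply_self _ _ _
    have h7 : Is2 ζ := _root_.H98.isPGroup_iff_forall.1 h2 ζ h5
    have h8 : β = MulAut.conj m * MulAut.conj ζ * (MulAut.conj m)⁻¹ := by rw [← h6]; group
    exact (h8 ▸ (h7.map MulAut.conj).conj _ : Is2 β).eq_one ho
  rcases hz with k | k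
  · refine key _ (QQ n F) (QQ n F) ((FR.lr z).1 k) ?_ (FR.o2 _ (ev_ne 0)).2.2.1 FC.cQ
    rw [show Cz (xb n F) = PP n F from FR.cz _ 1 (ev_ne 0) one_ne_zero]
    exact FC.ob.1
  · refine key _ (Qk n F 2) (Mk n F 2) ((FR.sr z).1 k) FC.o2.1 (FC.o2.2.2.1.to_le ?_) FC.cQ2
    exact M2_le

theorem jobH [FC n F]
    (hH : ∀ (G' : Type u) [Group G'] [Finite G'] (e' : XU n F →* G') (t' : G'), CH e' t' →
      CB e' t' ∨ CA e' t' → Rs e' t') (h : CE e t) (hc : CB e t ∨ CA e t) : Rs e t := by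
  have hB : Base n F := ‹_›
  have hC : FC n F := ‹_›
  have hX : NS (XU n F) := FA.ns
  obtain ⟨o1, ko⟩ := h.odd_core
  have ole := H64.SG.O2_le (Cs e.range ⊓ Cz t)
  have no : ∀ g u, Lr u ∨ Sr u → g * t * g⁻¹ = t * e u → g * e u = e u * g →
      g ∈ Ns (O2 (Cs e.range ⊓ Cz t)) := fun g u hu hg hg' => by
    have h3 := (ab h.b0).edge g u u hg (mul_inv_eq_iff_eq_mul.2 hg')
    refine inv_mem_iff.1 (_root_.H98.mem_normalizer_of_cj_le ?_)
    rintro _ ⟨o, ho, rfl⟩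
    have k : ∀ a, g * a * g⁻¹ * o = o * (g * a * g⁻¹) → a * (g⁻¹ * o * g⁻¹⁻¹) = g⁻¹ * o * g⁻¹⁻¹ * a :=
      fun a ha => by
        calc _ = g⁻¹ * (g * a * g⁻¹ * o) * g := by group
          _ = _ := by rw [ha]; group
    have h4 : g⁻¹ * o * g⁻¹⁻¹ ∈ Cz t := mem_Cz.2 (k t (by
      rw [hg, mul_assoc, (ole ho).1 _ ⟨u, rfl⟩, ← mul_assoc, mem_Cz.1 (ole ho).2, mul_assoc]))
    have h5 : Odd (orderOf (g⁻¹ * o * g⁻¹⁻¹)) := H64.SG.odd_orderOf_of_pow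
      (odd_orderOf_of_mem o1 ho) (by rw [conj_pow, pow_orderOf_eq_one]; simp)
    obtain ⟨β, hβ⟩ := exists_ind h.inj (h.cz h4)
    exact H64.SG.mem_O2_of_odd ⟨(hβ.eq_one_iff h.inj).1 (cta hu β (hβ.odd h.inj h5)
      (hβ.fix h.inj fun a ha => k a ((ole ho).1 _ (map_le_range _ _
        (h3.le (_root_.H98.conj_mem_cj ha)))))), h4⟩ h5
  generalize O2 (Cs e.range ⊓ Cz t) = O at o1 ko ole no
  obtain ⟨q⟩ := H64.SG.exists_qt o1
  have hL : e.range ≤ Cs O := le_centralizer_iff.1 (ole.trans inf_le_left)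
  have t1 : t ∈ Cs O := fun o ho => (mem_Cz.1 (ole ho).2).symm
  have t2 := Cs_le_Ns O t1
  have t3 := is2_of_sq h.inv.1
  have x1 : ∀ s, e s ∈ Ns O := fun s => Cs_le_Ns O (hL ⟨s, rfl⟩)
  let e' := q.φ.comp (e.codRestrict (Ns O) x1)
  have e1 : ∀ s, e' s = q.p (e s) := fun s => q.eq _
  have e3 : e'.range = q.im e.range := le_antisymm
    (by rintro _ ⟨s, rfl⟩; exact e1 s ▸ q.p_mem ⟨s, rfl⟩ (x1 s)) fun g hg => by
      obtain ⟨_, ⟨s, rfl⟩, -, rfl⟩ := q.mem_im.1 hg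
      exact ⟨s, e1 s⟩
  have hi : Injective e' := (injective_iff_map_eq_one _).2 fun s hs => hX.eq_one fun b =>
    (H59.SO.e_comm_iff h.inj).1 ((ole ((q.ker _ (x1 s)).1 (e1 s ▸ hs))).1 _ ⟨b, rfl⟩).symm
  have mv : ∀ u, Lr u ∨ Sr u → Mv e t u → Mv e' (q.p t) u := fun u hu ⟨g, g1, g2⟩ =>
    have g3 := no g u hu g1 g2
    ⟨q.p g, by rw [← q.conj g3 t2, g1, q.mul t2 (x1 _), e1],
      by rw [e1, ← q.mul g3 (x1 _), g2, q.mul (x1 _) g3]⟩
  have bk : ∀ u, Lr u ∨ Sr u → Fu e' (q.p t) u → Fu e t u := fun u hu hf => by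
    obtain ⟨g', hg⟩ := isConj_iff.1 hf
    obtain ⟨g, g1, rfl⟩ := q.surj g'
    refine isConj_iff.2 ⟨g, (q.eq2 (mul_mem t1 (hL ⟨u, rfl⟩)) (mul_mem (mul_mem g1 t2) (inv_mem g1))
      (t3.mul ((is2_of_sq (sq_of hu).1).map e) (h.comm u)) (t3.conj g) ?_).symm⟩
    rw [q.conj g1 t2, hg, q.mul t2 (x1 _), e1]
  have fz : ∀ u, Lr u ∨ Sr u → Fu e t u → Fu e' (q.p t) u := fun u hu k =>
    let ⟨g, g1, _⟩ := mv u hu (H85.P6.H89.SP.jobMV n F G e t hB hC h.b0 u (rt_of hu) k)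
    isConj_iff.2 ⟨g, g1⟩
  have b1 : B1 e' (q.p t) := ⟨hi, ⟨by rw [← q.mul t2 t2, h.inv.1, q.one], fun e => h.inv.2 (t3.eq_one
    (odd_orderOf_of_mem o1 ((q.ker t t2).1 e)))⟩, e3 ▸ q.p_mem_Cs h.cen t2, fun g hg => by
      obtain ⟨g, g1, g2, rfl⟩ := q.lift_Cz t2 t3 hg
      exact e3 ▸ q.p_mem_Ns (h.cz g2) g1⟩
  have ck : ∀ g ∈ Cz (q.p t), g ∈ Cs e'.range → g = 1 ∨ g = q.p t := fun g g1 g2 => by
    obtain ⟨g, g3, g4, rfl⟩ := q.lift_Cz t2 t3 g1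
    obtain ⟨β, hβ⟩ := exists_ind h.inj (h.cz g4)
    refine (ko g ((hβ.eq_one_iff h.inj).1 (MulEquiv.ext fun s => hi ?_)) g4).imp (q.ker g g3).2 fun e => ?_
    · rw [e1, ← hβ, q.conj g3 (x1 s), ← e1, ← g2 _ ⟨s, rfl⟩, mul_inv_cancel_right]; rfl
    · have := (q.ker _ (mul_mem g3 t2)).2 e
      rw [q.mul g3 t2] at this
      rw [eq_inv_of_mul_eq_one_left this, b1.inv_eq]
  have H : CH e' (q.p t) := by
    refine ⟨⟨b1, fun R h1 h2 => ?_⟩, ck, FC.two n⟩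
    obtain ⟨T, T1, T2⟩ := _root_.H98.exists_isSyl_le (H9.UF.pg_zp b1.inv.1) (zpowers_le.2 b1.cen)
    have : Nontrivial T := ⟨⟨_, T2 (mem_zpowers _)⟩, 1, fun e => b1.inv.2 (congrArg Subtype.val e)⟩
    obtain ⟨⟨z, z1⟩, z2⟩ := @exists_ne _ T1.isPGroup.center_nontrivial 1
    have z3 : ∀ a ∈ T, a * z = z * a := fun a ha => congrArg Subtype.val (mem_center_iff.1 z1 ⟨a, ha⟩)
    have z4 := (ck z (mem_Cz.2 (z3 _ (T2 (mem_zpowers _)))) (T1.le z.2)).resolve_left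
      fun e => z2 (Subtype.ext (Subtype.ext e))
    refine (T1.card_le h2 h1).trans ((card_le_of_le fun a ha => ?_).trans
      (H59.SO.card_zpowers_inv2 b1.inv).le)
    rcases ck a (mem_Cz.2 (z4 ▸ (z3 a ha).symm)) (T1.le ha) with rfl | rfl
    exacts [one_mem _, mem_zpowers _]
  rcases hH _ e' _ H (hc.imp (mv _ ls_b) fun k => ⟨mv _ ls_a k.1, fun k' => k.2 (bk _ ls_b k')⟩)
    with ⟨_, _, w⟩ | ⟨Y, _, ι, τ, h1, B, c, h2⟩
  · refine .inl (_root_.H98.SfH.cw q hX e1 hL t1 hi (fun A π h1 h2 h3 h4 => ?_) w)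
    have := (H21.card_ker_dvd_multCard (π := π) ⟨h1, h2, h3 ▸ le_top⟩).trans
      (Fin.mult n F (FC.two n))
    exact (MonoidHom.ker_eq_bot_iff π).1 (card_eq_one.1 (Nat.Coprime.eq_one_of_dvd
      ((Nat.coprime_two_right.2 h4).pow_right 2) this))
  · -- the fusion pattern passes to the quotient in both directions
    exact .inr ⟨Y, _, ι, τ, ⟨h1.1, fun G' _ _ e'' t' G₁ F₀ c' k =>
      h1.2 G' e'' t' G₁ F₀ c' fun z hz k' => fz z hz (k z hz k')⟩,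
        _root_.H98.SfH.bl0 q hX e1 hL t1 hi h1.1 h2⟩

theorem res_of {Y : Type} [Group Y] {ι : XU n F →* Y} {τ : MulAut Y} {Φ : Y →* G} (q : QY Y)
    (m : H21.multCard Y ∣ 4) (h : Hm ι τ e t Φ)
    (k : ∀ (G' : Type u) [Group G'] [Finite G'] (e' : XU n F →* G') (t' : G')
      (F₀ : Subgroup G') (Φ' : Y →* G'), (∀ z, Lr z ∨ Sr z → Fu e' t' z → Fu e t z) →
        Cfg F₀ e'.range t' → CE e' t' → Hm ι τ e' t' Φ' → Cc n F F₀) : Rs e t := by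
  have := q.fin
  obtain ⟨c, b⟩ := hb q.perf q.odd h
  refine Or.inr ⟨_, _, _, _, ⟨q.ns, fun G' _ _ e' t' G₁ F₀ c' h1 h2 h3 h4 => ?_⟩, _, c, b⟩
  obtain ⟨Φ', h5⟩ := hl (eq_top_iff.2 FA.ns.perfect) q.perf m h3
  exact k G' e' t' F₀ Φ' h1 h4 h2 h5

omit [Base n F] in
theorem upar {K : Type} [Field K] [StarRing K] [CharP K 2] [Finite K] (x : Qx F K)
    (h : ∀ a : K, star a = x.σ a) :
    qK K = Nat.card F ∧ H85.P6.H67.UA.Par n K ∧ H85.P6.H67.UA.Par (n + 1) K := by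
  have h0 : Hf K := ⟨by
    by_contra! h1
    have h2 : Function.Surjective x.φ := fun a => (x.fix a).1 ((h a).symm.trans (h1 a))
    have h3 := Nat.card_le_card_of_surjective _ h2
    have : 1 < Nat.card F := Finite.one_lt_card
    rw [x.card] at h3; nlinarith⟩
  have h1 : qK K = Nat.card F :=
    Nat.pow_left_injective two_ne_zero ((H85.P6.H67.UA.Q.card (K := K)).symm.trans x.card)
  have := p.five
  exact ⟨h1, { h0 with five := this }, { h0 with five := by omega }⟩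

omit p [Base n F] [StarRing F] [TrivialStar F] [CharP F 2] in
theorem psu {m : ℕ} {K : Type} [Field K] [StarRing K] [CharP K 2] [Finite K]
    [H85.P6.H67.UA.Par m K] (h : qK K = Nat.card F) :
    Nonempty (XU m K ⧸ center (XU m K) ≃* PSU (m + 1) K (Nat.card F)) := by
  have := H85.P6.H67.UA.jobFQ m K
  obtain ⟨-, ε, -⟩ := H85.P6.H81.UAX.exists_iso (n := m) (K := K)
  exact h ▸ ⟨H55.quotCenterCongr ε⟩

theorem quot_ns {Y : Type} [Group Y] (h : NS Y) : Nonempty (Y ⧸ center Y ≃* Y) :=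
  ⟨(QuotientGroup.quotientMulEquivOfEq (eq_bot_iff.2 fun a ha => mem_bot.2 (h.eq_one fun c =>
    (mem_center_iff.1 ha c).symm))).trans QuotientGroup.quotientBot⟩

omit [Base n F] in
theorem ns_O (δ : F) : NS (Om (QD n F δ)) :=
  ⟨H91.SO.simple ((H85.P6.H86.SPI.mi n F).par δ), H91.SO.cen ((H85.P6.H86.SPI.mi n F).par δ)⟩

omit [Base n F] in
theorem qy_O (δ : F) : QY (Om (QD n F δ)) := by
  have ns := ns_O (n := n) δ
  obtain ⟨ε⟩ := quot_ns ns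
  have hp : commutator (Om (QD n F δ)) = ⊤ := eq_top_iff.2 ns.perfect
  have := ns.simple
  refine ⟨inferInstance, hp, ?_, fun N _ => (ns.normal N).imp_left fun k => k.le.trans bot_le,
    H69.SP3.ns_of (H69.SP3.perf_quot hp _) ε.isSimpleGroup⟩
  rw [(eq_bot_iff.2 fun a ha => mem_bot.2 (ns.eq_one fun c => (mem_center_iff.1 ha c).symm) :
    center (Om (QD n F δ)) = ⊥), card_bot]
  exact odd_one

theorem res (M : Mu) (hF : JobFin.{u}) (h : CH e t) (k : CB e t ∨ CA e t) : Rs e t := by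
  have b : Base n F := ‹_›
  have q := h.q2
  have c := fc n F q
  have o := fo n F
  have h5 := p.five
  have h6 := p.six
  rcases k with k | k
  · obtain ⟨κ, k1⟩ := H1.P6.H92.SpP.jobP2a n F G e t b c (H85.P6.H34.SpQE.jobQE n F b)
      (H85.P6.H1.SPCoc.jobCOC n F b q (H85.P6.H46.SPCF.jobCF n F b)) (_root_.H99.P6.SPB.jobFB n F b) h k
    by_cases k0 : κ = 0
    · subst k0
      rcases Fin.jobIII n F G e t h k1 with ⟨K, _, _, _, _, x, s, Φ, m⟩ | m | ⟨Φ, m⟩ |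
        ⟨K, _, _, _, _, x, s, Φ, m⟩
      · have : Par n K := ⟨p.odd, p.five, p.six⟩
        have : TrivialStar K := ⟨s⟩
        have b' := base n K
        let _ := Fintype.ofFinite K
        refine res_of (H69.SP3.jobQS n K b') (by rw [FA.mult (by rw [x.card, q]; norm_num)]; exact one_dvd _)
          m fun G' _ _ e' t' F₀ Φ' _ a1 a2 a3 => ?_
        obtain ⟨ε⟩ := hF.s n F b c o K x s G' e' t' F₀ Φ' a1 a2 a3 trivial
        obtain ⟨ε1⟩ := quot_ns (FA.ns (n := n) (F := K))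
        obtain ⟨ε2⟩ := FA.psp (n := n) (F := K)
        exact Or.inr (Or.inr (Or.inl ⟨K, _, _, Nat.card_eq_fintype_card.symm.trans x.card,
          Or.inr (Or.inr ⟨ε.trans (ε1.trans ε2)⟩)⟩))
      · exact Or.inl m
      · refine res_of (H69.SP3.jobQL (n + 1) F (by omega)) (M.l (n + 1) F (by omega)) m
          fun G' _ _ e' t' F₀ Φ' _ a1 a2 a3 => ?_
        exact Or.inr (Or.inl (hF.l1 n F b c o G' e' t' F₀ Φ' a1 a2 a3 trivial))
      · obtain ⟨u1, -, u2⟩ := upar (n := n) x s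
        let _ := Fintype.ofFinite K
        refine res_of (H69.SP3.jobQU (n + 1) K) (M.u (n + 1) K (by omega) (u1.trans q)) m
          fun G' _ _ e' t' F₀ Φ' _ a1 a2 a3 => ?_
        obtain ⟨ε⟩ := hF.u1 n F b c o K x s G' e' t' F₀ Φ' a1 a2 a3 trivial
        obtain ⟨ε1⟩ := psu (m := n + 1) u1
        exact Or.inr (Or.inr (Or.inl ⟨K, _, _, Nat.card_eq_fintype_card.symm.trans x.card,
          Or.inr (Or.inl ⟨ε.trans ε1⟩)⟩))
    · have r := H85.P6.H86.SPI.jobI n F G e t h κ k0 k1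
      have na := H54.P6.H86.SPG.nfa n F G e t b c h r
      obtain ⟨δ, Φ, m⟩ := r
      refine res_of (qy_O δ) (M.o n F δ) m fun G' _ _ e' t' F₀ Φ' a0 a1 a2 a3 => ?_
      obtain ⟨ε⟩ := hF.o n F b c o δ G' e' t' F₀ Φ' a1 a2 a3
        (H54.P6.H86.SPG.gdI n F G' e' t' b c a2.b0 ⟨δ, Φ', a3⟩ fun k => na (a0 _ ls_a k))
      obtain ⟨ε1⟩ := quot_ns (ns_O (n := n) δ)
      refine Or.inr (Or.inr (Or.inr ((H85.P6.H86.SPI.mo n F δ).imp
        (fun ⟨ε2⟩ => ⟨ε.trans (ε1.trans ε2)⟩)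
        fun ⟨a, b, h1, ⟨ε2⟩⟩ => ⟨a, b, h1, ⟨ε.trans (ε1.trans ε2)⟩⟩)))
  · rcases H78.P6.H78.S2.jobII_of _root_.H73.P6PC.jobPC n F G e t h k with
      ⟨Φ, m⟩ | ⟨K, _, _, _, _, x, s, Φ, m⟩
    · refine res_of (H69.SP3.jobQL n F h5) (M.l n F h5) m fun G' _ _ e' t' F₀ Φ' a0 a1 a2 a3 => ?_
      exact Or.inl (hF.l0 n F b c o G' e' t' F₀ Φ' a1 a2 a3 fun k' => k.2 (a0 _ ls_b k'))
    · obtain ⟨u1, u2, -⟩ := upar (n := n) x s
      let _ := Fintype.ofFinite K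
      refine res_of (H69.SP3.jobQU n K) (M.u n K (by omega) (u1.trans q)) m
        fun G' _ _ e' t' F₀ Φ' a0 a1 a2 a3 => ?_
      obtain ⟨ε⟩ := hF.u0 n F b c o K x s G' e' t' F₀ Φ' a1 a2 a3 fun k' => k.2 (a0 _ ls_b k')
      obtain ⟨ε1⟩ := psu (m := n) u1
      exact Or.inr (Or.inr (Or.inl ⟨K, _, _, Nat.card_eq_fintype_card.symm.trans x.card,
        Or.inl ⟨ε.trans ε1⟩⟩))

theorem no_wr (q : Nat.card F = 2) {F₀ : Subgroup G} (hk : Injective e)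
    (h : Cfg F₀ e.range t) (ce : CE e t) : ¬ RW e t := by
  rintro ⟨e₁, e₂, w⟩
  have hX : NS (XU n F) := FA.ns
  have : (G12 e₁ e₂).Normal := normalizer_eq_top_iff.1
    (Fin.jobWR n F G e t ‹_› (fc n F q) (fo n F) ce e₁ e₂ w)
  have h5 : F₀ ≤ G12 e₁ e₂ := hX.F0_le h hk w.range_le
  have h6 := hX.range_le_F0 h e₁
  obtain ⟨a, ha⟩ := hX.exists_ne
  rcases h.simple.eq_bot_or_eq_top_of_normal (e₁.range.subgroupOf F₀)
    ((normal_subgroupOf_iff_le_normalizer h6).2 (h5.trans w.G12_le_Ns)) with h7 | h7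
  · exact ha (w.inj ((mem_bot.1 ((subgroupOf_eq_bot.1 h7).eq_bot ▸
      (⟨⟨a, rfl⟩, h6 ⟨a, rfl⟩⟩ : _ ∈ e₁.range ⊓ F₀))).trans e₁.map_one.symm))
  · exact w.ne hX ((hX.range_le_F0 h e₂).trans (subgroupOf_eq_top.1 h7))

theorem core (M : Mu) (hF : JobFin.{u}) (q : Nat.card F = 2) {F₀ : Subgroup G} (hk : Injective e)
    (h : Cfg F₀ e.range t) : (∃ z, Inv2 z ∧ Fu e t z) ∧ Cc n F F₀ := by
  have c := fc n F q
  obtain ⟨ce, k1⟩ := head q hk h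
  refine ⟨?_, ?_⟩
  · rcases k1 with ⟨g, k, -⟩ | ⟨⟨g, k, -⟩, -⟩
    exacts [⟨_, sq_of ls_b, isConj_iff.2 ⟨g, k⟩⟩, ⟨_, sq_of ls_a, isConj_iff.2 ⟨g, k⟩⟩]
  rcases jobH (fun _ _ _ _ _ => res M hF) ce k1 with w | ⟨Y, _, ι, τ, m, G₁, c', b'⟩
  · exact absurd w (no_wr q hk h ce)
  · exact m.2 G e t G₁ F₀ c' (fun _ _ k => k) ce b' h

theorem exists_e (q : Nat.card F = 2) {L : Subgroup G} (c : Cov (XU n F) L) (hp : L ≤ ⁅L, L⁆) :
    ∃ e : XU n F →* G, Injective e ∧ e.range = L := by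
  have hX : NS (XU n F) := FA.ns
  have hz : c.piH.ker ≤ center L := fun l hl =>
    mem_center_iff.2 fun a => Subtype.ext (c.ker_cen l l.2 hl a a.2)
  obtain ⟨j, hj⟩ := H78.S6.lift_odd (eq_top_iff.2 hX.perfect) (Fin.mult n F q) (MonoidHom.id _)
    c.piH_surjective hz fun l hl => by simpa using c.ker_odd l l.2 hl
  have h3 : Surjective j := H21.surjective_of_lift_stem c.piH
    ⟨c.piH_surjective, hz, (H64.commutator_eq_top_of_le hp).symm ▸ le_top⟩ j fun d => ⟨_, hj _⟩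
  refine ⟨L.subtype.comp j, L.subtype_injective.comp fun a b k =>
    (hj a).symm.trans ((congrArg c.piH k).trans (hj b)), ?_⟩
  rw [← MonoidHom.map_range, MonoidHom.range_eq_top.2 h3, ← MonoidHom.range_eq_map, range_subtype]

end

end H67.P6.Core
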