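import Cfsg.Agent.H67.P6.H67_SPIII

namespace H1 end H1
open H1
namespace H85.P6 end H85.P6
open H85.P6
namespace H85.P6.H1 end H85.P6.H1
open H85.P6.H1
namespace H85.P6.H1.SP3RS end H85.P6.H1.SP3RS
open H85.P6.H1.SP3RS
namespace H67.P6


/-! STD-SP chapter III, slot RS: the recognition of `Sp_(2k)(q²)`. -/

set_option autoImplicit false
set_option linter.unusedSectionVars false

namespace H1.SP3RS

open H67.UA hiding Par
open H67.SP Subgroup
open H67.SA (cm)

universe u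

variable {n : ℕ} {F : Type} [Field F] [StarRing F] [TrivialStar F] [CharP F 2] [Finite F]

section Map

variable {Γ A B : Type*} [Group Γ] [Group A] [Group B] {E : XU n F →* Γ} {T : Vn n F → Γ}
  {e : XU n F →* A} {τ : Vn n F → A} {e' : XU n F →* B} {τ' : Vn n F → B} {π : Γ →* A} {π' : Γ →* B}

theorem sg_map (h1 : ∀ g, π (E g) = e g) (h2 : ∀ v, π (T v) = τ v) (β : F) (u v : Vn n F) :
    π (sg E T β u v) = sg e τ β u v := by simp only [H67.SP.sg, map_mul π, h1, h2]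

theorem rd_of {δ : F} (j : ∀ a b, π a = π b → π' a = π' b → a = b) (h1 : ∀ g, π (E g) = e g)
    (h2 : ∀ v, π (T v) = τ v) (h1' : ∀ g, π' (E g) = e' g) (h2' : ∀ v, π' (T v) = τ' v)
    (r : RD e τ δ) (r' : RD e' τ' δ) : RD E T δ := by
  have s := sg_map h1 h2
  have s' := sg_map h1' h2'
  refine ⟨⟨⟨⟨?_, fun g v => ?_⟩, fun u v a => ?_⟩, fun v => ?_, fun u v a => ?_, fun u v a => ?_,
    fun u v w a => ?_, fun a b u => ?_, fun u v w a => ?_, fun a u v b => ?_, fun a u => ?_⟩,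
    fun u v w a b => ?_, fun u v x a b => ?_⟩ <;> apply j <;>
    simp only [cm, map_mul π, map_mul π', map_inv π, map_inv π', map_one, h1, h2, h1', h2', s, s']
  exacts [r.zero, r'.zero, r.eqv _ _, r'.eqv _ _, r.cmp _ _ a, r'.cmp _ _ a, r.sq _, r'.sq _,
    r.ssq _ _ a, r'.ssq _ _ a, r.ssym _ _ a, r'.ssym _ _ a, r.stau _ _ _ a, r'.stau _ _ _ a,
    r.nadd _ _ _, r'.nadd _ _ _, r.sadd _ _ _ a, r'.sadd _ _ _ a, r.sscal _ _ _ b, r'.sscal _ _ _ b,
    r.shift _ _, r'.shift _ _, r.mul _ _ _ a b, r'.mul _ _ _ a b, r.cS _ _ _ a b, r'.cS _ _ _ a b]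

theorem ad_map (h1 : ∀ g, π (E g) = e g) (h2 : ∀ v, π (T v) = τ v) (u : Vn n F) :
    AD E T u ≤ (AD e τ u).comap π := (closure_le _).2 fun _ ⟨x, c, v, a, p, q, k⟩ =>
  subset_closure ⟨x, c, v, a, p, q, by rw [k, map_mul, map_mul, h1, h2, sg_map h1 h2]⟩

theorem ld_map (h1 : ∀ g, π (E g) = e g) (h2 : ∀ v, π (T v) = τ v) (u u' : Vn n F) :
    LD E T u u' ≤ (LD e τ u u').comap π := (closure_le _).2 fun _ k => subset_closure
  (k.imp (fun ⟨p, a, b, c⟩ => ⟨p, a, b, by rw [c, h1]⟩) fun ⟨y, a, b, c⟩ => ⟨y, a, b, by rw [c, h2]⟩)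

theorem ld_le (u u' : Vn n F) : LD E T u u' ≤ PD E T u ⊓ PD E T u' :=
  le_inf (closure_mono fun _ k => k.imp (fun ⟨p, a, _, c⟩ => ⟨p, a, c⟩) fun ⟨y, a, _, c⟩ => ⟨y, a, c⟩)
    (closure_mono fun _ k => k.imp (fun ⟨p, _, a, c⟩ => ⟨p, a, c⟩) fun ⟨y, _, a, c⟩ => ⟨y, a, c⟩)

end Map

variable {K : Type} [Field K] [StarRing K] [CharP K 2] [Finite K]

theorem vx_ev (φ : F →+* K) (i : Fin (n + 1)) : vx φ (ev i : Vn n F) = ev i := funext fun j => by
  simp only [vx, ev_apply]; split_ifs <;> simp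

theorem vx_smul (φ : F →+* K) (a : F) (v : Vn n F) : vx φ (a • v) = φ a • vx φ v := funext fun j => by
  simp [vx]

theorem vx_zero (φ : F →+* K) : vx φ (0 : Vn n F) = 0 := funext fun j => by simp [vx]

theorem rt0 : rt (0 : F) = 0 := sq_inj (by rw [rt_sq]; simp)
theorem rt1 : rt (1 : F) = 1 := sq_inj (by rw [rt_sq]; simp)

theorem core (pr : JobPR.{u}) (gx : JobGX) [p : Par n F] [b : Base n F] [TrivialStar K] [Par n K] (bK : Base n K)
    {x : Qx F K} {δ : F} {η : K} (hη : Eta x δ η) {h : ∀ a : K, star a = a} (m : MS n x δ η h)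
    {Γ : Type u} [Group Γ] {E : XU n F →* Γ} {T : Vn n F → Γ} (π : Γ →* XU n K)
    (h1 : ∀ g, π (E g) = bc x.φ (x.st (Or.inl h)) g) (h2 : ∀ v, π (T v) = TS x.φ η v)
    (r : RD E T δ) (s : SD E T) (top : GD E T = ⊤) : π.ker ≤ center Γ ∧ Function.Surjective π := by
  have inj : ∀ u, u ≠ 0 → ∀ a ∈ AD E T u, π a = 1 → a = 1 := fun u hu a ha k => by
    obtain ⟨y, c, v, a, hy, hv, rfl⟩ := s.nf u a ha
    rw [map_mul, map_mul, h1, h2, sg_map h1 h2, m.ee u y c hy, m.sg u v hv] at k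
    obtain ⟨k1, rfl, b, rfl⟩ := m.inj u y v c a hu hy hv k
    simp [k1, r.shift, r.zero]
  choose α β hc using m.dec
  have uq : ∀ a b : F, α (x.φ a + η * x.φ b) = a ∧ β (x.φ a + η * x.φ b) = b := fun a b => by
    have k := hc (x.φ a + η * x.φ b)
    generalize α _ = a', β _ = b' at k
    have f : ∀ a, x.σ (x.φ a) = x.φ a := fun a => (x.fix _).2 ⟨a, rfl⟩
    have k' := congrArg x.σ k
    simp only [map_add, map_mul, f, hη.sg] at k'
    have e : x.φ b' = x.φ b := by linear_combination k - k'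
    exact ⟨x.φ.injective (by linear_combination -k - η * e), x.φ.injective e⟩
  have hv : ∀ i j : Fin (n + 1), j ≠ i.rev → hf (ev i : Vn n F) (ev j) = 0 := fun i j k => by
    rw [hf_ev, if_neg k]
  have sl : ∀ (a : F) (i j : Fin (n + 1)), j ≠ i.rev → hf (a • ev i : Vn n F) (ev j) = 0 := fun a i j k => by
    rw [hf_smul_left, hv i j k, mul_zero]
  have lt : ∀ i j : Fin (n + 1), i.val < kk n → j.val < kk n → j ≠ i.rev := fun i j a b k => by
    have := congrArg Fin.val k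
    simp only [Fin.val_rev, kk] at *
    omega
  have su : ∀ i : Fin (n + 1), i.val + 1 < kk n → (i + 1).val < kk n := fun i a => by
    rwa [Fin.val_add_one_of_lt' (by simp only [kk] at a; omega)]
  refine pr n K bK ?_ Γ π (fun j c => E (Tc (α c) (ev j)) * T (rt (β c) • ev j))
    (fun i c => E (qq (α c • ev (i + 1)) (ev i)) * sg E T 0 (ev i) (β c • ev (i + 1)))
    (fun l => PD E T (ev l)) (fun j c => ?_) (fun i c hi => ?_)
    (fun l hl => ⟨fun g hg k => ?_, fun j c hj => ?_, fun i c hi => ?_⟩) ?_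
  · have : 1 < Nat.card F := Finite.one_lt_card
    rw [x.card]
    nlinarith
  · rw [map_mul, h1, h2, m.ee _ _ _ (hf_zero_left _), TS, vx_smul, vx_ev, vx_zero, Tc_smul,
      ← Tc_add (FV.iso _) (h _) (h _), nm, h, ← map_mul, ← sq, rt_sq, mul_comm, ← hc]
  · have a := lt _ _ (su i hi) (Nat.lt_of_succ_lt hi)
    rw [map_mul, h1, sg_map h1 h2, m.ee _ _ _ (sl _ _ _ a), m.sg _ _ (hf_symm (sl _ _ _ a)), vx_smul,
      vx_smul, vx_ev, vx_ev, map_zero, smul_smul]
    have a' : ∀ c : K, Pp (ev i : Vn n K) (c • ev (i + 1)) := fun c =>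
      FV.pp _ _ (hf_symm (by rw [hf_smul_left, hf_ev, if_neg a, mul_zero]))
    rw [← qq, ← qq_add (a' _) (a' _) (by rw [hf_smul_left, hf_smul_right, FV.iso, mul_zero, mul_zero]),
      ← add_smul, ← hc]
  · obtain ⟨a, ha, y, hy, rfl⟩ := s.dec (ev l) (ev l.rev) (by rw [hf_ev, if_pos rfl]) g hg
    obtain rfl := inj _ (ev_ne l) a ha (m.lev _ _ (by rw [hf_ev, if_pos rfl]) _ (ad_map h1 h2 _ ha) _
      (ld_map h1 h2 _ _ hy) (by rwa [← map_mul]))
    rw [one_mul] at k ⊢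
    have c : ∀ i, y ∈ PD E T (ev i) → AD E T (ev i) ≤ centralizer {y} := fun i hi a ha =>
      mem_centralizer_singleton_iff.2 (mul_inv_eq_iff_eq_mul.1 (mul_inv_eq_one.1 (inj _ (ev_ne i) _
        (mul_mem (s.nrm _ y hi a ha) (inv_mem ha)) (by simp [k])))).symm
    have := sup_le (c _ (ld_le _ _ hy).1) (c _ (ld_le _ _ hy).2)
    rw [s.gen _ _ (by rw [hf_ev, if_pos rfl]), top] at this
    exact mem_center_iff.2 fun g => mem_centralizer_singleton_iff.1 (this (mem_top g))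
  · refine mul_mem (subset_closure (.inl ⟨_, ?_, rfl⟩))
      (subset_closure (.inr ⟨_, hf_symm ?_, rfl⟩))
    · rw [ac_Tc (FV.iso _) (star_trivial _), hv l j hj]; simp
    · rw [hf_smul_right, hv l j hj, mul_zero]
  · have a := lt _ _ (su i hi) hl
    have a' := lt _ _ (Nat.lt_of_succ_lt hi) hl
    have t : ∀ y, hf y (ev l) = 0 → T y ∈ PD E T (ev l) := fun y k => subset_closure (.inr ⟨_, k, rfl⟩)
    refine mul_mem (subset_closure (.inl ⟨_, ?_, rfl⟩)) (mul_mem (mul_mem (mul_mem (t _ ?_)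
      (t _ (hv _ _ a'))) (t _ (sl _ _ _ a))) (by simp [one_mem]))
    · exact ac_EE_fix (FV.ok _ _ _ (sl _ _ _ (lt _ _ (su i hi) (Nat.lt_of_succ_lt hi))))
        (hf_symm (hv _ _ a')) (hf_symm (sl _ _ _ a))
    · rw [hf_add_left, hv _ _ a', sl _ _ _ a, add_zero]
  · rw [eq_top_iff, ← top]
    generalize hA : Subgroup.closure (G := Γ) _ = A
    have mz : ∀ j c, E (Tc (α c) (ev j)) * T (rt (β c) • ev j) ∈ A := fun j c =>
      hA ▸ Subgroup.subset_closure (.inl ⟨j, c, rfl⟩)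
    have mm : ∀ (i : Fin (n + 1)) c, i.val + 1 < kk n →
        E (qq (α c • ev (i + 1)) (ev i)) * sg E T 0 (ev i) (β c • ev (i + 1)) ∈ A := fun i c hi =>
      hA ▸ Subgroup.subset_closure (.inr ⟨i, c, hi, rfl⟩)
    have mE : ∀ g, E g ∈ A := fun g => (gx n F b (A.comap E) (fun j c => by
        have := mz j (x.φ c + η * x.φ 0)
        rwa [(uq _ _).1, (uq _ _).2, rt0, zero_smul, r.zero, mul_one] at this) (fun i c hi => by
        have := mm i (x.φ c + η * x.φ 0) hi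
        rwa [(uq _ _).1, (uq _ _).2, zero_smul, ← zero_smul F (ev i), r.shift, mul_zero, Tc, EE_zero,
          map_one, mul_one] at this)).ge (mem_top g)
    refine (closure_le _).2 ?_
    rintro _ (⟨g, rfl⟩ | ⟨v, rfl⟩)
    · exact mE g
    by_cases v0 : v = 0
    · rw [v0, r.zero]; exact one_mem _
    obtain ⟨g, rfl⟩ := FW.w1 v v0
    have := mz 0 (x.φ 0 + η * x.φ 1)
    rw [(uq _ _).2, rt1, one_smul, mul_mem_cancel_left (mE _)] at this
    rw [← r.eqv]
    exact mul_mem (mul_mem (mE g) this) (inv_mem (mE g))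

theorem jobRS : JobRS.{u} := by
  intro gr pr gx sd ms qs base n F _ _ _ _ _ p b K _ _ _ _ x δ η hη h G _ _ e t τ w r tt
  have : TrivialStar K := ⟨h⟩
  have : Par n K := ⟨p.odd, p.five, p.six⟩
  have k4 : 4 ≤ Nat.card K := by
    have : 1 < Nat.card F := Finite.one_lt_card
    rw [x.card]
    nlinarith
  have m := ms n F b K x δ η hη h
  let ι : XU n F →* XU n K := bc x.φ (x.st (Or.inl h))
  let Γ : Subgroup (XU n K × G) := GD (ι.prod e) fun v => (TS x.φ η v, τ v)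
  have mE : ∀ g, ι.prod e g ∈ Γ := fun g => subset_closure (.inl ⟨g, rfl⟩)
  have mT : ∀ v, (TS x.φ η v, τ v) ∈ Γ := fun v => subset_closure (.inr ⟨v, rfl⟩)
  let E : XU n F →* Γ := (ι.prod e).codRestrict Γ mE
  let T : Vn n F → Γ := fun v => ⟨_, mT v⟩
  have rd : RD E T δ := rd_of (π := (MonoidHom.fst _ _).comp Γ.subtype)
    (π' := (MonoidHom.snd _ _).comp Γ.subtype) (fun a b c d => Subtype.ext (Prod.ext c d))
    (fun _ => rfl) (fun _ => rfl) (fun _ => rfl) (fun _ => rfl) m.rd r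
  have s := sd n F b Γ E T δ rd
  have top : GD E T = ⊤ := eq_top_iff.2 fun g _ => by
    have : Γ ≤ (GD E T).map Γ.subtype := (closure_le _).2 (by
      rintro _ (⟨g, rfl⟩ | ⟨v, rfl⟩)
      exacts [⟨E g, subset_closure (.inl ⟨g, rfl⟩), rfl⟩, ⟨T v, subset_closure (.inr ⟨v, rfl⟩), rfl⟩])
    exact (mem_map_iff_mem Γ.subtype_injective).1 (this g.2)
  obtain ⟨ker, sur⟩ := core pr gx (base n K) hη m ((MonoidHom.fst _ _).comp Γ.subtype) (fun _ => rfl)
    (fun _ => rfl) rd s top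
  have q := qs n K (base n K)
  obtain ⟨Φ, hΦ⟩ := gr _ G Γ q ((base n K).mult k4) (eq_top_iff.2 (by simpa only [top, _root_.commutator_def] using s.perf)) sur ker
  have res : ∀ g, Φ (ι g) = e g := fun g => hΦ _ (mE g)
  have rt : ∀ v, Φ (TS x.φ η v) = τ v := fun v => hΦ _ (mT v)
  refine ⟨K, _, _, _, inferInstance, x, h, Φ, (q.nrm _ inferInstance).resolve_right fun k => ?_, res, fun y => ?_⟩
  · have : e (TT (ev 0)) = e 1 := by rw [← res, map_one]; exact k.ge (mem_top _)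
    exact one_ne_zero (Tc_eq_one (ev_ne 0) (FV.iso _) (star_one F) (w.inj this))
  · obtain ⟨g, rfl⟩ := sur y
    have : Γ ≤ (((MulAut.conj t).toMonoidHom.comp Φ).eqLocus
        (Φ.comp (fa x.σ (x.sf (Or.inl h))).toMonoidHom)).comap (MonoidHom.fst _ _) := (closure_le _).2 (by
      rintro _ (⟨g, rfl⟩ | ⟨v, rfl⟩)
      · change t * Φ (ι g) * t⁻¹ = Φ (fa _ _ (ι g))
        rw [m.fe, res, w.cen, mul_inv_cancel_right]
      · change t * Φ (TS _ _ v) * t⁻¹ = Φ (fa _ _ (TS _ _ v))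
        rw [m.ft, map_mul, res, rt, inv_eq_of_mul_eq_one_right w.tt, mul_assoc,
          mul_inv_eq_iff_eq_mul.1 (tt v), ← mul_assoc, ← mul_assoc, w.tt, one_mul])
    exact this g.2

end H1.SP3RS
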