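import Cfsg.Agent.H67.P6.H35_S3MS
import Cfsg.Agent.H85.P6.H59_UMFW
import Cfsg.Agent.H85.P6.H67_UAFQ

namespace H35 end H35
open H35
namespace H78.P6 end H78.P6
open H78.P6
namespace H78.P6.H35 end H78.P6.H35
open H78.P6.H35
namespace H78.P6.H35.S3MU end H78.P6.H35.S3MU
open H78.P6.H35.S3MU
namespace H85.P6 end H85.P6
open H85.P6
namespace H85.P6.H35 end H85.P6.H35
open H85.P6.H35
namespace H85.P6.H35.S3MU end H85.P6.H35.S3MU
open H85.P6.H35.S3MU
namespace H67.P6


/-! STD-SP chapter III, slot MU: the model `SU_(2k)(q)`. -/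

set_option autoImplicit false
set_option linter.unusedSectionVars false

namespace H35.S3MU

open H67.UA hiding Par
open H67.SP H35.S2UM H35.S3MS
open H86.SPI (ok pp hf_self hf_comm EE_mul' EE_comm EE_sq hf_smul_right' qq_dep)
open H78.S2 (zM ac_Tc_fix)

variable {n : ℕ} {F : Type} [Field F] [StarRing F] [TrivialStar F] [CharP F 2] [Finite F]
  [p : Par n F] {K : Type} [Field K] [StarRing K] [CharP K 2] [Finite K] {x : Qx F K} {δ : F} {η : K}
  (k : Eta x δ η) (h : ∀ a : K, star a = x.σ a)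

theorem SU_eq (φ : F →+* K) (η : K) (u v : Vn n F) : SU0 φ η u v = zM φ u v (η + 1) := rfl

include k h

theorem st1 : star (η + 1) = η := by
  rw [h, map_add, k.sg, map_one, add_assoc, CharTwo.add_self_eq_zero, add_zero]

theorem nm1 : x.φ δ = nm (η + 1) := by rw [nm, st1 k h, ← k.sq]; ring

theorem tr1 : tr (η + 1) = 1 := by rw [tr, st1 k h]; linear_combination η * two0 K

theorem hfK : Hf K := ⟨η, fun q => one_ne_zero (by rwa [h, k.sg, add_eq_left] at q)⟩

theorem upar : H67.UA.Par n K where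
  toHf := hfK k h
  five := p.five

theorem re : RE (bc x.φ (x.st (Or.inr h)) : XU n F →* XU n K) (SU0 x.φ η) δ := by
  have h' := x.st (F := F) (Or.inr h)
  have f := uf (n := n) h'
  have t2 := two0 K
  refine ⟨fun g u v q => f.eqv g u v _ (hf_symm q), fun u v w q q' => ?_, fun u v q => ?_,
    fun a u v q => ?_, fun a u => ?_, fun u y z v q q' => ?_⟩
  · rw [hf_comm v]
    exact f.ad2 u v w _ δ (hf_symm q) (hf_symm q') (nm1 k h)
  · have h1 := f.rat u v 1 (hf_symm q)
    rw [one_smul] at h1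
    rw [SU_eq, SU_eq, ← h1, f.add _ _ _ _ (hf_symm q), f.sw _ _ _ (hf_symm q), st1 k h, map_one,
      add_assoc, CharTwo.add_self_eq_zero, add_zero]
  · rw [SU_eq, SU_eq, zM_eq, zM_eq, mv_smul, mv_smul, EE_smul, mul_zero, h', star_trivial, smul_comm]
  · rw [SU_eq, f.sm _ _ _ _ (hf_self u)]
    exact f.dep u _ a (by
      rw [tr, star_mul', h', star_trivial, st1 k h]; linear_combination -(x.φ a * η) * t2)
  · have h1 : hf (δ • (hf v z • y + hf v y • z)) u = 0 := by
      simp [hf_smul_left, hf_add_left, hf_symm q.uv, hf_symm q.uw]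
    have h2 : hf (v + hf v y • z) u = 0 := by
      simp [hf_smul_left, hf_add_left, hf_symm q', hf_symm q.uw]
    have h3 := ok_z h' (hf_symm q.vw) (η + 1)
    rw [SU_eq, SU_eq, SU_eq, zM_eq, zM_eq, zM_eq, EE_conj (ok_z h' (hf_symm q') _),
      ac_EE_fix h3 (by simp [hf_mv _ h', q.uv]) (by simp [hf_z2 h', q.uw]), ac_EE h3, qq,
      bc_EE _ h' (ok h1 0), EE_mul (ok_mv _ h' (ok h1 0)) (ok_z h' h2 _), hf_z h', hf_z1 h', hf_z1 h',
      st1 k h]
    simp only [mv_add, mv_smul, hf_smul_right', hf_add_left, hf_add_right, hf_smul_left, hf_self,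
      hf_symm q.vw, map_zero, mul_zero, add_zero, zero_mul, zero_smul, zero_add, ← k.sq,
      mul_comm (hf v y), CharTwo.add_self_eq_zero]
    congr 1
    ext i
    simp only [Pi.add_apply, Pi.smul_apply, smul_eq_mul]
    ring

theorem split (y : Vn n K) : ∃ a b : Vn n F, y = mv x.φ a + (η + 1) • mv x.φ b := by
  choose a b hab using fun i => dec k (y i)
  refine ⟨a + b, b, funext fun i => ?_⟩
  simp only [mv, Pi.add_apply, Pi.smul_apply, smul_eq_mul, map_add, hab i]
  linear_combination -(x.φ (b i)) * two0 K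

theorem iso_iff {a b : Vn n F} (q : Iso (mv x.φ a + (η + 1) • mv x.φ b)) : hf a b = 0 := by
  have h' := x.st (F := F) (Or.inr h)
  rw [Iso, hf_add_left, hf_add_right, hf_add_right, hf_z h', hf_z1 h', hf_z2 h', hf_mv _ h', hf_self,
    hf_self, st1 k h, hf_comm b, map_zero] at q
  exact (map_eq_zero x.φ).1 (by linear_combination q - η * x.φ (hf a b) * two0 K)

theorem TT_eq {a b : Vn n F} (q : hf a b = 0) : TT (mv x.φ a + (η + 1) • mv x.φ b) =
    SU0 x.φ η a b * bc x.φ (x.st (Or.inr h)) (Tc δ b) * bc x.φ (x.st (Or.inr h)) (TT a) := by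
  have h' := x.st (F := F) (Or.inr h)
  have i1 : Iso (mv x.φ a) := (ok_z h' (hf_symm q) 0).iso
  have i2 : Iso ((η + 1) • mv x.φ b) := (ok_z h' q 0).iso.smul _
  have h1 := qq_eq_TT (⟨i1, i2, by rw [hf_z2 h', q, map_zero, mul_zero]⟩ :
    Pp (mv x.φ a) ((η + 1) • mv x.φ b))
  have h2 : TT ((η + 1) • mv x.φ b) = Tc (x.φ δ) (mv x.φ b) := by
    rw [TT, Tc_smul, mul_one, nm1 k h]
  rw [bc_Tc h', bc_Tc h', map_one, ← h2, SU_eq, zM_eq, ← qq, h1, mul_assoc (_ * TT (mv x.φ a)),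
    Tc_mul_self i2 (star_one K), mul_one, mul_assoc, Tc_mul_self i1 (star_one K), mul_one]

omit p k h in
theorem jobMU : JobMU := by
  intro n F _ _ _ _ _ p _ K _ _ _ _ x δ η k h
  have h' := x.st (F := F) (Or.inr h)
  have u := upar (n := n) k h
  have five := p.five
  refine ⟨u, ⟨by omega⟩, re k h, H59.UM.genT _ fun y hy => ?_,
    fun g hg => H59.UM.genP _ (fun y hy => ?_) hg, bc_fix x _ _, fun a b q => ?_⟩
  · obtain ⟨a, b, rfl⟩ := split k h y
    have q := iso_iff k h hy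
    rw [TT_eq k h q]
    exact mul_mem (mul_mem (Subgroup.subset_closure (Or.inr ⟨a, b, q, rfl⟩))
      (Subgroup.subset_closure (Or.inl ⟨_, rfl⟩))) (Subgroup.subset_closure (Or.inl ⟨_, rfl⟩))
  · obtain ⟨a, b, rfl⟩ := split k h y
    have q := iso_iff k h hy.r
    have q1 := hy.p
    rw [← mv_ev x.φ, hf_add_right, hf_z2 h', hf_mv _ h', st1 k h] at q1
    obtain ⟨q2, q3⟩ := uq k q1
    rw [TT_eq k h q]
    exact mul_mem (mul_mem (Subgroup.subset_closure (Or.inr ⟨a, b, ⟨q2, q3, q⟩, rfl⟩))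
      (Subgroup.subset_closure (Or.inl ⟨_, ac_Tc_fix _ q3, rfl⟩)))
      (Subgroup.subset_closure (Or.inl ⟨_, ac_Tc_fix _ q2, rfl⟩))
  · rw [SU_eq, SU_eq, (uf h').sw _ _ _ (hf_symm q)]
    exact (jobUM n F K x h).2 a b _ (hf_symm q)

end H35.S3MU
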