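import Cfsg.Agent.H67.P6.H67_SPIII
import Cfsg.Agent.H85.P6.H54_SPFW

namespace H62 end H62
open H62
namespace H85.P6 end H85.P6
open H85.P6
namespace H85.P6.H62 end H85.P6.H62
open H85.P6.H62
namespace H85.P6.H62.SP3W end H85.P6.H62.SP3W
open H85.P6.H62.SP3W
namespace H67.P6


/-! STD-SP chapter III, slot ML1: `SL` is transitive on the incident (vectors, functionals). -/

set_option autoImplicit false
set_option linter.unusedSectionVars false

namespace H62.SP3W

open H67.UA hiding Par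
open H67.SP Matrix H54.SPF
open H86.SPI (hf_comm)
open H67.SA (SLn)

variable {n : ℕ} {F : Type} [Field F] [StarRing F] [TrivialStar F] [CharP F 2] [Finite F]

theorem hf_left (g : SLn n F) (x y : Vn n F) : hf (g.1 *ᵥ x) y = hf x ((tau n F g⁻¹).1 *ᵥ y) := by
  simp only [hf, mulVec, dotProduct, tau_inv_apply, star_sum, star_mul', star_star, Fin.rev_rev,
    Finset.sum_mul, Finset.mul_sum]
  rw [Finset.sum_comm]
  refine Finset.sum_congr rfl fun j _ => ?_
  rw [← Equiv.sum_comp Fin.revPerm]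
  simp [mul_comm, mul_left_comm]

theorem tau_eq {g : SLn n F} {y f : Vn n F} (h : ∀ x, hf (g.1 *ᵥ x) f = hf x y) :
    (tau n F g).1 *ᵥ y = f := by
  have h1 : (tau n F g⁻¹).1 *ᵥ f = y := eq_of_hf fun z => by
    rw [hf_comm, ← hf_left, h, hf_comm]
  have h2 : (tau n F g).1 * (tau n F g⁻¹).1 = 1 := by
    change (tau n F g * tau n F g⁻¹).1 = _
    rw [← map_mul, mul_inv_cancel, map_one]; rfl
  rw [← h1, mulVec_mulVec, h2, one_mulVec]

theorem hf_sum {ι : Type} (s : Finset ι) (v : ι → Vn n F) (y : Vn n F) :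
    hf (∑ i ∈ s, v i) y = ∑ i ∈ s, hf (v i) y :=
  map_sum ((H54.SPI.BB n F).flip y) v s

theorem exists_equiv {ι : Type} [Finite ι] {v w : ι → Vn n F} (hv : LinearIndependent F v)
    (hw : LinearIndependent F w) : ∃ h : Vn n F ≃ₗ[F] Vn n F, ∀ i, h (v i) = w i := by
  obtain ⟨g, hg⟩ := Submodule.exists_linearEquiv_restrict_eq
    (hv.linearCombinationEquiv.symm ≪≫ₗ hw.linearCombinationEquiv)
  refine ⟨g, fun i => ?_⟩
  have h1 : (hv.linearCombinationEquiv (Finsupp.single i 1) : Vn n F) = v i := by simp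
  rw [← h1, ← hg]
  simp

theorem gen {r : ℕ} (c : Fin r → Fin (n + 1)) (hc : Function.Injective c)
    (hcc : ∀ i j, c j ≠ (c i).rev) (m : Fin (n + 1)) (hm : ∀ i, c i ≠ m) (hm' : ∀ i, (c i).rev ≠ m)
    {a f : Fin r → Vn n F} (ha : LinearIndependent F a) (hl : LinearIndependent F f)
    (h : ∀ i j, hf (a i) (f j) = 0) :
    ∃ g : SLn n F, ∀ i, g.1 *ᵥ ev (c i) = a i ∧ (tau n F g).1 *ᵥ ev (c i) = f i := by
  choose u hu using fun i => sep r f hl (Pi.single i 1)
  have k1 : ∀ (t : Fin r → F) j, hf (∑ i, t i • u i) (f j) = t j := fun t j => by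
    simp [hf_sum, hf_smul_left, hu, Pi.single_apply]
  have l1 : LinearIndependent F (Sum.elim a u) := Fintype.linearIndependent_iff.2 fun t ht => by
    rw [Fintype.sum_sum_type] at ht
    have h2 : ∀ j, t (Sum.inr j) = 0 := fun j => by
      have := congrArg (hf · (f j)) ht
      simpa [hf_add_left, k1, hf_sum, hf_smul_left, h] using this
    rintro (i | i)
    · exact Fintype.linearIndependent_iff.1 ha (fun i => t (Sum.inl i)) (by simpa [h2] using ht) i
    · exact h2 i
  have l2 : Function.Injective (Sum.elim c fun i => (c i).rev) := by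
    rintro (i | i) (j | j) e
    · exact congrArg _ (hc e)
    · exact absurd e (hcc j i)
    · exact absurd e.symm (hcc i j)
    · exact congrArg _ (hc (Fin.rev_injective e))
  obtain ⟨k, hk⟩ := exists_equiv (li_ev l2) l1
  let g : Vn n F →ₗ[F] Vn n F := k.toLinearMap + ∑ j, LinearMap.smulRight
    ((H54.SPI.BB n F).flip (ev (c j)) + (H54.SPI.BB n F).flip (f j) ∘ₗ k.toLinearMap) (u j)
  have g0 : ∀ x, g x = k x + ∑ j, (hf x (ev (c j)) + hf (k x) (f j)) • u j := fun x => by
    simp [g, H54.SPI.BB_apply]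
  have g1 : ∀ i, g (ev (c i)) = a i := fun i => by
    have : k (ev (c i)) = a i := hk (Sum.inl i)
    simp [g0, this, h, hf_ev, hcc]
  have g2 : ∀ x j, hf (g x) (f j) = hf x (ev (c j)) := fun x j => by
    rw [g0, hf_add_left, k1]; linear_combination hf (k x) (f j) * two0 F
  have g3 : Function.Injective g := (injective_iff_map_eq_zero g).2 fun x hx => by
    have e1 : ∀ j, hf x (ev (c j)) = 0 := fun j => by rw [← g2, hx, hf_zero_left]
    have e2 : x = ∑ j, hf (k x) (f j) • ev (c j).rev := k.injective (by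
      rw [g0, H54.SPI.add_eq_iff, zero_add] at hx
      rw [map_sum, hx]
      refine Finset.sum_congr rfl fun j _ => ?_
      rw [map_smul, show k (ev (c j).rev) = u j from hk (Sum.inr j), k1])
    have e3 : ∀ j, hf (k x) (f j) = 0 := fun j => by
      have := congrArg (hf · (ev (c j))) e2
      simp only [e1, hf_sum, hf_smul_left, hf_ev, Fin.rev_rev, hc.eq_iff] at this
      simpa using this.symm
    rw [e2]; simp [e3]
  have d0 : (LinearMap.toMatrix' g).det ≠ 0 := by
    rw [LinearMap.det_toMatrix']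
    exact (LinearMap.isUnit_iff_ker_eq_bot g |>.2 (LinearMap.ker_eq_bot.2 g3)).map LinearMap.det |>.ne_zero
  have m0 : ∀ x, LinearMap.toMatrix' g *ᵥ x = g x := fun x => by
    rw [← toLin'_apply, toLin'_toMatrix']
  refine ⟨⟨LinearMap.toMatrix' g * diagonal (Function.update 1 m (LinearMap.toMatrix' g).det⁻¹), by
    rw [det_mul, det_diagonal, Finset.prod_update_of_mem (Finset.mem_univ _)]
    simp only [Pi.one_apply, Finset.prod_const_one, mul_one, mul_inv_cancel₀ d0]⟩, fun i => ⟨?_, tau_eq fun x => ?_⟩⟩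
  · change (_ * _) *ᵥ _ = _
    rw [← mulVec_mulVec, m0, ← g1]
    congr 1
    ext j
    rw [mulVec_diagonal, ev_apply]
    split_ifs with e
    · rw [e, Function.update_of_ne (hm i)]; simp
    · simp
  · change hf ((_ * _) *ᵥ _) _ = _
    rw [← mulVec_mulVec, m0, g2, hf_ev_right, hf_ev_right, mulVec_diagonal,
      Function.update_of_ne (hm' i)]
    simp

variable [hp : Par n F]

theorem w1 (a f : Vn n F) (ha : a ≠ 0) (hf0 : f ≠ 0) (h : hf a f = 0) :
    ∃ g : SLn n F, g.1 *ᵥ ev 0 = a ∧ (tau n F g).1 *ᵥ ev 0 = f := by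
  have := hp.five
  obtain ⟨g, hg⟩ := gen (F := F) ![(0 : Fin (n + 1))] (Function.injective_of_subsingleton _)
    (fun i j => by fin_cases i; fin_cases j; simp [Fin.ext_iff]; omega) 1
    (fun i => by fin_cases i; simp [Fin.ext_iff, m1 this])
    (fun i => by fin_cases i; simp [Fin.ext_iff, m1 this]; omega)
    (a := ![a]) (f := ![f]) (linearIndependent_unique_iff.2 (by simpa using ha))
    (linearIndependent_unique_iff.2 (by simpa using hf0))
    (fun i j => by fin_cases i; fin_cases j; exact h)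
  exact ⟨g, hg 0⟩

theorem w2 (a f a' f' : Vn n F) (ha : Li a a') (hl : Li f f') (h1 : hf a f = 0) (h2 : hf a f' = 0)
    (h3 : hf a' f = 0) (h4 : hf a' f' = 0) : ∃ g : SLn n F, g.1 *ᵥ ev 0 = a ∧
      (tau n F g).1 *ᵥ ev 0 = f ∧ g.1 *ᵥ ev 1 = a' ∧ (tau n F g).1 *ᵥ ev 1 = f' := by
  have := hp.five
  obtain ⟨g, hg⟩ := gen (F := F) ![(0 : Fin (n + 1)), 1]
    (fun i j e => by fin_cases i <;> fin_cases j <;> simp_all [Fin.ext_iff, m1 this])
    (fun i j => by fin_cases i <;> fin_cases j <;> simp [Fin.ext_iff, m1 this] <;> omega) 2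
    (fun i => by fin_cases i <;> simp [Fin.ext_iff, m1 this, m2 this])
    (fun i => by fin_cases i <;> simp [Fin.ext_iff, m1 this, m2 this] <;> omega)
    (a := ![a, a']) (f := ![f, f']) (li_iff.1 ha) (li_iff.1 hl)
    (fun i j => by fin_cases i <;> fin_cases j <;> assumption)
  exact ⟨g, (hg 0).1, (hg 0).2, (hg 1).1, (hg 1).2⟩

end H62.SP3W
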