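import Cfsg.Agent.H67.P6.H67_SPIII
import Cfsg.Agent.H67.SAOut
import Cfsg.Agent.H85.P6.H81_UAFX
import Cfsg.Agent.H85.P6.H67_UAFQ
import Cfsg.Agent.H21.SLMult

namespace H67 end H67
open H67
namespace H69 end H69
open H69
namespace H85.P6 end H85.P6
open H85.P6
namespace H85.P6.H67 end H85.P6.H67
open H85.P6.H67
namespace H85.P6.H69 end H85.P6.H69
open H85.P6.H69
namespace H85.P6.H69.SP3 end H85.P6.H69.SP3
open H85.P6.H69.SP3
namespace H67.P6


/-! STD-SP (row S3129), chapter III, slots `QS`, `QL`, `QU`: the models are quasisimple. -/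

set_option autoImplicit false
set_option linter.unusedSectionVars false

namespace H69.SP3

open H67 H67.UA H67.SP
open H67.SA (SLn)
open H59.SO (NS)
open Subgroup

theorem ns_of {Y : Type} [Group Y] (hp : commutator Y = ⊤) (hs : IsSimpleGroup Y) : NS Y := by
  refine ⟨hs, fun g hg => ?_⟩
  have h1 : g ∈ center Y := mem_center_iff.2 fun a =>
    (mul_inv_eq_iff_eq_mul.1 (congrArg (fun f : MulAut Y => f a) hg)).symm
  rcases hs.eq_bot_or_eq_top_of_normal (center Y) inferInstance with h | h
  · exact mem_bot.1 (h ▸ h1)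
  · refine mem_bot.1 (le_trans hp.ge (commutator_le.2 fun a _ b _ => ?_) (mem_top g))
    exact mem_bot.2 (commutatorElement_eq_one_iff_mul_comm.2
      (mem_center_iff.1 (h.ge (mem_top b)) a))

theorem perf_quot {Y : Type} [Group Y] (hp : commutator Y = ⊤) (N : Subgroup Y) [N.Normal] :
    commutator (Y ⧸ N) = ⊤ := by
  have h2 := map_commutator_eq Y (QuotientGroup.mk' N)
  rw [hp, ← MonoidHom.range_eq_map, MonoidHom.range_eq_top.2 (QuotientGroup.mk'_surjective N)] at h2
  exact h2.symm

theorem jobQS : JobQS := by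
  intro n F _ _ _ _ _ _ b
  have ns := FA.ns (n := n) (F := F)
  have hc : center (XU n F) = ⊥ :=
    eq_bot_iff.2 fun a ha => mem_bot.2 (ns.eq_one fun c => (mem_center_iff.1 ha c).symm)
  have hp : commutator (XU n F) = ⊤ := eq_top_iff.2 ns.perfect
  have := ns.simple
  exact ⟨inferInstance, hp, by rw [hc, card_bot]; exact odd_one,
    fun N _ => (ns.normal N).imp_left fun h => h.le.trans bot_le, ns_of (perf_quot hp _)
      ((QuotientGroup.quotientMulEquivOfEq hc).trans QuotientGroup.quotientBot).isSimpleGroup⟩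

theorem jobQL : JobQL := fun n F _ _ _ h =>
  ⟨inferInstance, SA.perfect (by omega),
    SA.odd_card_center, fun N _ => SA.normal_le_center_or (by omega) N,
    ns_of (perf_quot (SA.perfect (by omega)) _)
      (H57.psl_isSimpleGroup_of_three_le (ι := Fin (n + 1)) (F := F) (by simp; omega))⟩

theorem jobQU : JobQU := by
  intro n K _ _ _ _ hp
  have := H67.UA.jobFQ n K
  have := Fintype.ofFinite K
  have := hp.five
  obtain ⟨P, e, -⟩ := H81.UAX.exists_iso (n := n) (K := K)
  have hperf := H81.UAX.perf_congr e H81.UAX.su_perf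
  have hs := H59.isSimpleGroup_PSU (H81.UAX.hF (K := K)) (n := n + 1) (by omega) (by omega)
  have hs' : IsSimpleGroup (XU n K ⧸ center (XU n K)) := (H55.quotCenterCongr e).isSimpleGroup
  refine ⟨inferInstance, hperf, ?_,
    H81.UAX.nrm_of hperf, ns_of (perf_quot hperf _) hs'⟩
  rw [Nat.card_congr (centerCongr e).toEquiv, H59.card_center_SU H81.UAX.hF (by omega)]
  obtain ⟨f, f1, hf⟩ := FQ.pow2 (K := K)
  refine Odd.of_dvd_nat ?_ (Nat.gcd_dvd_right _ _)
  rw [hf]
  exact (Nat.even_pow.2 ⟨even_two, by omega⟩).add_one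

end H69.SP3
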