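import Cfsg.Agent.H67.P6.H67_SWDef

namespace H83 end H83
open H83
namespace H98 end H98
open H98
namespace H85.P6 end H85.P6
open H85.P6
namespace H85.P6.H83 end H85.P6.H83
open H85.P6.H83
namespace H85.P6.H83.SWNU end H85.P6.H83.SWNU
open H85.P6.H83.SWNU
namespace H85.P6.H98 end H85.P6.H98
open H85.P6.H98
namespace H67.P6


/-! STD-SP, wreath endgame: `JobNU` (a port of `H86/WRNU`). -/

set_option autoImplicit false
set_option linter.unusedSectionVars false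

namespace H83.SWNU
export H64.SG (cjs)
export H67.SA (mem_cjs)
export H98 (conj_mem_of_mem_normalizer)

open H64.SG (O2 Syl Cz Cs Ns cjs Is2 Inv2 UF IsO2 fx mem_Cs mem_Cz mem_fx is2_of_sq)
open H67.SA (St cI cm mem_cjs conj_mem_cjs cm_eq_one)
open H86.WR (GW FD EE pr pr_le le_EE comm_EE cj_comm dec2)
open H67.SW (WG NK)
open H59.SO Subgroup Function H98
open scoped commutatorElement

universe u

variable {X : Type} [Group X] [Finite X] {U D A R : Subgroup X} {G : Type u} [Group G]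
  [Finite G] {e e₁ e₂ : X →* G} {t n : G}

theorem pr_or (w : WG U D A) (c : CW e t e₁ e₂) {P Q : Subgroup G} (h1 : P ⊔ Q = two e₁ e₂ U)
    (h2 : P ≤ Cs Q) : pr c P ≤ Cs U ∨ pr c Q ≤ Cs U := by
  refine w.ind _ (pr_le w.ns c (le_sup_left.trans h1.le)) _ (pr_le w.ns c (le_sup_right.trans h1.le))
    (fun u hu => ?_) fun a ⟨b, ha⟩ a' ⟨b', ha'⟩ => ?_
  · obtain ⟨p, hp, r, hr, h3⟩ := (mem_sup_left_norm (h2.trans (H64.SG.Cs_le_Ns _))).1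
      (h1.ge (mem_sup_left ⟨u, hu, rfl⟩))
    obtain ⟨a, -, b, -, rfl⟩ := c.mem_two.1 (h1.le (mem_sup_left hp))
    obtain ⟨a', -, b', -, rfl⟩ := c.mem_two.1 (h1.le (mem_sup_right hr))
    rw [(c.inj2 w.ns (a := u) (b := 1) (c := a * a') (d := b * b') (by
      rw [map_one, mul_one, h3, c.mul_mul])).1]
    exact mul_mem (mem_sup_left ⟨b, hp⟩) (mem_sup_right ⟨b', hr⟩)
  · have := h2 ha _ ha'
    rw [c.mul_mul, c.mul_mul] at this
    exact (c.inj2 w.ns this).1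

theorem not_both (w : WG U D A) (c : CW e t e₁ e₂) (ht : t * t = 1) {f : X →* G}
    (hf : Injective f) (h1 : cjs n (U.map f) ≤ EE U e₁ e₂) (h2 : cjs n (U.map f) ≤ EE U e₂ e₁) :
    False := by
  obtain ⟨y, y1, y2, y3⟩ := w.exZ
  have h3 : n * f y * n⁻¹ ∈ cjs n (⁅U, U⁆.map f) := conj_mem_cjs.2 ⟨y, w.zd ⟨y1, y3⟩, rfl⟩
  have := c.eq_one w.ns (map_le_range _ _ (cj_comm c h1 h3))
    (map_le_range _ _ (cj_comm (c.symm ht) h2 h3))
  exact y2 ((map_eq_one_iff _ hf).1 (conj_eq_one_iff.1 this))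

theorem fix_EE (w : WG U D A) (c : CW e t e₁ e₂) (ht : t * t = 1) (hn : n ∈ Ns (two e₁ e₂ U))
    (ho : Odd (orderOf n)) : cjs n (U.map e₁) ≤ EE U e₁ e₂ ∧ cjs n (U.map e₂) ≤ EE U e₂ e₁ := by
  have c' := c.symm ht
  have h1 : cjs n (U.map e₁) ⊔ cjs n (U.map e₂) = two e₁ e₂ U := (cj_sup _ _ _).symm.trans (cj_eq_self hn)
  have h2 : cjs n (U.map e₁) ≤ Cs (cjs n (U.map e₂)) := by
    rw [← H64.SG.cj_Cs]
    exact cj_mono n (((map_le_range _ _).trans c.le_Cs').trans (Cs_range_le _))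
  have p1 := le_sup_left.trans h1.le
  have p2 := le_sup_right.trans h1.le
  have hT : two e₂ e₁ U = two e₁ e₂ U := two_comm U
  have k1 := (pr_or w c' (h1.trans hT.symm) h2).imp (le_EE c ht p1) (le_EE c ht p2)
  have k2 := (pr_or w c h1 h2).imp (le_EE c' ht (p1.trans hT.ge)) (le_EE c' ht (p2.trans hT.ge))
  rcases k1 with k1 | k1 <;> rcases k2 with k2 | k2
  · exact (not_both w c ht c.inj k1 k2).elim
  · exact ⟨k1, k2⟩
  · exfalso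
    have h3 := H64.SG.mem_of_sq_mem (K := Ns (⁅U, U⁆.map e₁)) (mem_normalizer_of_cj_le
      ((cj_cj _ _ _).symm.trans_le ((cj_mono n (cj_comm c' k2)).trans (cj_comm c k1)))) ho
    obtain ⟨y, y1, y2, y3⟩ := w.exZ
    exact y2 ((map_eq_one_iff _ c.inj).1 (c.eq_one w.ns ⟨y, rfl⟩ (map_le_range _ _
      (cj_comm c' k2 ((cj_eq_self h3).ge ⟨y, w.zd ⟨y1, y3⟩, rfl⟩)))))
  · exact (not_both w c ht c.inj₂ k1 k2).elim

theorem norR (w : WG U D A) {f : X →* G} (hf : Injective f) (hn : n ∈ Ns (U.map f))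
    (hR : R = D ∨ R = A) : n ∈ Ns (R.map f) := by
  classical
  have h1 : ∀ u ∈ U, ∃ a ∈ U, n * f u * n⁻¹ = f a := fun u hu => by
    obtain ⟨a, ha, h⟩ := conj_mem_of_mem_normalizer hn (show f u ∈ U.map f from ⟨u, hu, rfl⟩)
    exact ⟨a, ha, h.symm⟩
  choose! θ h2 h4 using h1
  have h6 : Set.InjOn θ U := fun u hu v hv h6 => hf (by
    have := h4 u hu
    rw [h6, ← h4 v hv] at this
    simpa using this)
  have a : AutOn U θ := ⟨((Set.toFinite _).injOn_iff_bijOn_of_mapsTo h2).1 h6, fun a ha b hb =>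
    hf (by rw [← h4 _ (mul_mem ha hb), map_mul, map_mul, ← h4 a ha, ← h4 b hb, conj_mul])⟩
  refine mem_normalizer_of_cj_le ?_
  rintro _ ⟨_, ⟨u, hu, rfl⟩, rfl⟩
  exact ⟨_, w.invR hR a u hu, (h4 u (w.leU hR hu)).symm⟩

theorem stepB (w : WG U D A) (c : CW e t e₁ e₂) (g : GW D A e t e₁ e₂) (hR : R = D ∨ R = A)
    (h : cjs n (U.map e₁) ≤ two e₁ e₂ U) (n1 : n ∈ Ns (R.map e₁)) (n2 : n ∈ Ns (R.map e₂))
    {p u : X} (hp : p ∈ Ns R) (hu : u ∈ U) : n * e₁ (p * u * p⁻¹) * n⁻¹ ∈ G12 e₁ e₂ := by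
  have tt := g.uf.inv.1
  have t1 : t⁻¹ = t := inv_eq_of_mul_eq_one_right tt
  have key : ∀ a ∈ Ns R, n * e₁ a * n⁻¹ ∈ Ns (R.map e₁) ∧ n * e₁ a * n⁻¹ ∈ Cs (R.map e₂) :=
    fun a ha => ⟨mul_mem (mul_mem n1 (map_mem_Ns ha)) (inv_mem n1), conj_mem_of_mem_normalizer
      (normalizer_le_normalizer_centralizer _ n2) (Cs_range_le _ (c.le_Cs' ⟨a, rfl⟩))⟩
  have cM : Cs (R.map e₁) ⊓ Cs (R.map e₂) ≤ Ns (G12 e₁ e₂) :=
    (centralizer_sup _ _).ge.trans ((centralizer_le (c.map_le R)).trans (g.cu hR))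
  have cc : ∀ a b : G, a ∈ Ns (R.map e₁) → a ∈ Cs (R.map e₂) → b ∈ Cs (R.map e₁) →
      b ∈ Ns (R.map e₂) → cm a b ∈ Cs (R.map e₁) ⊓ Cs (R.map e₂) := fun a b a1 a2 b1 b2 =>
    mem_inf.2 ⟨mul_mem (conj_mem_of_mem_normalizer (normalizer_le_normalizer_centralizer _ a1) b1)
      (inv_mem b1), by
      have := mul_mem a2 (conj_mem_of_mem_normalizer
        (normalizer_le_normalizer_centralizer _ b2) (inv_mem a2))
      simpa only [cm, mul_assoc] using this⟩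
  obtain ⟨r1, r2⟩ := key p hp
  obtain ⟨u1, u2⟩ := key u (w.nor hR (le_normalizer hu))
  have u3 : Is2 (n * e₁ u * n⁻¹) :=
    ((H64.SG.isPGroup_iff_is2.1 w.syl.2.1 u hu).map e₁).map (MulAut.conj n).toMonoidHom
  obtain ⟨a, -, z, -, u4⟩ := c.mem_two.1 (h (conj_mem_cjs.2 ⟨u, hu, rfl⟩))
  rw [map_mul, map_mul, map_inv, ← conj_mul, ← conj_mul, ← conj_inv]
  generalize n * e₁ p * n⁻¹ = r at r1 r2
  generalize n * e₁ u * n⁻¹ = v at u1 u2 u3 u4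
  have s1 : t * r * t⁻¹ ∈ Cs (R.map e₁) := by
    rw [← (c.symm tt).cjs_map, ← H64.SG.cj_Cs]; exact conj_mem_cj r2
  have s2 : t * r * t⁻¹ ∈ Ns (R.map e₂) := by
    rw [← c.cjs_map, ← H64.SG.cj_Ns]; exact conj_mem_cj r1
  have k1 : r * (t * r * t⁻¹) ∈ Ns (G12 e₁ e₂) := g.uf.uf _ (by
    have : r * (t * r * t⁻¹) * t * (r * (t * r * t⁻¹))⁻¹ = cm r (t * r * t⁻¹) * t := by
      simp only [cm, mul_inv_rev, t1, mul_assoc]
      rw [← mul_assoc t t, tt, one_mul, mul_one]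
    rw [this]
    exact mul_mem (cM (cc _ _ r1 r2 s1 s2)) g.uf.mem)
  generalize t * r * t⁻¹ = s at s1 s2 k1
  have k2 := inv_mem (cc _ _ u1 u2 (inv_mem s1) (inv_mem s2))
  obtain ⟨y, y1, y2, y3⟩ := w.exZ
  obtain ⟨k3, k4⟩ := (g.pm _ (cM k2)).resolve_right fun k => y2 ((map_eq_one_iff _ c.inj).1
    (c.eq_one w.ns ⟨y, rfl⟩ (by
      rw [← k.1, mem_cjs, mul_assoc, k2.1 _ ⟨y, w.cenR hR y3, rfl⟩, inv_mul_cancel_left]
      exact ⟨y, rfl⟩)))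
  obtain ⟨β₁, i1⟩ := exists_ind c.inj k3
  obtain ⟨β₂, i2⟩ := exists_ind c.inj₂ k4
  obtain ⟨ζ₁, -, -, rfl⟩ := w.ct R hR β₁ (i1.fix c.inj k2.1)
  obtain ⟨ζ₂, -, -, rfl⟩ := w.ct R hR β₂ (i2.fix c.inj₂ k2.2)
  have j1 := i1.mul (u4 ▸ c.ind₁ a z : Ind e₁ v _)
  have j2 := i2.mul (u4 ▸ c.ind₂ a z : Ind e₂ v _)
  rw [← map_mul, show (cm v s⁻¹)⁻¹ * v = s⁻¹ * v * s⁻¹⁻¹ by unfold cm; group] at j1 j2
  have k5 := dec2 w.ns c g.odd (u3.map (MulAut.conj s⁻¹).toMonoidHom) j1 j2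
  rw [show r * v * r⁻¹ = r * s * (s⁻¹ * v * s⁻¹⁻¹) * (r * s)⁻¹ by group]
  exact conj_mem_of_mem_normalizer k1 (c.mem_G12.2 ⟨_, _, k5⟩)

theorem cj_range (w : WG U D A) (c : CW e t e₁ e₂) (g : GW D A e t e₁ e₂)
    (hn : n ∈ Ns (two e₁ e₂ U)) (n1 : n ∈ Ns (U.map e₁)) (n2 : n ∈ Ns (U.map e₂)) :
    cjs n e₁.range ≤ G12 e₁ e₂ := by
  have : closure {g | ∃ u ∈ U, ∃ p, (p ∈ Ns D ∨ p ∈ Ns A) ∧ g = p * u * p⁻¹} ≤
      (G12 e₁ e₂).comap (cje n e₁) := (closure_le _).2 (by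
    have k : ∀ R, R = D ∨ R = A → ∀ p ∈ Ns R, ∀ u ∈ U, n * e₁ (p * u * p⁻¹) * n⁻¹ ∈ G12 e₁ e₂ :=
      fun R hR p hp u hu => stepB w c g hR (cj_le_of_le le_sup_left hn) (norR w c.inj n1 hR)
        (norR w c.inj₂ n2 hR) hp hu
    rintro _ ⟨u, hu, p, hp | hp, rfl⟩
    exacts [k D (.inl rfl) p hp u hu, k A (.inr rfl) p hp u hu])
  rintro _ ⟨_, ⟨a, rfl⟩, rfl⟩
  exact this (w.top.ge (mem_top a))

theorem jobNU : H67.SW.JobNU.{u} := by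
  intro X _ _ U D A w G _ _ e t b e₁ e₂ c g nk
  refine H67.SA.jobK11 g.uf (IsConj.refl t) g.uf.mem _ (c.t_mem_Ns b.inv.1 U) fun n hn ho => ?_
  obtain ⟨h1, h2⟩ := fix_EE w c b.inv.1 hn ho
  obtain ⟨n1, n2⟩ := nk n hn ho h1 h2
  refine mem_normalizer_of_cj_le ((cj_sup _ _ _).le.trans (sup_le (cj_range w c g hn n1 n2) ?_))
  exact (cj_range w (c.symm b.inv.1) (g.symm c) (by rwa [two_comm]) n2 n1).trans G12_comm.le

end H83.SWNU
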